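import Groth.Agent.Misc9.SF.Formal
import Groth.Agent.Adic.PowerSeries
import Mathlib.RingTheory.MvPowerSeries.Trunc

/-! Power series rings over coefficient rings; the smooth criterion. -/

universe u v

set_option synthInstance.maxHeartbeats 20000
set_option maxHeartbeats 400000

open CategoryTheory

namespace Groth.Agent.Misc9.SF

open ArtFun ArtFun.Art

variable {Λ k : Type u} [CommRing Λ] [Field k] [Algebra Λ k]

/-- a complete Noetherian local base as a coefficient ring over itself. -/
noncomputable def cringSelf [IsLocalRing Λ] [IsNoetherianRing Λ] [IsAdicComplete (IsLocalRing.maximalIdeal Λ) Λ]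
    (h : Function.Surjective (algebraMap Λ k)) : CRing Λ k :=
  { carrier := Λ, res := Algebra.ofId Λ k, res_surjective := h, isAdicComplete := inferInstance }

section PS

variable (C : CRing Λ k) (n : ℕ)

/-- the augmentation of the power series ring. -/
noncomputable def psRes : MvPowerSeries (Fin n) C.carrier →ₐ[Λ] k :=
  { (C.res : C.carrier →+* k).comp MvPowerSeries.constantCoeff with
    commutes' := fun l => by
      change C.res (MvPowerSeries.constantCoeff (algebraMap Λ (MvPowerSeries (Fin n) C.carrier) l)) = _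
      rw [MvPowerSeries.algebraMap_apply, MvPowerSeries.constantCoeff_C, C.res.commutes] }

theorem psRes_apply (f : MvPowerSeries (Fin n) C.carrier) : psRes C n f = C.res (MvPowerSeries.constantCoeff f) := rfl

theorem mem_psMaximal (f : MvPowerSeries (Fin n) C.carrier) :
    f ∈ IsLocalRing.maximalIdeal (MvPowerSeries (Fin n) C.carrier) ↔
      MvPowerSeries.constantCoeff f ∈ IsLocalRing.maximalIdeal C.carrier := by
  rw [IsLocalRing.mem_maximalIdeal, IsLocalRing.mem_maximalIdeal, mem_nonunits_iff, mem_nonunits_iff,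
    MvPowerSeries.isUnit_iff_constantCoeff]

theorem mX_le_psMaximal :
    Adic.PowerSeries.mX (Fin n) C.carrier ≤ IsLocalRing.maximalIdeal (MvPowerSeries (Fin n) C.carrier) := by
  refine Ideal.span_le.2 ?_
  rintro _ ⟨i, rfl⟩
  rw [SetLike.mem_coe, mem_psMaximal, MvPowerSeries.constantCoeff_X]
  exact zero_mem _

theorem coeff_mem_of_mem_pow {N : ℕ} {f : MvPowerSeries (Fin n) C.carrier}
    (hf : f ∈ IsLocalRing.maximalIdeal (MvPowerSeries (Fin n) C.carrier) ^ N) (d : Fin n →₀ ℕ) :
    MvPowerSeries.coeff d f ∈ IsLocalRing.maximalIdeal C.carrier ^ (N - d.degree) := by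
  classical
  induction N generalizing f d with
  | zero => simp
  | succ N ih =>
    rw [pow_succ] at hf
    induction hf using Submodule.mul_induction_on' with
    | add u _ v _ hu hv => rw [map_add]; exact add_mem hu hv
    | mem_mul_mem a ha b hb =>
      rw [MvPowerSeries.coeff_mul]
      refine Ideal.sum_mem _ fun p hp => ?_
      rw [Finset.HasAntidiagonal.mem_antidiagonal] at hp
      have h4 : p.1.degree + p.2.degree = d.degree := by rw [← map_add, hp]
      by_cases h2 : p.2 = 0
      · rw [h2, MvPowerSeries.coeff_zero_eq_constantCoeff_apply]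
        rw [h2, map_zero, add_zero] at h4
        have := Ideal.mul_mem_mul (ih ha p.1) ((mem_psMaximal C n b).1 hb)
        rw [← pow_succ] at this
        exact Ideal.pow_le_pow_right (by omega) this
      · have h3 : p.2.degree ≠ 0 := fun h => h2 ((Finsupp.degree_eq_zero_iff _).1 h)
        exact Ideal.mul_mem_right _ _ (Ideal.pow_le_pow_right (by omega) (ih ha p.1))

theorem sub_truncTotal_mem (N : ℕ) (f : MvPowerSeries (Fin n) C.carrier) :
    f - ((MvPowerSeries.truncTotal N f : MvPolynomial (Fin n) C.carrier) : MvPowerSeries (Fin n) C.carrier) ∈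
      Adic.PowerSeries.mX (Fin n) C.carrier ^ N := by
  rw [Adic.PowerSeries.mem_pow_iff]
  intro d hd
  rw [map_sub, MvPolynomial.coeff_coe, MvPowerSeries.coeff_truncTotal _ hd, sub_self]

theorem mem_psMaximal_pow_of_coeff {N : ℕ} {f : MvPowerSeries (Fin n) C.carrier}
    (h : ∀ d : Fin n →₀ ℕ, d.degree < N → MvPowerSeries.coeff d f ∈ IsLocalRing.maximalIdeal C.carrier ^ (N - d.degree)) :
    f ∈ IsLocalRing.maximalIdeal (MvPowerSeries (Fin n) C.carrier) ^ N := by
  classical
  have h1 := Ideal.pow_right_mono (mX_le_psMaximal C n) N (sub_truncTotal_mem C n N f)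
  have h2 : ((MvPowerSeries.truncTotal N f : MvPolynomial (Fin n) C.carrier) : MvPowerSeries (Fin n) C.carrier) ∈
      IsLocalRing.maximalIdeal (MvPowerSeries (Fin n) C.carrier) ^ N := by
    rw [← MvPolynomial.coeToMvPowerSeries.ringHom_apply, (MvPowerSeries.truncTotal N f).as_sum, map_sum]
    refine Ideal.sum_mem _ fun d hd => ?_
    have hdN : d.degree < N := by
      by_contra hge
      exact (MvPolynomial.mem_support_iff.1 hd) (MvPowerSeries.coeff_truncTotal_eq_zero f (not_lt.1 hge))
    rw [MvPowerSeries.coeff_truncTotal f hdN, MvPolynomial.coeToMvPowerSeries.ringHom_apply, MvPolynomial.coe_monomial,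
      show MvPowerSeries.monomial d (MvPowerSeries.coeff d f) =
        MvPowerSeries.C (MvPowerSeries.coeff d f) * MvPowerSeries.monomial d (1 : C.carrier) by
          rw [← MvPowerSeries.monomial_zero_eq_C_apply, MvPowerSeries.monomial_mul_monomial, zero_add, mul_one],
      show N = (N - d.degree) + d.degree by omega, pow_add]
    refine Ideal.mul_mem_mul ?_ (Ideal.pow_right_mono (mX_le_psMaximal C n) _ ?_)
    · have hC : (IsLocalRing.maximalIdeal C.carrier).map (MvPowerSeries.C : C.carrier →+* MvPowerSeries (Fin n) C.carrier) ≤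
          IsLocalRing.maximalIdeal (MvPowerSeries (Fin n) C.carrier) := by
        refine Ideal.map_le_iff_le_comap.2 fun a ha => ?_
        rw [Ideal.mem_comap, mem_psMaximal, MvPowerSeries.constantCoeff_C]
        exact ha
      have h3 := Ideal.mem_map_of_mem (MvPowerSeries.C : C.carrier →+* MvPowerSeries (Fin n) C.carrier) (h d hdN)
      rw [Ideal.map_pow] at h3
      exact Ideal.pow_right_mono hC _ h3
    · rw [Adic.PowerSeries.mem_pow_iff]
      intro e he
      rw [MvPowerSeries.coeff_monomial, if_neg]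
      rintro rfl
      exact lt_irrefl _ he
  have := add_mem h1 h2
  rwa [sub_add_cancel] at this

theorem isPrecomplete_ps :
    IsPrecomplete (IsLocalRing.maximalIdeal (MvPowerSeries (Fin n) C.carrier)) (MvPowerSeries (Fin n) C.carrier) := by
  refine ⟨fun f hf => ?_⟩
  have hf' : ∀ a b, a ≤ b → f a - f b ∈ IsLocalRing.maximalIdeal (MvPowerSeries (Fin n) C.carrier) ^ a := fun a b h => by
    have := hf h
    rwa [SModEq.sub_mem, smul_eq_mul, Ideal.mul_top] at this
  have hd : ∀ d : Fin n →₀ ℕ, ∃ L : C.carrier, ∀ j, MvPowerSeries.coeff d (f (j + d.degree)) - L ∈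
      IsLocalRing.maximalIdeal C.carrier ^ j := fun d => by
    obtain ⟨L, hL⟩ := IsPrecomplete.prec' (I := IsLocalRing.maximalIdeal C.carrier)
      (fun j => MvPowerSeries.coeff d (f (j + d.degree))) (fun {a b} h => by
        rw [SModEq.sub_mem, smul_eq_mul, Ideal.mul_top, ← map_sub]
        have := coeff_mem_of_mem_pow C n (hf' (a + d.degree) (b + d.degree) (by omega)) d
        rwa [Nat.add_sub_cancel] at this)
    refine ⟨L, fun j => ?_⟩
    have := hL j
    rwa [SModEq.sub_mem, smul_eq_mul, Ideal.mul_top] at this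
  choose L hL using hd
  let F : MvPowerSeries (Fin n) C.carrier := L
  have hF : ∀ d, MvPowerSeries.coeff d F = L d := fun d => rfl
  refine ⟨F, fun N => ?_⟩
  rw [SModEq.sub_mem, smul_eq_mul, Ideal.mul_top]
  refine mem_psMaximal_pow_of_coeff C n fun d hd => ?_
  have h1 := hL d (N - d.degree)
  rw [Nat.sub_add_cancel hd.le] at h1
  rwa [map_sub, hF]

/-- the power series ring over a coefficient ring, as a coefficient ring. -/
noncomputable def psRing : CRing Λ k :=
  { carrier := MvPowerSeries (Fin n) C.carrier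
    res := psRes C n
    res_surjective := fun c => (C.res_surjective c).elim fun a ha =>
      ⟨MvPowerSeries.C a, by rw [psRes_apply, MvPowerSeries.constantCoeff_C, ha]⟩
    isAdicComplete :=
      haveI := isPrecomplete_ps C n
      haveI : IsHausdorff (IsLocalRing.maximalIdeal (MvPowerSeries (Fin n) C.carrier))
        (MvPowerSeries (Fin n) C.carrier) := inferInstance
      ⟨⟩ }

/-- the constants. -/
noncomputable def psC : C.carrier →ₐ[Λ] (psRing C n).carrier :=
  { (MvPowerSeries.C : C.carrier →+* MvPowerSeries (Fin n) C.carrier) with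
    commutes' := fun l => by
      change MvPowerSeries.C (algebraMap Λ C.carrier l) = algebraMap Λ (MvPowerSeries (Fin n) C.carrier) l
      rw [MvPowerSeries.algebraMap_apply] }

/-- the variables. -/
noncomputable def psX (i : Fin n) : (psRing C n).carrier := MvPowerSeries.X i

theorem psC_res : (psRing C n).res.comp (psC C n) = C.res :=
  AlgHom.ext fun a => by
    change C.res (MvPowerSeries.constantCoeff (MvPowerSeries.C a : MvPowerSeries (Fin n) C.carrier)) = _
    rw [MvPowerSeries.constantCoeff_C]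

theorem psX_res (i : Fin n) : (psRing C n).res (psX C n i) = 0 :=
  (congrArg C.res (MvPowerSeries.constantCoeff_X i)).trans (map_zero _)

variable {C n}

theorem ps_kill {A : Art Λ k} (ψ : HomSet (psRing C n).carrier (psRing C n).res A) {N : ℕ}
    (hN : IsLocalRing.maximalIdeal A ^ N = ⊥) {f : MvPowerSeries (Fin n) C.carrier}
    (hf : f ∈ Adic.PowerSeries.mX (Fin n) C.carrier ^ N) : ψ.1 f = 0 := by
  have h1 : (IsLocalRing.maximalIdeal (psRing C n).carrier).map ψ.1 ≤ IsLocalRing.maximalIdeal A := by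
    refine Ideal.map_le_iff_le_comap.2 fun r hr => ?_
    rw [Ideal.mem_comap, A.mem_maximalIdeal_iff, ← AlgHom.comp_apply, ψ.2, ← CRing.mem_maximalIdeal_iff]
    exact hr
  have h2 := Ideal.mem_map_of_mem ψ.1 (Ideal.pow_right_mono (mX_le_psMaximal C n) N hf : (f : (psRing C n).carrier) ∈
    IsLocalRing.maximalIdeal (psRing C n).carrier ^ N)
  erw [Ideal.map_pow] at h2
  have h3 := Ideal.pow_right_mono h1 N h2
  rw [hN] at h3
  exact h3

theorem ps_hom_ext {A : Art Λ k} {ψ ψ' : HomSet (psRing C n).carrier (psRing C n).res A}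
    (hC : alongHom (psC C n) (psC_res C n) ψ = alongHom (psC C n) (psC_res C n) ψ')
    (hX : ∀ i, ψ.1 (psX C n i) = ψ'.1 (psX C n i)) : ψ = ψ' := by
  obtain ⟨N, hN⟩ := exists_pow_eq_bot A
  refine homSet_ext fun f => ?_
  have key : ∀ p : MvPolynomial (Fin n) C.carrier,
      ψ.1 (p : MvPowerSeries (Fin n) C.carrier) = ψ'.1 (p : MvPowerSeries (Fin n) C.carrier) := fun p => by
    induction p using MvPolynomial.induction_on with
    | C a => rw [MvPolynomial.coe_C]; exact AlgHom.congr_fun (congrArg Subtype.val hC) a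
    | add p q hp hq =>
      rw [MvPolynomial.coe_add]
      exact (map_add ψ.1 _ _).trans ((congrArg₂ _ hp hq).trans (map_add ψ'.1 _ _).symm)
    | mul_X p i hp =>
      rw [MvPolynomial.coe_mul, MvPolynomial.coe_X]
      exact (map_mul ψ.1 _ _).trans ((congrArg₂ _ hp (hX i)).trans (map_mul ψ'.1 _ _).symm)
  have e1 := ps_kill ψ hN (sub_truncTotal_mem C n N f)
  have e2 := ps_kill ψ' hN (sub_truncTotal_mem C n N f)
  have e1' := (map_sub ψ.1 f _).symm.trans e1
  have e2' := (map_sub ψ'.1 f _).symm.trans e2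
  rw [sub_eq_zero.1 e1', sub_eq_zero.1 e2', key]

theorem exists_ps_hom {A : Art Λ k} (φ : HomSet C.carrier C.res A) (c : Fin n → A)
    (hc : ∀ i, c i ∈ IsLocalRing.maximalIdeal A) :
    ∃ ψ : HomSet (psRing C n).carrier (psRing C n).res A,
      alongHom (psC C n) (psC_res C n) ψ = φ ∧ ∀ i, ψ.1 (psX C n i) = c i := by
  classical
  obtain ⟨N₀, hN₀⟩ := exists_pow_eq_bot A
  let N := N₀ + 2
  have hN : IsLocalRing.maximalIdeal A ^ N = ⊥ :=
    eq_bot_iff.2 ((Ideal.pow_le_pow_right (by omega)).trans hN₀.le)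
  let ev : MvPolynomial (Fin n) C.carrier →+* A := MvPolynomial.eval₂Hom (φ.1 : C.carrier →+* A) c
  have hlow : ∀ p : MvPolynomial (Fin n) C.carrier, (∀ d, d.degree < N → p.coeff d = 0) → ev p = 0 := by
    intro p hp
    rw [p.as_sum, map_sum]
    refine Finset.sum_eq_zero fun d hd => ?_
    have hdN : N ≤ d.degree := not_lt.1 fun h => (MvPolynomial.mem_support_iff.1 hd) (hp d h)
    rw [MvPolynomial.eval₂Hom_monomial, ← Submodule.mem_bot (R := A.carrier), ← hN]
    refine Ideal.mul_mem_left _ _ (Ideal.pow_le_pow_right hdN ?_)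
    rw [Finsupp.degree_eq_sum, ← Finset.prod_pow_eq_pow_sum, Finsupp.prod_fintype _ _ fun i => pow_zero _]
    exact Ideal.prod_mem_prod fun i _ => Ideal.pow_mem_pow (hc i) _
  let ψ₀ : MvPowerSeries (Fin n) C.carrier →ₐ[Λ] A :=
    { toFun := fun f => ev (MvPowerSeries.truncTotal N f)
      map_one' := by rw [MvPowerSeries.truncTotal_one (by omega), map_one]
      map_mul' := fun f g => by
        rw [← map_mul, ← sub_eq_zero, ← map_sub]
        refine hlow _ fun d hd => ?_
        rw [MvPolynomial.coeff_sub, MvPowerSeries.coeff_truncTotal _ hd,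
          MvPowerSeries.coeff_truncTotal_mul_truncTotal_eq_coeff_mul _ _ hd, sub_self]
      map_zero' := by rw [map_zero, map_zero]
      map_add' := fun f g => by rw [map_add, map_add]
      commutes' := fun l => by
        rw [MvPowerSeries.algebraMap_apply, ← sub_eq_zero, ← φ.1.commutes,
          show φ.1 (algebraMap Λ C.carrier l) = ev (MvPolynomial.C (algebraMap Λ C.carrier l)) from
            (MvPolynomial.eval₂Hom_C _ _ _).symm, ← map_sub]
        refine hlow _ fun d hd => ?_
        rw [MvPolynomial.coeff_sub, MvPowerSeries.coeff_truncTotal _ hd, ← MvPolynomial.coe_C,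
          MvPolynomial.coeff_coe, sub_self] }
  have hpoly : ∀ p : MvPolynomial (Fin n) C.carrier, ψ₀ (p : MvPowerSeries (Fin n) C.carrier) = ev p := fun p => by
    change ev _ = ev p
    rw [← sub_eq_zero, ← map_sub]
    refine hlow _ fun d hd => ?_
    rw [MvPolynomial.coeff_sub, MvPowerSeries.coeff_truncTotal _ hd, MvPolynomial.coeff_coe, sub_self]
  have hres : A.res.comp ψ₀ = psRes C n := by
    refine AlgHom.ext fun f => ?_
    have h1 : (ev (MvPowerSeries.truncTotal N f)) - φ.1 (MvPowerSeries.constantCoeff f) ∈ IsLocalRing.maximalIdeal A := by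
      have h2 : ∀ p : MvPolynomial (Fin n) C.carrier, ev p - φ.1 (MvPolynomial.constantCoeff p) ∈ IsLocalRing.maximalIdeal A := fun p => by
        induction p using MvPolynomial.induction_on with
        | C a => simp [ev]
        | add p q hp hq => rw [map_add, map_add, map_add, add_sub_add_comm]; exact add_mem hp hq
        | mul_X p i hp =>
          rw [map_mul, map_mul, MvPolynomial.constantCoeff_X, mul_zero, map_zero, sub_zero]
          refine Ideal.mul_mem_left _ _ ?_
          simp [ev, hc i]
      have := h2 (MvPowerSeries.truncTotal N f)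
      rwa [MvPowerSeries.constantCoeff_truncTotal_eq_ite, if_pos (by omega)] at this
    rw [A.mem_maximalIdeal_iff, map_sub, sub_eq_zero] at h1
    exact h1.trans (AlgHom.congr_fun φ.2 _)
  refine ⟨⟨ψ₀, hres⟩, homSet_ext fun a => ?_, fun i => ?_⟩
  · change ψ₀ (MvPowerSeries.C a) = _
    rw [← MvPolynomial.coe_C, hpoly]
    exact MvPolynomial.eval₂Hom_C _ _ _
  · change ψ₀ (MvPowerSeries.X i) = _
    rw [← MvPolynomial.coe_X, hpoly]
    exact MvPolynomial.eval₂Hom_X' _ _ _

variable (C n) in
theorem ps_lift {B A : Art Λ k} (μ : B ⟶ A) (hμ : Function.Surjective μ)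
    (φ : HomSet (psRing C n).carrier (psRing C n).res A) (y : HomSet C.carrier C.res B)
    (hy : HomSet.map μ y = alongHom (psC C n) (psC_res C n) φ) :
    ∃ ψ : HomSet (psRing C n).carrier (psRing C n).res B,
      HomSet.map μ ψ = φ ∧ alongHom (psC C n) (psC_res C n) ψ = y := by
  choose c hc using fun i => hμ (φ.1 (psX C n i))
  obtain ⟨ψ, hψ, hψX⟩ := exists_ps_hom y c fun i => by
    rw [B.mem_maximalIdeal_iff, ← res_app μ, hc, ← AlgHom.comp_apply, φ.2, psX_res]
  refine ⟨ψ, ps_hom_ext ?_ fun i => ?_, hψ⟩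
  · rw [← map_alongHom, hψ, hy]
  · change μ (ψ.1 _) = _
    rw [hψX, hc]

end PS

/-! ### Smoothness and isomorphisms -/

section Iso

theorem bijective_of_smooth {P S : CRing Λ k} (α : P.carrier →ₐ[Λ] S.carrier) (hα : S.res.comp α = P.res)
    (hS : IsSmoothFunctor (hR S.carrier S.res))
    (hb : Function.Bijective (fun a : HomSet S.carrier S.res (dual Λ k) => alongHom α hα a)) :
    Function.Bijective α := by
  have hαs : Function.Surjective α := surjective_of_dual_injective α hα fun a b h => hb.1 h
  have hτs : Function.Surjective (CRing.truncMapOfHom α hα 1) := fun y => by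
    obtain ⟨y, rfl⟩ := Ideal.Quotient.mk_surjective y
    obtain ⟨x, rfl⟩ := hαs y
    exact ⟨Ideal.Quotient.mk _ x, rfl⟩
  obtain ⟨φ₁, hφ₁⟩ := hS (CRing.truncMapOfHom α hα 1) hτs (S.truncHom 1)
  have step : ∀ n (φ : HomSet S.carrier S.res (P.trunc (n + 1))),
      ∃ ψ : HomSet S.carrier S.res (P.trunc (n + 1 + 1)), HomSet.map (P.truncMap (n + 1)) ψ = φ := fun n φ =>
    hS (P.truncMap (n + 1)) (truncMap_surjective P (n + 1)) φ
  choose next hnext using step
  let seq : (n : ℕ) → HomSet S.carrier S.res (P.trunc (n + 1)) := fun n => Nat.rec φ₁ (fun n φ => next n φ) n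
  let sys : (n : ℕ) → HomSet S.carrier S.res (P.trunc n) := fun n => HomSet.map (P.truncMap n) (seq n)
  obtain ⟨β, hβ, hβn⟩ := exists_hom_of_system sys fun n => by
    change HomSet.map _ (HomSet.map _ (seq (n + 1))) = HomSet.map _ _
    exact congrArg _ (hnext n (seq n))
  have h1 : alongHom β hβ (P.truncHom 1) = φ₁ := (hβn 1).trans (hnext 0 φ₁)
  have hγ : S.res.comp (α.comp β) = S.res := by rw [← AlgHom.comp_assoc, hα, hβ]
  have hγ1 : ∀ a : HomSet S.carrier S.res (dual Λ k), alongHom (α.comp β) hγ a = a := fun a => by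
    obtain ⟨g, hg⟩ := exists_factor_one S dual_sq_zero a
    rw [← hg, ← map_alongHom]
    refine congrArg (HomSet.map g) (homSet_ext fun s => ?_)
    have := AlgHom.congr_fun (congrArg Subtype.val hφ₁) s
    rw [← h1] at this
    exact this
  have hγs : Function.Surjective (α.comp β) :=
    surjective_of_dual_injective (α.comp β) hγ fun a b h => by rw [← hγ1 a, ← hγ1 b, h]
  have hγb := injective_of_surjective_endo (α.comp β).toRingHom hγs
  have hβs : Function.Surjective β := surjective_of_dual_injective β hβ fun a b h => by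
    obtain ⟨a₁, rfl⟩ : ∃ a₁, alongHom α hα a₁ = a := hb.2 a
    obtain ⟨b₁, rfl⟩ : ∃ b₁, alongHom α hα b₁ = b := hb.2 b
    have h' : alongHom (α.comp β) hγ a₁ = alongHom (α.comp β) hγ b₁ :=
      homSet_ext fun s => AlgHom.congr_fun (congrArg Subtype.val h) s
    rw [hγ1, hγ1] at h'
    rw [h']
  refine ⟨fun x y e => ?_, hαs⟩
  obtain ⟨x, rfl⟩ := hβs x
  obtain ⟨y, rfl⟩ := hβs y
  rw [hγb e]

theorem res_unique {P : CRing Λ k} (ρ : P.carrier →ₐ[Λ] k) (hρ : Function.Surjective ρ) {R : Type u} [CommRing R]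
    [Algebra Λ R] (i : R →ₐ[Λ] P.carrier) (hi : Function.Surjective (P.res.comp i))
    (h : ρ.comp i = P.res.comp i) : ρ = P.res := by
  refine AlgHom.ext fun f => ?_
  obtain ⟨r, hr⟩ := hi (P.res f)
  have hm : f - i r ∈ IsLocalRing.maximalIdeal P.carrier := by
    rw [CRing.mem_maximalIdeal_iff, map_sub, ← AlgHom.comp_apply, hr, sub_self]
  rw [← IsLocalRing.eq_maximalIdeal (RingHom.ker_isMaximal_of_surjective (ρ : P.carrier →+* k) hρ), RingHom.mem_ker] at hm
  have hm' : ρ (f - i r) = 0 := hm
  rw [map_sub, sub_eq_zero] at hm'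
  rw [hm', ← AlgHom.comp_apply, h, hr]

/-- transport of smoothness along an isomorphism. -/
theorem isSmoothFunctor_of_equiv {P S : CRing Λ k} (e : P.carrier ≃ₐ[Λ] S.carrier)
    (he : S.res.comp (e : P.carrier →ₐ[Λ] S.carrier) = P.res) (hP : IsSmoothFunctor (hR P.carrier P.res)) :
    IsSmoothFunctor (hR S.carrier S.res) := fun B A μ hμ φ => by
  obtain ⟨ψ, hψ⟩ := hP μ hμ (alongHom (e : P.carrier →ₐ[Λ] S.carrier) he φ)
  have he' : P.res.comp (e.symm : S.carrier →ₐ[Λ] P.carrier) = S.res := AlgHom.ext fun s => by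
    change P.res (e.symm s) = S.res s
    rw [← he]
    exact congrArg S.res (e.apply_symm_apply s)
  refine ⟨alongHom (e.symm : S.carrier →ₐ[Λ] P.carrier) he' ψ, homSet_ext fun s => ?_⟩
  have := AlgHom.congr_fun (congrArg Subtype.val hψ) (e.symm s)
  exact this.trans (congrArg φ.1 (e.apply_symm_apply s))

theorem res_comp_psEquiv {C S : CRing Λ k} {n : ℕ} (e : S.carrier ≃ₐ[Λ] (psRing C n).carrier)
    (hC : S.res.comp ((e.symm : (psRing C n).carrier →ₐ[Λ] S.carrier).comp (psC C n)) = C.res) :
    S.res.comp (e.symm : (psRing C n).carrier →ₐ[Λ] S.carrier) = (psRing C n).res := by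
  refine res_unique _ (S.res_surjective.comp e.symm.surjective) (psC C n) (by rw [psC_res]; exact C.res_surjective) ?_
  rw [AlgHom.comp_assoc, hC, psC_res]

variable [IsLocalRing Λ] [IsNoetherianRing Λ] [IsAdicComplete (IsLocalRing.maximalIdeal Λ) Λ]
  (hk : Function.Surjective (algebraMap Λ k))

/-- the unique point of `h_Λ`. -/
def selfPt (A : Art Λ k) : HomSet (cringSelf (k := k) hk).carrier (cringSelf (k := k) hk).res A :=
  ⟨show Λ →ₐ[Λ] A.carrier from Algebra.ofId Λ A.carrier, AlgHom.ext fun l => A.res.commutes l⟩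

theorem self_hom_ext {A : Art Λ k} (u w : HomSet (cringSelf (k := k) hk).carrier (cringSelf (k := k) hk).res A) : u = w :=
  homSet_ext fun l => by
    have hl : l = algebraMap Λ (cringSelf (k := k) hk).carrier l := rfl
    rw [hl]
    exact (u.1.commutes _).trans (w.1.commutes _).symm

theorem ps_self_smooth (n : ℕ) :
    IsSmoothFunctor (hR (psRing (cringSelf (k := k) hk) n).carrier (psRing (cringSelf (k := k) hk) n).res) := fun B A μ hμ φ => by
  obtain ⟨ψ, hψ, -⟩ := ps_lift (cringSelf (k := k) hk) n μ hμ φ (selfPt hk B)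
    (self_hom_ext hk _ _)
  exact ⟨ψ, hψ⟩

include hk in
theorem isSmoothFunctor_of_psEquiv (R : CRing Λ k) {n : ℕ} (e : R.carrier ≃ₐ[Λ] MvPowerSeries (Fin n) Λ) :
    IsSmoothFunctor (hR R.carrier R.res) := by
  let e' : R.carrier ≃ₐ[Λ] (psRing (cringSelf (k := k) hk) n).carrier := e
  have hres : R.res.comp (e'.symm : (psRing (cringSelf (k := k) hk) n).carrier →ₐ[Λ] R.carrier) =
      (psRing (cringSelf (k := k) hk) n).res :=
    res_comp_psEquiv (C := cringSelf (k := k) hk) e' (AlgHom.ext fun l => by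
      have hl : l = algebraMap Λ (cringSelf (k := k) hk).carrier l := rfl
      rw [hl]
      exact (AlgHom.commutes _ _).trans (AlgHom.commutes _ _).symm)
  exact isSmoothFunctor_of_equiv (e'.symm : (psRing (cringSelf (k := k) hk) n).carrier ≃ₐ[Λ] R.carrier) hres (ps_self_smooth hk n)

end Iso

end Groth.Agent.Misc9.SF
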