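import Groth.Agent.Misc9.SF.Free
import Groth.Agent.Misc9.SF.PS
import Groth.Prelude.Def_CAlgX

/-! Smoothness of `h_R` is adic formal smoothness. -/

universe u v

set_option synthInstance.maxHeartbeats 20000
set_option maxHeartbeats 400000

open CategoryTheory

namespace Groth.Agent.Misc9.SF

open ArtFun ArtFun.Art

variable {Λ k : Type u} [CommRing Λ] [Field k] [Algebra Λ k]

theorem isSmoothFunctor_of_small {F : Art Λ k ⥤ Type v}
    (h : ∀ ⦃B A : Art Λ k⦄ (μ : B ⟶ A), IsSmallExt μ → Function.Surjective (F.map μ)) : IsSmoothFunctor F := by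
  intro B A μ hμ
  refine surjective_induction (fun A B μ => Function.Surjective (F.map μ)) ?_ (fun A B p hp => h p hp) ?_ μ hμ
  · intro A B e he y
    obtain ⟨i, -, hi⟩ := exists_inverse e ((isIso_iff e).1 he)
    exact ⟨F.map i y, by rw [map_map, hi, map_id']⟩
  · intro A B C p q hp hq y
    obtain ⟨x, rfl⟩ := hq y
    obtain ⟨w, rfl⟩ := hp x
    exact ⟨w, (map_map F p q w).symm⟩

theorem isSmoothFunctor_of_afs (R : CRing Λ k)
    (h : CAlgX.IsAdicFormallySmooth Λ R.carrier (IsLocalRing.maximalIdeal R.carrier)) :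
    IsSmoothFunctor (hR R.carrier R.res) := by
  refine isSmoothFunctor_of_small fun B A μ hμ φ => ?_
  let J : Ideal B := RingHom.ker μ.toAlgHom
  have hJ : J ^ 2 = ⊥ := by
    rw [eq_bot_iff, pow_two]
    exact (Ideal.mul_mono (res_le_ker μ) le_rfl).trans hμ.2.2.2.le
  let e := Ideal.quotientKerAlgEquivOfSurjective (f := μ.toAlgHom) hμ.1
  obtain ⟨N, hN⟩ := exists_factor R φ
  obtain ⟨g, hg⟩ := hN N le_rfl
  obtain ⟨χ, hχ⟩ := h B J hJ (e.symm.toAlgHom.comp φ.1) ⟨N + 1, fun x hx => by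
    change e.symm (φ.1 x) = 0
    rw [← hg]
    change e.symm (g (Ideal.Quotient.mk _ x)) = 0
    rw [Ideal.Quotient.eq_zero_iff_mem.2 hx]
    exact (congrArg e.symm (map_zero g.toAlgHom)).trans (map_zero e.symm)⟩
  have hμχ : ∀ x, μ (χ x) = φ.1 x := fun x => by
    have h1 : Ideal.Quotient.mk J (χ x) = e.symm (φ.1 x) := AlgHom.congr_fun hχ x
    have h2 := congrArg e h1
    rw [AlgEquiv.apply_symm_apply] at h2
    exact h2
  exact ⟨⟨χ, AlgHom.ext fun x => by
    change B.res (χ x) = R.res x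
    rw [← res_app μ, hμχ]
    exact AlgHom.congr_fun φ.2 x⟩, homSet_ext hμχ⟩

variable [IsNoetherianRing Λ] [Module.Finite Λ k]

theorem exists_afs_cover (R : CRing Λ k) :
    ∃ (P : CRing Λ k) (α : P.carrier →ₐ[Λ] R.carrier), R.res.comp α = P.res ∧ Function.Surjective α ∧
      CAlgX.IsAdicFormallySmooth Λ P.carrier (IsLocalRing.maximalIdeal P.carrier) := by
  classical
  obtain ⟨g, hg⟩ := (IsNoetherian.noetherian (IsLocalRing.maximalIdeal R.carrier) :
    (IsLocalRing.maximalIdeal R.carrier).FG)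
  obtain ⟨e, he⟩ := (Module.Finite.fg_top : (⊤ : Submodule Λ k).FG)
  choose sec hsec using R.res_surjective
  let t : Finset R.carrier := g ∪ e.image sec
  let v : ULift.{u} (Fin t.card) → R.carrier := fun i => (t.equivFin.symm i.down : R.carrier)
  let Q := MvPolynomial (ULift.{u} (Fin t.card)) Λ
  let ρ : Q →ₐ[Λ] k := R.res.comp (MvPolynomial.aeval v)
  have hρ : Function.Surjective ρ := fun c => by
    have hc : c ∈ Submodule.span Λ (e : Set k) := he ▸ Submodule.mem_top
    induction hc using Submodule.span_induction with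
    | mem x hx =>
      refine ⟨MvPolynomial.X ⟨t.equivFin ⟨sec x, Finset.mem_union_right _ (Finset.mem_image_of_mem sec hx)⟩⟩, ?_⟩
      change R.res (MvPolynomial.aeval _ _) = x
      rw [MvPolynomial.aeval_X]
      simp only [v, Equiv.symm_apply_apply]
      exact hsec x
    | zero => exact ⟨0, map_zero _⟩
    | add x y _ _ hx hy => obtain ⟨a, rfl⟩ := hx; obtain ⟨b, rfl⟩ := hy; exact ⟨a + b, map_add _ _ _⟩
    | smul l x _ hx => obtain ⟨a, rfl⟩ := hx; exact ⟨l • a, map_smul _ _ _⟩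
  obtain ⟨P, ι, hι, huniv⟩ := exists_completion Q ρ hρ
  choose φ hφ using fun n => (huniv (R.trunc n)).2
    ⟨(R.truncHom n).1.comp (MvPolynomial.aeval v), by rw [← AlgHom.comp_assoc, (R.truncHom n).2]⟩
  obtain ⟨α, hα, hαn⟩ := exists_hom_of_system φ fun n => (huniv _).1 (by
    change alongHom ι hι _ = alongHom ι hι _
    rw [← map_alongHom]
    refine Eq.trans (congrArg (HomSet.map (R.truncMap n)) (hφ (n + 1))) (Eq.trans ?_ (hφ n).symm)
    exact homSet_ext fun _ => rfl)
  have hαι : α.comp ι = MvPolynomial.aeval v := hom_ext_trunc fun n => by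
    have h1 : alongHom ι hι (alongHom α hα (R.truncHom n)) = alongHom ι hι (φ n) := congrArg _ (hαn n)
    exact AlgHom.ext fun q => AlgHom.congr_fun (congrArg Subtype.val (h1.trans (hφ n))) q
  refine ⟨P, α, hα, surjective_of_cotangent α hα fun x hx => Ideal.mem_sup_left ?_, ?_⟩
  · rw [← hg] at hx
    refine (Ideal.span_le (I := (IsLocalRing.maximalIdeal P.carrier).map α)).2 ?_ hx
    intro a ha
    have hv : α (ι (MvPolynomial.X ⟨t.equivFin ⟨a, Finset.mem_union_left _ ha⟩⟩)) = a := by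
      refine (AlgHom.congr_fun hαι _).trans ((MvPolynomial.aeval_X _ _).trans ?_)
      simp [v]
    rw [SetLike.mem_coe, ← hv]
    refine Ideal.mem_map_of_mem α ?_
    rw [CRing.mem_maximalIdeal_iff, ← CRing.res_comp_apply α hα, hv]
    exact (CRing.mem_maximalIdeal_iff R a).1 (hg ▸ Ideal.subset_span ha)
  · intro A _ _ J hJ ψ ⟨K, hK⟩
    choose c hc using fun i => Ideal.Quotient.mk_surjective (ψ (ι (MvPolynomial.X i)))
    let χQ : Q →ₐ[Λ] A := MvPolynomial.aeval c
    have hχQ : ∀ q, Ideal.Quotient.mk J (χQ q) = ψ (ι q) := fun q => by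
      have : (Ideal.Quotient.mkₐ Λ J).comp χQ = ψ.comp ι := MvPolynomial.algHom_ext fun i => by
        change Ideal.Quotient.mk J (MvPolynomial.aeval c (MvPolynomial.X i)) = _
        rw [MvPolynomial.aeval_X, hc]
        rfl
      exact AlgHom.congr_fun this q
    let nQ : Ideal Q := RingHom.ker ρ
    haveI : nQ.IsMaximal := RingHom.ker_isMaximal_of_surjective (ρ : Q →+* k) hρ
    have hnP : nQ.map ι ≤ IsLocalRing.maximalIdeal P.carrier := Ideal.map_le_iff_le_comap.2 fun q hq => by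
      rw [Ideal.mem_comap, CRing.mem_maximalIdeal_iff, ← AlgHom.comp_apply, hι]
      exact hq
    let M := K + K + 1
    have hne : Nontrivial (Q ⧸ nQ ^ M) := Ideal.Quotient.nontrivial_iff.2 fun h =>
      Ideal.IsMaximal.ne_top ‹nQ.IsMaximal› (top_le_iff.1 (h ▸ Ideal.pow_le_self (by omega)))
    have hle : nQ ^ M ≤ nQ := Ideal.pow_le_self (by omega)
    haveI hloc : IsLocalRing (Q ⧸ nQ ^ M) := IsLocalRing.of_unique_max_ideal ⟨nQ.map (Ideal.Quotient.mk (nQ ^ M)),
      Ideal.IsMaximal.map_of_surjective_of_ker_le Ideal.Quotient.mk_surjective (by rw [Ideal.mk_ker]; exact hle),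
      fun I hI => by
        haveI := hI.isPrime
        have h1 : nQ.map (Ideal.Quotient.mk (nQ ^ M)) ≤ I := by
          refine hI.isPrime.le_of_pow_le (n := M) ?_
          rw [← Ideal.map_pow, Ideal.map_quotient_self]
          exact bot_le
        exact ((Ideal.IsMaximal.map_of_surjective_of_ker_le Ideal.Quotient.mk_surjective
          (by rw [Ideal.mk_ker]; exact hle) : (nQ.map (Ideal.Quotient.mk (nQ ^ M))).IsMaximal).eq_of_le hI.ne_top h1).symm⟩
    haveI hart : IsArtinianRing (Q ⧸ nQ ^ M) := by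
      rw [isArtinianRing_iff_isNilpotent_maximalIdeal,
        ← IsLocalRing.eq_maximalIdeal (Ideal.IsMaximal.map_of_surjective_of_ker_le Ideal.Quotient.mk_surjective
          (by rw [Ideal.mk_ker]; exact hle) : (nQ.map (Ideal.Quotient.mk (nQ ^ M))).IsMaximal)]
      exact ⟨M, by rw [← Ideal.map_pow, Ideal.map_quotient_self]; rfl⟩
    let E : Art Λ k := Art.of (Q ⧸ nQ ^ M) (Ideal.Quotient.liftₐ (nQ ^ M) ρ fun q hq => hle hq)
      (fun x => (hρ x).elim fun q hq => ⟨Ideal.Quotient.mk _ q, hq⟩)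
    obtain ⟨φE, hφE⟩ := (huniv E).2 ⟨Ideal.Quotient.mkₐ Λ (nQ ^ M), Ideal.Quotient.liftₐ_comp _ _ _⟩
    let E' := P.trunc (M - 1)
    have hkillE : ∀ q ∈ nQ ^ M, (P.truncHom (M - 1)).1 (ι q) = 0 := fun q hq => by
      have h1 := Ideal.mem_map_of_mem ι hq
      rw [Ideal.map_pow] at h1
      refine Ideal.Quotient.eq_zero_iff_mem.2 ?_
      rw [CRing.mpow, show M - 1 + 1 = M by omega]
      exact Ideal.pow_right_mono hnP M h1
    let hE : E ⟶ E' := ⟨Ideal.Quotient.liftₐ (nQ ^ M) ((P.truncHom (M - 1)).1.comp ι) hkillE, AlgHom.ext fun x => by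
      obtain ⟨q, rfl⟩ := Ideal.Quotient.mk_surjective x
      exact (AlgHom.congr_fun (P.truncHom (M - 1)).2 (ι q)).trans (AlgHom.congr_fun hι q)⟩
    have hmap : HomSet.map hE φE = P.truncHom (M - 1) := (huniv E').1 (homSet_ext fun q => by
      change hE (φE.1 (ι q)) = (P.truncHom (M - 1)).1 (ι q)
      exact congrArg hE.toAlgHom (AlgHom.congr_fun (congrArg Subtype.val hφE) q))
    have hχkill : ∀ q ∈ nQ ^ M, χQ q = 0 := fun q hq => by
      have h0 : (nQ ^ K).map χQ ≤ J := Ideal.map_le_iff_le_comap.2 fun x hx => by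
        rw [Ideal.mem_comap, ← Ideal.Quotient.eq_zero_iff_mem, hχQ]
        refine hK _ ?_
        have h1 := Ideal.mem_map_of_mem ι hx
        rw [Ideal.map_pow] at h1
        exact Ideal.pow_right_mono hnP K h1
      have h2 := Ideal.mem_map_of_mem χQ (Ideal.pow_le_pow_right (show K + K ≤ M by omega) hq)
      rw [pow_add, Ideal.map_mul] at h2
      have h3 := Ideal.mul_mono h0 h0 h2
      rw [← pow_two, hJ] at h3
      exact h3
    refine ⟨(Ideal.Quotient.liftₐ (nQ ^ M) χQ hχkill).comp φE.1, AlgHom.ext fun p => ?_⟩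
    obtain ⟨q, hq⟩ : ∃ q, φE.1 p = Ideal.Quotient.mk (nQ ^ M) q :=
      ⟨_, (Ideal.Quotient.mk_surjective _).choose_spec.symm⟩
    change Ideal.Quotient.mk J (Ideal.Quotient.liftₐ (nQ ^ M) χQ hχkill (φE.1 p)) = ψ p
    rw [hq]
    change Ideal.Quotient.mk J (χQ q) = ψ p
    rw [hχQ, eq_comm, ← sub_eq_zero, ← map_sub]
    refine hK _ (Ideal.pow_le_pow_right (show K ≤ M - 1 + 1 by omega) (Ideal.Quotient.eq.1 ?_))
    change (P.truncHom (M - 1)).1 p = (P.truncHom (M - 1)).1 (ι q)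
    rw [← hmap]
    change hE (φE.1 p) = hE (φE.1 (ι q))
    refine congrArg hE.toAlgHom (hq.trans ?_)
    exact (AlgHom.congr_fun (congrArg Subtype.val hφE) q).symm

theorem exists_section {P R : CRing Λ k} (α : P.carrier →ₐ[Λ] R.carrier) (hα : R.res.comp α = P.res)
    (hαs : Function.Surjective α) (hR' : IsSmoothFunctor (hR R.carrier R.res)) :
    ∃ β : R.carrier →ₐ[Λ] P.carrier, α.comp β = AlgHom.id Λ R.carrier := by
  have hτs : Function.Surjective (CRing.truncMapOfHom α hα 1) := fun y => by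
    obtain ⟨y, rfl⟩ := Ideal.Quotient.mk_surjective y
    obtain ⟨x, rfl⟩ := hαs y
    exact ⟨Ideal.Quotient.mk _ x, rfl⟩
  obtain ⟨φ₁, hφ₁⟩ := hR' (CRing.truncMapOfHom α hα 1) hτs (R.truncHom 1)
  have step : ∀ n (φ : HomSet R.carrier R.res (P.trunc (n + 1))),
      ∃ ψ : HomSet R.carrier R.res (P.trunc (n + 1 + 1)), HomSet.map (P.truncMap (n + 1)) ψ = φ := fun n φ =>
    hR' (P.truncMap (n + 1)) (truncMap_surjective P (n + 1)) φ
  choose next hnext using step
  let seq : (n : ℕ) → HomSet R.carrier R.res (P.trunc (n + 1)) := fun n => Nat.rec φ₁ (fun n φ => next n φ) n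
  obtain ⟨β, hβ, hβn⟩ := exists_hom_of_system (fun n => HomSet.map (P.truncMap n) (seq n)) fun n => by
    exact congrArg (HomSet.map (P.truncMap n)) (hnext n (seq n))
  have h1 : alongHom β hβ (P.truncHom 1) = φ₁ := (hβn 1).trans (hnext 0 φ₁)
  have hγ : R.res.comp (α.comp β) = R.res := by rw [← AlgHom.comp_assoc, hα, hβ]
  have hγ1 : ∀ a : HomSet R.carrier R.res (dual Λ k), alongHom (α.comp β) hγ a = a := fun a => by
    obtain ⟨g, hg⟩ := exists_factor_one R dual_sq_zero a
    rw [← hg, ← map_alongHom]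
    refine congrArg (HomSet.map g) (homSet_ext fun s => ?_)
    have := AlgHom.congr_fun (congrArg Subtype.val hφ₁) s
    rw [← h1] at this
    exact this
  have hγs : Function.Surjective (α.comp β) :=
    surjective_of_dual_injective (α.comp β) hγ fun a b h => by rw [← hγ1 a, ← hγ1 b, h]
  let γ := AlgEquiv.ofBijective (α.comp β) ⟨injective_of_surjective_endo (α.comp β).toRingHom hγs, hγs⟩
  exact ⟨β.comp γ.symm.toAlgHom, AlgHom.ext fun r => γ.apply_symm_apply r⟩

theorem afs_of_isSmoothFunctor (R : CRing Λ k) (h : IsSmoothFunctor (hR R.carrier R.res)) :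
    CAlgX.IsAdicFormallySmooth Λ R.carrier (IsLocalRing.maximalIdeal R.carrier) := by
  obtain ⟨P, α, hα, hαs, hP⟩ := exists_afs_cover R
  obtain ⟨β, hβ⟩ := exists_section α hα hαs h
  intro A _ _ J hJ ψ ⟨K, hK⟩
  obtain ⟨χ, hχ⟩ := hP A J hJ (ψ.comp α) ⟨K, fun x hx => hK _ (by
    have h1 := Ideal.mem_map_of_mem α hx
    rw [Ideal.map_pow] at h1
    exact Ideal.pow_right_mono (map_maximalIdeal_le α hα) K h1)⟩
  refine ⟨χ.comp β, ?_⟩
  rw [← AlgHom.comp_assoc, hχ, AlgHom.comp_assoc, hβ, AlgHom.comp_id]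

end Groth.Agent.Misc9.SF
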