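import Groth.Prelude.Def_ArtFun3
import Groth.Prelude.Def_ArtFun5
import Mathlib

/-! Artinian objects: fibre products, small extensions, square-zero objects. -/

universe u v w

set_option synthInstance.maxHeartbeats 20000

open CategoryTheory

namespace Groth.Agent.Misc9.SF

open ArtFun ArtFun.Art

variable {Λ k : Type u} [CommRing Λ] [Field k] [Algebra Λ k]

theorem hom_ext' {A B : Art Λ k} {f g : A ⟶ B} (h : ∀ x, f x = g x) : f = g :=
  Art.hom_ext (AlgHom.ext h)

theorem map_map (F : Art Λ k ⥤ Type v) {A B C : Art Λ k} (f : A ⟶ B) (g : B ⟶ C) (x : F.obj A) :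
    F.map g (F.map f x) = F.map (f ≫ g) x :=
  (FunctorToTypes.map_comp_apply F f g x).symm

theorem map_id' (F : Art Λ k ⥤ Type v) {A : Art Λ k} (x : F.obj A) : F.map (𝟙 A) x = x :=
  FunctorToTypes.map_id_apply F x

theorem res_le_ker {A B : Art Λ k} (f : B ⟶ A) :
    RingHom.ker f.toAlgHom ≤ IsLocalRing.maximalIdeal B := fun b hb => by
  rw [B.mem_maximalIdeal_iff, ← res_app f b, show f b = 0 from hb, map_zero]

theorem map_mem_maximalIdeal {A B : Art Λ k} (f : B ⟶ A) {b : B} (hb : b ∈ IsLocalRing.maximalIdeal B) :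
    f b ∈ IsLocalRing.maximalIdeal A := by
  rw [A.mem_maximalIdeal_iff, res_app, ← B.mem_maximalIdeal_iff]
  exact hb

theorem res_lift (A : Art Λ k) (a : A) (t : k) : ∃ b : A, A.res b = t ∧ A.res (a - b) = A.res a - t :=
  (A.res_surjective t).imp fun b hb => ⟨hb, by rw [map_sub, hb]⟩

theorem exists_pow_eq_bot (A : Art Λ k) : ∃ N, IsLocalRing.maximalIdeal A ^ N = ⊥ := by
  obtain ⟨N, hN⟩ := IsArtinianRing.isNilpotent_jacobson_bot (R := A.carrier)
  exact ⟨N, by rwa [IsLocalRing.jacobson_eq_maximalIdeal ⊥ bot_ne_top] at hN⟩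

theorem isIso_iff {A B : Art Λ k} (f : A ⟶ B) : IsIso f ↔ Function.Bijective f := by
  constructor
  · intro h
    refine ⟨fun x y e => ?_, fun y => ⟨inv f y, ?_⟩⟩
    · have := congrArg (inv f) e
      rwa [← ArtFun.Art.comp_apply, ← ArtFun.Art.comp_apply, IsIso.hom_inv_id] at this
    · rw [← ArtFun.Art.comp_apply, IsIso.inv_hom_id]; rfl
  · intro h
    let e := AlgEquiv.ofBijective f.toAlgHom h
    refine ⟨⟨Art.homMk e.symm.toAlgHom ?_, hom_ext' fun x => e.symm_apply_apply x, hom_ext' fun x => e.apply_symm_apply x⟩⟩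
    apply AlgHom.ext
    intro y
    change A.res (e.symm y) = B.res y
    rw [← res_app f]
    exact congrArg B.res (e.apply_symm_apply y)

theorem exists_inverse {A B : Art Λ k} (f : A ⟶ B) (h : Function.Bijective f) :
    ∃ g : B ⟶ A, f ≫ g = 𝟙 A ∧ g ≫ f = 𝟙 B := by
  have := (isIso_iff f).2 h
  exact ⟨inv f, IsIso.hom_inv_id f, IsIso.inv_hom_id f⟩

/-! ### Restriction of scalars along a map onto the residue field -/

theorem isArtinian_restrict {S : Type*} [CommRing S] (A : Art Λ k) [Algebra S A]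
    (h : ∀ t : k, ∃ s : S, A.res (algebraMap S A s) = t) : IsArtinian S A := by
  suffices ∀ (M : Type u) [AddCommGroup M] [Module A M], IsFiniteLength A M →
      ∀ [Module S M] [IsScalarTower S A M], IsArtinian S M from
    this A (isFiniteLength_iff_isNoetherian_isArtinian.2 ⟨inferInstance, inferInstance⟩)
  intro M _ _ hM
  induction hM with
  | of_subsingleton => exact inferInstance
  | @of_simple_quotient M _ _ N hs hN ih =>
    intro _ _
    have hN' : IsArtinian S N := ih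
    have hQ : IsArtinian S (M ⧸ N) := by
      have hkill : ∀ a ∈ IsLocalRing.maximalIdeal A, ∀ q : M ⧸ N, a • q = 0 := fun a ha q => by
        obtain ⟨⟨I, hI, ⟨e⟩⟩⟩ := isSimpleModule_iff_quot_maximal.1 hs |> fun h => (⟨h⟩ : Nonempty _)
        apply e.injective
        rw [map_zero, map_smul]
        obtain ⟨r, hr⟩ := Ideal.Quotient.mk_surjective (e q)
        rw [← hr, Algebra.smul_def, Ideal.Quotient.algebraMap_eq, ← map_mul, Ideal.Quotient.eq_zero_iff_mem,
          IsLocalRing.eq_maximalIdeal hI]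
        exact Ideal.mul_mem_right _ _ ha
      let φ : Submodule S (M ⧸ N) ↪o Submodule A (M ⧸ N) :=
        OrderEmbedding.ofMapLEIff (fun P =>
          { P.toAddSubmonoid with
            smul_mem' := fun a q hq => by
              obtain ⟨s, hs'⟩ := h (A.res a)
              have h0 : (a - algebraMap S A s) • q = 0 :=
                hkill _ (by rw [A.mem_maximalIdeal_iff, map_sub, hs', sub_self]) q
              rw [sub_smul, sub_eq_zero, algebraMap_smul] at h0
              change a • q ∈ P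
              rw [h0]
              exact P.smul_mem s hq }) (fun P Q => Iff.rfl)
      exact ⟨(φ.ltEmbedding).isWellFounded.wf⟩
    exact isArtinian_of_range_eq_ker (N.subtype.restrictScalars S) (N.mkQ.restrictScalars S) (by
      ext x; simp)

/-! ### Fibre products -/

section Fib

variable {A A₁ A₂ : Art Λ k} (f₁ : A₁ ⟶ A) (f₂ : A₂ ⟶ A)

/-- the augmentation of the set-theoretic fibre product. -/
def pbRes : AlgHom.pullback f₁.toAlgHom f₂.toAlgHom →ₐ[Λ] k :=
  A₁.res.comp (AlgHom.pullbackFst f₁.toAlgHom f₂.toAlgHom)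

theorem pbRes_snd (z : AlgHom.pullback f₁.toAlgHom f₂.toAlgHom) : pbRes f₁ f₂ z = A₂.res z.1.2 := by
  change A₁.res z.1.1 = _
  rw [← res_app f₁, ← res_app f₂]
  exact congrArg A.res z.2

theorem isUnit_of_pbRes (z : AlgHom.pullback f₁.toAlgHom f₂.toAlgHom) (h : pbRes f₁ f₂ z ≠ 0) : IsUnit z := by
  refine (AlgHom.isUnit_pullback_mk_iff f₁.toAlgHom f₂.toAlgHom z.2).2 ⟨?_, ?_⟩
  · exact IsLocalRing.notMem_maximalIdeal.1 fun hm => h ((A₁.mem_maximalIdeal_iff _).1 hm)
  · exact IsLocalRing.notMem_maximalIdeal.1 fun hm => h ((pbRes_snd f₁ f₂ z).trans ((A₂.mem_maximalIdeal_iff _).1 hm))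

variable (hres : Function.Surjective (pbRes f₁ f₂))

/-- The fibre product as an object, when it has residue field `k`. -/
noncomputable def fib : Art Λ k :=
  haveI : IsLocalRing (AlgHom.pullback f₁.toAlgHom f₂.toAlgHom) := by
    refine IsLocalRing.of_isUnit_or_isUnit_one_sub_self fun z => ?_
    by_cases h : pbRes f₁ f₂ z = 0
    · exact Or.inr (isUnit_of_pbRes f₁ f₂ _ (by rw [map_sub, map_one, h, sub_zero]; exact one_ne_zero))
    · exact Or.inl (isUnit_of_pbRes f₁ f₂ z h)
  haveI : IsArtinianRing (AlgHom.pullback f₁.toAlgHom f₂.toAlgHom) := by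
    let S := AlgHom.pullback f₁.toAlgHom f₂.toAlgHom
    letI : Algebra S A₁ := (AlgHom.pullbackFst f₁.toAlgHom f₂.toAlgHom).toRingHom.toAlgebra
    letI : Algebra S A₂ := (AlgHom.pullbackSnd f₁.toAlgHom f₂.toAlgHom).toRingHom.toAlgebra
    have h1 : IsArtinian S A₁ := isArtinian_restrict A₁ hres
    have h2 : IsArtinian S A₂ := isArtinian_restrict A₂ fun t => (hres t).imp fun z hz => (pbRes_snd f₁ f₂ z).symm.trans hz
    refine isArtinianRing_iff.2 ⟨?_⟩
    exact (isArtinian_of_injective ((Algebra.linearMap S A₁).prod (Algebra.linearMap S A₂))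
      (fun x y e => Subtype.ext (Prod.ext (congrArg Prod.fst e) (congrArg Prod.snd e)))).wf
  Art.of (AlgHom.pullback f₁.toAlgHom f₂.toAlgHom) (pbRes f₁ f₂) hres

/-- first projection. -/
noncomputable def fibFst : fib f₁ f₂ hres ⟶ A₁ :=
  Art.homMk (AlgHom.pullbackFst f₁.toAlgHom f₂.toAlgHom) rfl

/-- second projection. -/
noncomputable def fibSnd : fib f₁ f₂ hres ⟶ A₂ :=
  Art.homMk (AlgHom.pullbackSnd f₁.toAlgHom f₂.toAlgHom) (AlgHom.ext fun z => (pbRes_snd f₁ f₂ z).symm)

theorem fib_isFibreProd : IsFibreProd (fibFst f₁ f₂ hres) (fibSnd f₁ f₂ hres) f₁ f₂ where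
  w := hom_ext' fun z => z.2
  inj b₁ b₂ h h' := Subtype.ext (Prod.ext h h')
  surj a b e := ⟨⟨(a, b), e⟩, rfl, rfl⟩

end Fib

theorem pbRes_surjective {A A₁ A₂ : Art Λ k} (f₁ : A₁ ⟶ A) (f₂ : A₂ ⟶ A) (h : Function.Surjective f₂) :
    Function.Surjective (pbRes f₁ f₂) := fun t => by
  obtain ⟨a, ha⟩ := A₁.res_surjective t
  obtain ⟨b, hb⟩ := h (f₁ a)
  exact ⟨⟨(a, b), hb.symm⟩, ha⟩

theorem exists_fib {A A₁ A₂ : Art Λ k} (f₁ : A₁ ⟶ A) (f₂ : A₂ ⟶ A) (h : Function.Surjective f₂) :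
    ∃ (B : Art Λ k) (p₁ : B ⟶ A₁) (p₂ : B ⟶ A₂), IsFibreProd p₁ p₂ f₁ f₂ :=
  ⟨_, _, _, fib_isFibreProd f₁ f₂ (pbRes_surjective f₁ f₂ h)⟩

theorem toBase_apply (A : Art Λ k) (a : A) : toBase A a = A.res a := rfl

theorem toBase_surjective (A : Art Λ k) : Function.Surjective (toBase A) := A.res_surjective

theorem comp_toBase {A B : Art Λ k} (f : A ⟶ B) : f ≫ toBase B = toBase A := eq_toBase _

/-! ### Properties of a fibre square -/

section Square

variable {B A A' A'' : Art Λ k} {p' : B ⟶ A'} {p'' : B ⟶ A''} {f' : A' ⟶ A} {f'' : A'' ⟶ A}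
  (h : IsFibreProd p' p'' f' f'')

include h

theorem fp_symm : IsFibreProd p'' p' f'' f' :=
  ⟨h.w.symm, fun b₁ b₂ e e' => h.inj b₁ b₂ e' e, fun a a' e => (h.surj a' a e.symm).imp fun _ hb => ⟨hb.2, hb.1⟩⟩

theorem fp_hom_ext {C : Art Λ k} {g g' : C ⟶ B} (e : g ≫ p' = g' ≫ p') (e' : g ≫ p'' = g' ≫ p'') : g = g' :=
  hom_ext' fun x => h.inj _ _ (by rw [← ArtFun.Art.comp_apply, ← ArtFun.Art.comp_apply, e]) (by rw [← ArtFun.Art.comp_apply, ← ArtFun.Art.comp_apply, e'])

theorem fp_exists_lift {C : Art Λ k} (a : C ⟶ A') (b : C ⟶ A'') (e : a ≫ f' = b ≫ f'') :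
    ∃ l : C ⟶ B, l ≫ p' = a ∧ l ≫ p'' = b := by
  choose s hs hs' using fun x => h.surj (a x) (b x) (by rw [← ArtFun.Art.comp_apply, ← ArtFun.Art.comp_apply, e])
  let φ : C →ₐ[Λ] B :=
    { toFun := s
      map_one' := h.inj _ _ (by rw [hs]; simp) (by rw [hs']; simp)
      map_mul' := fun x y => h.inj _ _ (by rw [hs, map_mul, map_mul, hs, hs]) (by rw [hs', map_mul, map_mul, hs', hs'])
      map_zero' := h.inj _ _ (by rw [hs]; simp) (by rw [hs']; simp)
      map_add' := fun x y => h.inj _ _ (by rw [hs, map_add, map_add, hs, hs]) (by rw [hs', map_add, map_add, hs', hs'])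
      commutes' := fun r => h.inj _ _ (by rw [hs, AlgHom.commutes, AlgHom.commutes])
        (by rw [hs', AlgHom.commutes, AlgHom.commutes]) }
  refine ⟨Art.homMk φ (AlgHom.ext fun x => ?_), hom_ext' hs, hom_ext' hs'⟩
  change B.res (s x) = C.res x
  rw [← res_app p', hs, res_app]

theorem fp_surjective (hf : Function.Surjective f'') : Function.Surjective p' := fun a => by
  obtain ⟨b, hb⟩ := hf (f' a)
  exact (h.surj a b hb.symm).imp fun _ hz => hz.1

theorem fp_isSmallExt (hf : IsSmallExt f'') : IsSmallExt p' := by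
  obtain ⟨hs, hne, hpr, hm⟩ := hf
  obtain ⟨t, ht⟩ := hpr.principal
  have htk : f'' t = 0 := (ht.ge (Submodule.mem_span_singleton_self t) : t ∈ RingHom.ker f''.toAlgHom)
  obtain ⟨b, hb, hb'⟩ := h.surj 0 t (by rw [map_zero, htk])
  have hbk : b ∈ RingHom.ker p'.toAlgHom := hb
  have hmk : ∀ x ∈ IsLocalRing.maximalIdeal B, ∀ z ∈ RingHom.ker p'.toAlgHom, x * z = 0 := fun x hx z hz => by
    refine h.inj _ _ (by rw [map_mul, show p' z = 0 from hz, mul_zero, map_zero]) ?_
    rw [map_mul, map_zero, ← Submodule.mem_bot (R := A''.carrier), ← hm]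
    refine Ideal.mul_mem_mul (map_mem_maximalIdeal p'' hx) ?_
    change f'' (p'' z) = 0
    rw [← h.w_apply, show p' z = 0 from hz, map_zero]
  refine ⟨fp_surjective h hs, fun h0 => ?_, ⟨⟨b, le_antisymm (fun z hz => ?_) ?_⟩⟩, ?_⟩
  · apply hne
    rw [ht]
    rw [h0, Ideal.mem_bot] at hbk
    rw [hbk, map_zero] at hb'
    rw [← hb', Submodule.span_singleton_eq_bot]
  · have hz' : p'' z ∈ RingHom.ker f''.toAlgHom := by
      change f'' (p'' z) = 0
      rw [← h.w_apply, show p' z = 0 from hz, map_zero]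
    rw [ht] at hz'
    obtain ⟨c, hc⟩ := Submodule.mem_span_singleton.1 hz'
    obtain ⟨c', hc', -⟩ := res_lift B 0 (A''.res c)
    refine Submodule.mem_span_singleton.2 ⟨c', h.inj _ _ ?_ ?_⟩
    · rw [smul_eq_mul, map_mul, hb, mul_zero, show p' z = 0 from hz]
    · rw [smul_eq_mul, map_mul, hb', ← hc, smul_eq_mul, ← sub_eq_zero, ← sub_mul,
        ← Submodule.mem_bot (R := A''.carrier), ← hm]
      refine Ideal.mul_mem_mul ?_ htk
      rw [A''.mem_maximalIdeal_iff, map_sub, res_app, hc', sub_self]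
  · exact (Submodule.span_singleton_le_iff_mem _ _).2 hbk
  · rw [eq_bot_iff, Ideal.mul_le]
    exact fun x hx z hz => hmk x hx z hz

end Square

/-! ### Small extensions -/

theorem isSmallExt_iff {A B : Art Λ k} (p : B ⟶ A) :
    IsSmallExt p ↔ Function.Surjective p ∧ ∃ t : B, t ≠ 0 ∧ (∀ x ∈ IsLocalRing.maximalIdeal B, x * t = 0) ∧
      RingHom.ker p.toAlgHom = Ideal.span {t} := by
  constructor
  · rintro ⟨hs, hne, hpr, hm⟩
    obtain ⟨t, ht⟩ := hpr.principal
    refine ⟨hs, t, fun h0 => hne (by rw [ht, h0, Submodule.span_singleton_eq_bot]), fun x hx => ?_, ht⟩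
    rw [← Submodule.mem_bot (R := B.carrier), ← hm]
    exact Ideal.mul_mem_mul hx (ht.ge (Submodule.mem_span_singleton_self t))
  · rintro ⟨hs, t, ht0, htm, ht⟩
    refine ⟨hs, by rw [ht]; simpa [Submodule.span_singleton_eq_bot] using ht0, ⟨⟨t, ht⟩⟩, ?_⟩
    rw [ht, eq_bot_iff, Ideal.mul_le]
    intro x hx z hz
    obtain ⟨c, rfl⟩ := Ideal.mem_span_singleton'.1 hz
    rw [Ideal.mem_bot, mul_left_comm, htm x hx, mul_zero]

/-- Surjections are composites of small extensions. -/
theorem surjective_induction (P : ∀ ⦃A B : Art Λ k⦄, (B ⟶ A) → Prop)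
    (hiso : ∀ ⦃A B : Art Λ k⦄ (e : B ⟶ A), IsIso e → P e)
    (hsmall : ∀ ⦃A B : Art Λ k⦄ (p : B ⟶ A), IsSmallExt p → P p)
    (hcomp : ∀ ⦃A B C : Art Λ k⦄ (p : C ⟶ B) (q : B ⟶ A), P p → P q → P (p ≫ q))
    ⦃A B : Art Λ k⦄ (f : B ⟶ A) (hf : Function.Surjective f) : P f := by
  let m := IsLocalRing.maximalIdeal B
  let kf := RingHom.ker f.toAlgHom
  suffices ∀ K : Ideal B, ∀ (hK : K ≤ kf), P (quotFactor (hK.trans (res_le_ker f)) f hK) by
    have h := this ⊥ bot_le
    have hb : Function.Bijective (quotMk B ⊥ bot_le) :=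
      ⟨fun x y e => sub_eq_zero.1 ((Submodule.mem_bot _).1 (Ideal.Quotient.eq.1 e)), quotMk_surjective _ _ _⟩
    have := hcomp (quotMk B ⊥ bot_le) _ (hiso _ ((isIso_iff _).2 hb)) h
    rwa [quotMk_quotFactor] at this
  intro K
  refine IsNoetherian.induction (R := B.carrier) (M := B.carrier)
    (P := fun K => ∀ (hK : K ≤ kf), P (quotFactor (hK.trans (res_le_ker f)) f hK)) (fun K IH hK => ?_) K
  by_cases heq : kf ≤ K
  · refine hiso _ ((isIso_iff _).2 ⟨fun x y e => ?_, fun a => ?_⟩)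
    · obtain ⟨x, rfl⟩ := Ideal.Quotient.mk_surjective x
      obtain ⟨y, rfl⟩ := Ideal.Quotient.mk_surjective y
      exact Ideal.Quotient.eq.2 (heq (show f (x - y) = 0 by rw [map_sub]; exact sub_eq_zero.2 e))
    · exact (hf a).imp' (Ideal.Quotient.mk K) fun _ h => h
  · obtain ⟨N, hN⟩ := exists_pow_eq_bot B
    have hex : ∃ n, m ^ n * kf ≤ K := ⟨N, by rw [hN]; simp⟩
    classical
    obtain ⟨n, hn⟩ : ∃ n, Nat.find hex = n + 1 := by
      refine Nat.exists_eq_succ_of_ne_zero fun h0 => heq ?_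
      have := Nat.find_spec hex
      rwa [h0, pow_zero, Ideal.one_eq_top, Ideal.top_mul] at this
    obtain ⟨t, ht, htK⟩ := SetLike.not_le_iff_exists.1 (Nat.find_min hex (m := n) (by omega))
    have htk : t ∈ kf := (Ideal.mul_le_right (I := m ^ n) (J := kf) ht)
    let K' := K ⊔ Ideal.span {t}
    have hK' : K' ≤ kf := sup_le hK ((Ideal.span_singleton_le_iff_mem _).2 htk)
    have hlt : K < K' := lt_of_le_of_ne le_sup_left fun e => htK (e ▸ (le_sup_right : _ ≤ K') (Ideal.mem_span_singleton_self t))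
    have hmt : ∀ x ∈ m, x * t ∈ K := fun x hx => by
      have h1 : x * t ∈ m ^ (n + 1) * kf := by
        rw [pow_succ', mul_assoc]
        exact Ideal.mul_mem_mul hx ht
      exact Nat.find_spec hex (hn ▸ h1)
    let π := quotFactor (hK.trans (res_le_ker f)) (quotMk B K' (hK'.trans (res_le_ker f)))
      (fun x hx => (Ideal.Quotient.eq_zero_iff_mem.2 ((le_sup_left : K ≤ K') hx) : Ideal.Quotient.mk K' x = 0))
    have hπ : IsSmallExt π := by
      refine (isSmallExt_iff π).2 ⟨fun a => ?_, Ideal.Quotient.mk K t, ?_, ?_, ?_⟩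
      · obtain ⟨a, rfl⟩ := Ideal.Quotient.mk_surjective a
        exact ⟨Ideal.Quotient.mk K a, rfl⟩
      · exact fun h0 => htK (Ideal.Quotient.eq_zero_iff_mem.1 h0)
      · intro x hx
        obtain ⟨x, rfl⟩ := Ideal.Quotient.mk_surjective x
        refine Ideal.Quotient.eq_zero_iff_mem.2 (hmt x ?_)
        have := (Art.mem_maximalIdeal_iff _ _).1 hx
        exact (B.mem_maximalIdeal_iff x).2 this
      · ext x
        obtain ⟨x, rfl⟩ := Ideal.Quotient.mk_surjective x
        change Ideal.Quotient.mk K' x = 0 ↔ _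
        rw [Ideal.Quotient.eq_zero_iff_mem, Submodule.mem_sup]
        constructor
        · rintro ⟨a, ha, b, hb, rfl⟩
          obtain ⟨c, rfl⟩ := Ideal.mem_span_singleton'.1 hb
          refine Ideal.mem_span_singleton'.2 ⟨Ideal.Quotient.mk K c, ?_⟩
          change Ideal.Quotient.mk K c * Ideal.Quotient.mk K t = Ideal.Quotient.mk K (a + c * t)
          rw [map_add, Ideal.Quotient.eq_zero_iff_mem.2 ha, zero_add, map_mul]
        · intro hx
          obtain ⟨c, hc⟩ := Ideal.mem_span_singleton'.1 hx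
          obtain ⟨c, rfl⟩ := Ideal.Quotient.mk_surjective c
          exact ⟨x - c * t, Ideal.Quotient.eq.1 (hc.symm.trans (map_mul _ _ _).symm), c * t,
            Ideal.mem_span_singleton'.2 ⟨c, rfl⟩, sub_add_cancel _ _⟩
    have := hcomp π _ (hsmall _ hπ) (IH K' hlt hK')
    convert! this using 1
    exact hom_ext' fun x => by
      obtain ⟨x, rfl⟩ := Ideal.Quotient.mk_surjective x
      rfl

/-! ### Square-zero objects `k ⊕ k^ι` -/

section Sq

variable (Λ k)

/-- `k ⊕ k^ι`. -/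
def sq (ι : Type) [Fintype ι] : Art Λ k :=
  { carrier := TrivSqZeroExt k (ι → k)
    isLocalRing := isLocalRing_tsze k (ι → k)
    isArtinianRing := isArtinianRing_tsze k (ι → k)
    res := TrivSqZeroExt.fstHom Λ k (ι → k)
    res_surjective := fun a => ⟨TrivSqZeroExt.inl a, rfl⟩ }

variable {Λ k}

variable {ι : Type} [Fintype ι]

/-- a functional gives a map to the dual numbers. -/
def toDual (f : (ι → k) →ₗ[k] k) : sq Λ k ι ⟶ dual Λ k := ⟨tszeMap f, AlgHom.ext fun _ => rfl⟩

/-- two functionals give a map to `k[ε₁, ε₂]`. -/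
def toDual2 (f : (ι → k) →ₗ[k] k × k) : sq Λ k ι ⟶ dual2 Λ k := ⟨tszeMap f, AlgHom.ext fun _ => rfl⟩

theorem toDual2_pr₁ (f : (ι → k) →ₗ[k] k × k) :
    toDual2 (Λ := Λ) f ≫ pr₁ = toDual ((LinearMap.fst k k k).comp f) :=
  hom_ext' fun _ => TrivSqZeroExt.ext rfl rfl

theorem toDual2_pr₂ (f : (ι → k) →ₗ[k] k × k) :
    toDual2 (Λ := Λ) f ≫ pr₂ = toDual ((LinearMap.snd k k k).comp f) :=
  hom_ext' fun _ => TrivSqZeroExt.ext rfl rfl

theorem toDual2_plus (f : (ι → k) →ₗ[k] k × k) :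
    toDual2 (Λ := Λ) f ≫ plus = toDual ((LinearMap.fst k k k + LinearMap.snd k k k).comp f) :=
  hom_ext' fun _ => TrivSqZeroExt.ext rfl rfl

theorem toDual_scale (f : (ι → k) →ₗ[k] k) (c : k) : toDual (Λ := Λ) f ≫ scale c = toDual (c • f) :=
  hom_ext' fun _ => TrivSqZeroExt.ext rfl rfl

end Sq

/-! ### The difference map of a small extension -/

theorem exists_diff {A B P : Art Λ k} (p : B ⟶ A) (hp : IsSmallExt p) (p₁ p₂ : P ⟶ B)
    (hP : IsFibreProd p₁ p₂ p p) (t : B) (ht : RingHom.ker p.toAlgHom = Ideal.span {t}) :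
    ∃ g : P ⟶ dual Λ k, (∀ z : P, ∃ c : B, B.res c = (g z).snd ∧ c * t = p₂ z - p₁ z) ∧
      IsFibreProd p₁ g (toBase B) (toBase (dual Λ k)) := by
  have hm : ∀ x ∈ IsLocalRing.maximalIdeal B, ∀ z ∈ RingHom.ker p.toAlgHom, x * z = 0 := fun x hx z hz => by
    rw [← Submodule.mem_bot (R := B.carrier), ← hp.2.2.2]; exact Ideal.mul_mem_mul hx hz
  have htk : t ∈ RingHom.ker p.toAlgHom := ht ▸ Ideal.mem_span_singleton_self t
  have ht0 : t ≠ 0 := fun h0 => hp.2.1 (by rw [ht, h0, Ideal.span_singleton_eq_bot])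
  have hd : ∀ z : P, ∃ c : B, c * t = p₂ z - p₁ z := fun z => by
    rw [← Ideal.mem_span_singleton', ← ht]
    change p (p₂ z - p₁ z) = 0
    rw [map_sub, ← hP.w_apply, sub_self]
  choose c hc using hd
  have uniq : ∀ a a' : B, a * t = a' * t → B.res a = B.res a' := fun a a' e => by
    by_contra hne
    have hu : IsUnit (a - a') := IsLocalRing.notMem_maximalIdeal.1 fun h => hne (sub_eq_zero.1
      (by rw [← map_sub]; exact (B.mem_maximalIdeal_iff _).1 h))
    exact ht0 ((hu.mul_right_eq_zero).1 (by rw [sub_mul, e, sub_self]))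
  have hr : ∀ z : P, B.res (p₁ z) = P.res z := fun z => res_app p₁ z
  let φ : P →ₐ[Λ] DualNumber k :=
    { toFun := fun z => (P.res z, B.res (c z))
      map_one' := TrivSqZeroExt.ext (map_one P.res) (by
        change B.res (c 1) = 0
        rw [uniq (c 1) 0 (by rw [hc, map_one, map_one, sub_self, zero_mul]), map_zero])
      map_mul' := fun z w => TrivSqZeroExt.ext (map_mul P.res z w) (by
        change B.res (c (z * w)) = P.res z • B.res (c w) + MulOpposite.op (P.res w) • B.res (c z)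
        rw [smul_eq_mul, op_smul_eq_smul, smul_eq_mul, uniq (c (z * w)) (p₁ z * c w + p₁ w * c z),
          map_add, map_mul, map_mul, hr, hr]
        rw [hc, map_mul, map_mul]
        have hzero : (p₂ z - p₁ z) * (p₂ w - p₁ w) = 0 := by
          rw [← hc z, ← hc w, show c z * t * (c w * t) = c z * c w * (t * t) by ring,
            hm t (res_le_ker p htk) t htk, mul_zero]
        linear_combination hzero - p₁ z * hc w - p₁ w * hc z)
      map_zero' := TrivSqZeroExt.ext (map_zero P.res) (by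
        change B.res (c 0) = 0
        rw [uniq (c 0) 0 (by rw [hc, map_zero, map_zero, sub_self, zero_mul]), map_zero])
      map_add' := fun z w => TrivSqZeroExt.ext (map_add P.res z w) (by
        change B.res (c (z + w)) = B.res (c z) + B.res (c w)
        rw [← map_add, uniq]
        rw [add_mul, hc, hc, hc, map_add, map_add]
        ring)
      commutes' := fun r => by
        rw [TrivSqZeroExt.algebraMap_eq_inl']
        refine TrivSqZeroExt.ext (P.res.commutes r) ?_
        change B.res (c (algebraMap Λ P r)) = (TrivSqZeroExt.inl (algebraMap Λ k r) : DualNumber k).snd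
        rw [TrivSqZeroExt.snd_inl, uniq (c (algebraMap Λ P r)) 0, map_zero]
        rw [hc, AlgHom.commutes, AlgHom.commutes, sub_self, zero_mul] }
  let g : P ⟶ dual Λ k := Art.homMk φ (AlgHom.ext fun _ => rfl)
  refine ⟨g, fun z => ⟨c z, rfl, hc z⟩, ⟨by rw [comp_toBase, comp_toBase], fun z w h₁ h₂ => hP.inj z w h₁ ?_,
    fun b d hbd => ?_⟩⟩
  · have h3 : B.res (c z) = B.res (c w) := congrArg TrivSqZeroExt.snd h₂
    have h4 : (c z - c w) * t = 0 := hm _ (by rw [B.mem_maximalIdeal_iff, map_sub, h3, sub_self]) t htk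
    rw [sub_mul, sub_eq_zero, hc, hc, h₁] at h4
    exact sub_left_injective h4
  · obtain ⟨a, ha⟩ := B.res_surjective d.snd
    have h0 : p t = 0 := htk
    obtain ⟨z, hz₁, hz₂⟩ := hP.surj b (b + a * t) (by rw [map_add, map_mul, h0, mul_zero, add_zero])
    refine ⟨z, hz₁, TrivSqZeroExt.ext ?_ ?_⟩
    · change P.res z = d.fst
      rw [← hr, hz₁]
      exact hbd
    · change B.res (c z) = d.snd
      rw [uniq (c z) a (by rw [hc, hz₁, hz₂, add_sub_cancel_left]), ha]

end Groth.Agent.Misc9.SF
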