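import Groth.Agent.Misc9.SF.Basic

/-! Conditions on functors of Artin rings, tangent spaces and the action on lifts. -/

universe u v w

set_option synthInstance.maxHeartbeats 20000

open CategoryTheory

namespace Groth.Agent.Misc9.SF

open ArtFun ArtFun.Art

variable {Λ k : Type u} [CommRing Λ] [Field k] [Algebra Λ k]

/-- The Rim–Schlessinger condition. -/
abbrev RS (F : Art Λ k ⥤ Type v) : Prop :=
  ∀ ⦃B A A' A'' : Art Λ k⦄ (p' : B ⟶ A') (p'' : B ⟶ A'') (f' : A' ⟶ A) (f'' : A'' ⟶ A)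
    (h : IsFibreProd p' p'' f' f''), Function.Surjective f'' → Function.Bijective (cmp F h)

theorem IsSmallExt.surjective {A B : Art Λ k} {p : B ⟶ A} (h : IsSmallExt p) : Function.Surjective p := h.1

theorem toBase_dual_isSmallExt : IsSmallExt (toBase (dual Λ k)) := by
  refine (isSmallExt_iff _).2 ⟨toBase_surjective _, (TrivSqZeroExt.inr 1 : DualNumber k), ?_, fun x hx => ?_, ?_⟩
  · intro h
    exact one_ne_zero (congrArg TrivSqZeroExt.snd h)
  · have h0 : (x : DualNumber k).fst = 0 := (Art.mem_maximalIdeal_iff _ _).1 hx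
    refine TrivSqZeroExt.ext ?_ ?_
    · change (x : DualNumber k).fst * 0 = 0
      rw [mul_zero]
    · change (x : DualNumber k).fst • (1 : k) + MulOpposite.op (0 : k) • (x : DualNumber k).snd = 0
      rw [h0, zero_smul, MulOpposite.op_zero, zero_smul, add_zero]
  · ext x
    change (x : DualNumber k).fst = 0 ↔ _
    constructor
    · intro h0
      refine Ideal.mem_span_singleton'.2 ⟨TrivSqZeroExt.inl (x : DualNumber k).snd, ?_⟩
      refine TrivSqZeroExt.ext ?_ ?_
      · change (x : DualNumber k).snd * 0 = (x : DualNumber k).fst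
        rw [mul_zero, h0]
      · change (x : DualNumber k).snd • (1 : k) + MulOpposite.op (0 : k) • (0 : k) = (x : DualNumber k).snd
        rw [smul_eq_mul, mul_one, smul_zero, add_zero]
    · intro hx
      obtain ⟨c, rfl⟩ := Ideal.mem_span_singleton'.1 hx
      exact mul_zero _

section CmpLemmas

variable {F : Art Λ k ⥤ Type v} {B A A' A'' : Art Λ k} {p' : B ⟶ A'} {p'' : B ⟶ A''} {f' : A' ⟶ A} {f'' : A'' ⟶ A}
  {h : IsFibreProd p' p'' f' f''}

theorem cmp_surj (hs : Function.Surjective (cmp F h)) {x : F.obj A'} {y : F.obj A''}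
    (e : F.map f' x = F.map f'' y) : ∃ z, F.map p' z = x ∧ F.map p'' z = y :=
  (hs ⟨(x, y), e⟩).imp fun _ hz => ⟨congrArg (fun t => t.1.1) hz, congrArg (fun t => t.1.2) hz⟩

theorem cmp_inj (hi : Function.Injective (cmp F h)) {z z' : F.obj B} (e : F.map p' z = F.map p' z')
    (e' : F.map p'' z = F.map p'' z') : z = z' := hi (FibProd.ext e e')

theorem cmp_surjective_of (H : ∀ x y, F.map f' x = F.map f'' y → ∃ z, F.map p' z = x ∧ F.map p'' z = y) :
    Function.Surjective (cmp F h) := fun x =>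
  (H x.1.1 x.1.2 x.2).imp fun _ hz => FibProd.ext hz.1 hz.2

theorem cmp_injective_of (H : ∀ z z', F.map p' z = F.map p' z' → F.map p'' z = F.map p'' z' → z = z') :
    Function.Injective (cmp F h) := fun z z' e =>
  H z z' (congrArg (fun t => t.1.1) e) (congrArg (fun t => t.1.2) e)

end CmpLemmas

theorem surjective_of_small (F : Art Λ k ⥤ Type v) (hF : Hbar F) : S1 F := by
  intro B A A' A'' p' p'' f' f'' h hs
  refine (surjective_induction (fun A A'' f'' => Function.Surjective f'' ∧ ∀ ⦃B A' : Art Λ k⦄ (p' : B ⟶ A')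
    (p'' : B ⟶ A'') (f' : A' ⟶ A) (h : IsFibreProd p' p'' f' f''), Function.Surjective (cmp F h)) ?_ ?_ ?_ f'' hs).2
    p' p'' f' h
  · intro A A'' e he
    have hb := (isIso_iff e).1 he
    refine ⟨hb.2, fun B A' p' p'' f' h => cmp_surjective_of fun x y exy => ?_⟩
    obtain ⟨g, hg, hg'⟩ := exists_inverse e hb
    obtain ⟨l, hl, hl'⟩ := fp_exists_lift h (𝟙 A') (f' ≫ g) (by rw [Category.id_comp, Category.assoc, hg', Category.comp_id])
    refine ⟨F.map l x, by rw [map_map, hl, map_id'], ?_⟩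
    rw [map_map, hl', ← map_map F f' g, exy, map_map, hg, map_id']
  · exact fun A A'' p hp => ⟨hp.1, fun B A' p' p'' f' h => hF p' p'' f' p h hp⟩
  · rintro A M A'' p q ⟨hps, hp⟩ ⟨hqs, hq⟩
    refine ⟨hqs.comp hps, fun B A' p' p'' f' h => cmp_surjective_of fun x y exy => ?_⟩
    obtain ⟨B', a, b, h'⟩ := exists_fib f' q hqs
    obtain ⟨l, hl, hl'⟩ := fp_exists_lift h' p' (p'' ≫ p) (by rw [Category.assoc]; exact h.w)
    have h'' : IsFibreProd l p'' b p := ⟨hl', fun z z' e e' =>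
      h.inj z z' (by rw [← hl, ArtFun.Art.comp_apply, ArtFun.Art.comp_apply, e]) e', fun z' a'' e => by
        obtain ⟨z, hz, hz'⟩ := h.surj (a z') a'' (by rw [h'.w_apply, e]; rfl)
        refine ⟨z, h'.inj _ _ ?_ ?_, hz'⟩
        · rw [← ArtFun.Art.comp_apply, hl, hz]
        · rw [← ArtFun.Art.comp_apply, hl', ArtFun.Art.comp_apply, hz', ← e]⟩
    obtain ⟨z', hz', hz''⟩ := cmp_surj (hq a b f' h') (x := x) (y := F.map p y) (by rw [exy, map_map])
    obtain ⟨z, hz, hzy⟩ := cmp_surj (hp l p'' b h'') (x := z') (y := y) hz''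
    exact ⟨z, by rw [← hl, ← map_map, hz, hz'], hzy⟩

theorem injective_of_small (F : Art Λ k ⥤ Type v)
    (hF : ∀ ⦃B A A' A'' : Art Λ k⦄ (p' : B ⟶ A') (p'' : B ⟶ A'') (f' : A' ⟶ A) (f'' : A'' ⟶ A)
      (h : IsFibreProd p' p'' f' f''), IsSmallExt f'' → Function.Injective (cmp F h))
    ⦃B A A' A'' : Art Λ k⦄ (p' : B ⟶ A') (p'' : B ⟶ A'') (f' : A' ⟶ A) (f'' : A'' ⟶ A)
    (h : IsFibreProd p' p'' f' f'') (hs : Function.Surjective f'') : Function.Injective (cmp F h) := by
  refine (surjective_induction (fun A A'' f'' => Function.Surjective f'' ∧ ∀ ⦃B A' : Art Λ k⦄ (p' : B ⟶ A')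
    (p'' : B ⟶ A'') (f' : A' ⟶ A) (h : IsFibreProd p' p'' f' f''), Function.Injective (cmp F h)) ?_ ?_ ?_ f'' hs).2
    p' p'' f' h
  · intro A A'' e he
    have hb := (isIso_iff e).1 he
    refine ⟨hb.2, fun B A' p' p'' f' h => cmp_injective_of fun z z' e1 _ => ?_⟩
    obtain ⟨g, hg, -⟩ := exists_inverse p' ⟨fun x y exy => h.inj x y exy (hb.1 (by
      rw [← h.w_apply, ← h.w_apply, exy])), fp_surjective h hb.2⟩
    have := congrArg (F.map g) e1
    rwa [map_map, map_map, hg, map_id', map_id'] at this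
  · exact fun A A'' p hp => ⟨hp.1, fun B A' p' p'' f' h => hF p' p'' f' p h hp⟩
  · rintro A M A'' p q ⟨hps, hp⟩ ⟨hqs, hq⟩
    refine ⟨hqs.comp hps, fun B A' p' p'' f' h => cmp_injective_of fun z z' e1 e2 => ?_⟩
    obtain ⟨B', a, b, h'⟩ := exists_fib f' q hqs
    obtain ⟨l, hl, hl'⟩ := fp_exists_lift h' p' (p'' ≫ p) (by rw [Category.assoc]; exact h.w)
    have h'' : IsFibreProd l p'' b p := ⟨hl', fun z z' e e' =>
      h.inj z z' (by rw [← hl, ArtFun.Art.comp_apply, ArtFun.Art.comp_apply, e]) e', fun z' a'' e => by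
        obtain ⟨z, hz, hz'⟩ := h.surj (a z') a'' (by rw [h'.w_apply, e]; rfl)
        refine ⟨z, h'.inj _ _ ?_ ?_, hz'⟩
        · rw [← ArtFun.Art.comp_apply, hl, hz]
        · rw [← ArtFun.Art.comp_apply, hl', ArtFun.Art.comp_apply, hz', ← e]⟩
    refine cmp_inj (hp l p'' b h'') (cmp_inj (hq a b f' h') ?_ ?_) e2
    · rw [map_map, map_map, hl, e1]
    · rw [map_map, map_map, hl', ← map_map F p'' p, e2, map_map]

theorem s1_iff_hbar (F : Art Λ k ⥤ Type v) : S1 F ↔ Hbar F :=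
  ⟨fun h _ _ _ _ p' p'' f' f'' hh hs => h p' p'' f' f'' hh hs.1, surjective_of_small F⟩

theorem rs_of_small (F : Art Λ k ⥤ Type v)
    (hF : ∀ ⦃B A A' A'' : Art Λ k⦄ (p' : B ⟶ A') (p'' : B ⟶ A'') (f' : A' ⟶ A) (f'' : A'' ⟶ A)
      (h : IsFibreProd p' p'' f' f''), IsSmallExt f'' → Function.Bijective (cmp F h)) : RS F :=
  fun _ _ _ _ p' p'' f' f'' h hs =>
    ⟨injective_of_small F (fun _ _ _ _ a b c d e g => (hF a b c d e g).1) p' p'' f' f'' h hs,
      surjective_of_small F (fun _ _ _ _ a b c d e g => (hF a b c d e g).2) p' p'' f' f'' h hs⟩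

theorem RS.s1 {F : Art Λ k ⥤ Type v} (h : RS F) : S1 F := fun _ _ _ _ a b c d e g => (h a b c d e g).2

theorem RS.hbar {F : Art Λ k ⥤ Type v} (h : RS F) : Hbar F := fun _ _ _ _ a b c d e g => (h a b c d e g.1).2

theorem RS.heps {F : Art Λ k ⥤ Type v} (h : RS F) : Heps F := fun _ _ a b e => h a b _ _ e (toBase_surjective _)

theorem RS.hsq {F : Art Λ k ⥤ Type v} (h : RS F) : HSq F := fun _ _ _ a b f e g => h a b f f e g.1

theorem h0_subsingleton {F : Art Λ k ⥤ Type v} (h : H0 F) : Subsingleton (F.obj (base Λ k)) := h.2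

/-! ### The functor of points -/

section HR

variable {R : Type u} [CommRing R] [Algebra Λ R] {resR : R →ₐ[Λ] k}

theorem homSet_ext {A : Art Λ k} {φ ψ : HomSet R resR A} (h : ∀ r, φ.1 r = ψ.1 r) : φ = ψ :=
  Subtype.ext (AlgHom.ext h)

theorem homSet_map_map {A B C : Art Λ k} (f : A ⟶ B) (g : B ⟶ C) (φ : HomSet R resR A) :
    HomSet.map g (HomSet.map f φ) = HomSet.map (f ≫ g) φ := rfl

theorem homSet_lift {B A A' A'' : Art Λ k} {p' : B ⟶ A'} {p'' : B ⟶ A''} {f' : A' ⟶ A} {f'' : A'' ⟶ A}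
    (h : IsFibreProd p' p'' f' f'') (a : HomSet R resR A') (b : HomSet R resR A'')
    (e : HomSet.map f' a = HomSet.map f'' b) :
    ∃ l : HomSet R resR B, HomSet.map p' l = a ∧ HomSet.map p'' l = b := by
  choose s hs hs' using fun x => h.surj (a.1 x) (b.1 x) (AlgHom.congr_fun (congrArg Subtype.val e) x)
  let φ : R →ₐ[Λ] B :=
    { toFun := s
      map_one' := h.inj _ _ (by rw [hs]; simp) (by rw [hs']; simp)
      map_mul' := fun x y => h.inj _ _ (by rw [hs, map_mul, map_mul, hs, hs]) (by rw [hs', map_mul, map_mul, hs', hs'])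
      map_zero' := h.inj _ _ (by rw [hs]; simp) (by rw [hs']; simp)
      map_add' := fun x y => h.inj _ _ (by rw [hs, map_add, map_add, hs, hs]) (by rw [hs', map_add, map_add, hs', hs'])
      commutes' := fun r => h.inj _ _ (by rw [hs, AlgHom.commutes, AlgHom.commutes])
        (by rw [hs', AlgHom.commutes, AlgHom.commutes]) }
  refine ⟨⟨φ, AlgHom.ext fun x => ?_⟩, homSet_ext hs, homSet_ext hs'⟩
  change B.res (s x) = resR x
  rw [← res_app p', hs]
  exact AlgHom.congr_fun a.2 x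

theorem homSet_inj {B A A' A'' : Art Λ k} {p' : B ⟶ A'} {p'' : B ⟶ A''} {f' : A' ⟶ A} {f'' : A'' ⟶ A}
    (h : IsFibreProd p' p'' f' f'') {l l' : HomSet R resR B} (e : HomSet.map p' l = HomSet.map p' l')
    (e' : HomSet.map p'' l = HomSet.map p'' l') : l = l' :=
  homSet_ext fun x => h.inj _ _ (AlgHom.congr_fun (congrArg Subtype.val e) x) (AlgHom.congr_fun (congrArg Subtype.val e') x)

theorem hR_isLeftExact : IsLeftExact (hR R resR) := fun _ _ _ _ _ _ _ _ h =>
  ⟨cmp_injective_of fun z z' (e : HomSet.map _ z = HomSet.map _ z') e' => homSet_inj h e e',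
    cmp_surjective_of fun x y e => homSet_lift h x y e⟩

theorem hR_rs : RS (hR R resR) := fun _ _ _ _ p' p'' f' f'' h _ => hR_isLeftExact p' p'' f' f'' h

theorem homSet_base (φ : HomSet R resR (base Λ k)) : φ.1 = resR := (AlgHom.id_comp φ.1).symm.trans φ.2

/-- the point of `h_R(k)`. -/
def homSetBase (R : Type u) [CommRing R] [Algebra Λ R] (resR : R →ₐ[Λ] k) : HomSet R resR (base Λ k) :=
  ⟨resR, AlgHom.id_comp resR⟩

theorem hR_h0 : H0 (hR R resR) :=
  ⟨⟨homSetBase R resR⟩, ⟨fun x y => Subtype.ext ((homSet_base x).trans (homSet_base y).symm)⟩⟩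

end HR

/-! ### The tangent space -/

section Tangent

theorem exists_pair {F : Art Λ k ⥤ Type v} (h2 : Heps F) (hb : Subsingleton (F.obj (base Λ k)))
    (x y : F.obj (dual Λ k)) : ∃ z : F.obj (dual2 Λ k), F.map pr₁ z = x ∧ F.map pr₂ z = y :=
  cmp_surj (h2 pr₁ pr₂ isFibreProd_dual2).2 (hb.elim _ _)

theorem pair_ext {F : Art Λ k ⥤ Type v} (h2 : Heps F) {z z' : F.obj (dual2 Λ k)}
    (e : F.map pr₁ z = F.map pr₁ z') (e' : F.map pr₂ z = F.map pr₂ z') : z = z' :=
  cmp_inj (h2 pr₁ pr₂ isFibreProd_dual2).1 e e'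

/-- `k → k ⊕ k^ι`. -/
noncomputable def baseToSq (ι : Type) [Fintype ι] : base Λ k ⟶ sq Λ k ι :=
  ⟨(Algebra.ofId k (TrivSqZeroExt k (ι → k))).restrictScalars Λ, AlgHom.ext fun _ => rfl⟩

theorem exists_sq_elt {F : Art Λ k ⥤ Type v} (h2 : Heps F) (h0 : H0 F) :
    ∀ (n : ℕ) (x : Fin n → F.obj (dual Λ k)),
      ∃ w : F.obj (sq Λ k (Fin n)), ∀ i, F.map (toDual (LinearMap.proj i)) w = x i := by
  intro n
  induction n with
  | zero => exact fun _ => h0.1.elim fun x₀ => ⟨F.map (baseToSq (Fin 0)) x₀, fun i => i.elim0⟩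
  | succ n ih =>
    intro x
    obtain ⟨w, hw⟩ := ih fun i => x i.castSucc
    let q : sq Λ k (Fin (n + 1)) ⟶ sq Λ k (Fin n) :=
      ⟨tszeMap (LinearMap.funLeft k k Fin.castSucc), AlgHom.ext fun _ => rfl⟩
    let r : sq Λ k (Fin (n + 1)) ⟶ dual Λ k := toDual (LinearMap.proj (Fin.last n))
    have hsq : IsFibreProd q r (toBase (sq Λ k (Fin n))) (toBase (dual Λ k)) :=
      ⟨by rw [comp_toBase, comp_toBase], fun a b e e' => by
        have e₁ : (r a : DualNumber k).fst = (r b : DualNumber k).fst := by rw [e']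
        have e₂ : (r a : DualNumber k).snd = (r b : DualNumber k).snd := by rw [e']
        have e₃ : (q a : TrivSqZeroExt k (Fin n → k)).snd = (q b : TrivSqZeroExt k (Fin n → k)).snd := by rw [e]
        refine TrivSqZeroExt.ext e₁ (funext fun i => ?_)
        induction i using Fin.lastCases with
        | last => exact e₂
        | cast j => exact congrFun e₃ j,
      fun a b e => ⟨((a.fst, Fin.snoc a.snd b.snd) : TrivSqZeroExt k (Fin (n + 1) → k)),
        TrivSqZeroExt.ext rfl (funext fun j => Fin.snoc_castSucc (α := fun _ => k) _ _ _),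
        TrivSqZeroExt.ext e (Fin.snoc_last (α := fun _ => k) _ _)⟩⟩
    obtain ⟨z, hz, hz'⟩ := cmp_surj (h2 q r hsq).2 (x := w) (y := x (Fin.last n)) (h0.2.elim _ _)
    refine ⟨z, fun i => ?_⟩
    induction i using Fin.lastCases with
    | last => exact hz'
    | cast j =>
      rw [← hw j, ← hz, map_map]
      rfl

variable {F : Art Λ k ⥤ Type v}

theorem map_toDual_add [T : TangentStr F] {ι : Type} [Fintype ι] (w : F.obj (sq Λ k ι))
    (f g : (ι → k) →ₗ[k] k) :
    TangentSpace.mk (F.map (toDual (f + g)) w) = TangentSpace.mk (F.map (toDual f) w) + TangentSpace.mk (F.map (toDual g) w) := by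
  have h := T.add_eq (F.map (toDual2 (f.prod g)) w)
  rw [map_map, map_map, map_map, toDual2_pr₁, toDual2_pr₂, toDual2_plus] at h
  exact h.symm

theorem map_toDual_smul [T : TangentStr F] {ι : Type} [Fintype ι] (w : F.obj (sq Λ k ι))
    (f : (ι → k) →ₗ[k] k) (c : k) :
    TangentSpace.mk (F.map (toDual (c • f)) w) = c • TangentSpace.mk (F.map (toDual f) w) := by
  rw [← toDual_scale, ← map_map]
  exact (T.smul_eq c _).symm

/-- the linear map `(k^ι)^∨ → t_F` attached to an element over `k ⊕ k^ι`. -/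
noncomputable def tangentMap [TangentStr F] {ι : Type} [Fintype ι] (w : F.obj (sq Λ k ι)) :
    ((ι → k) →ₗ[k] k) →ₗ[k] TangentSpace F where
  toFun f := TangentSpace.mk (F.map (toDual f) w)
  map_add' f g := map_toDual_add w f g
  map_smul' c f := map_toDual_smul w f c

theorem tangent_zero [TangentStr F] (x₀ : F.obj (base Λ k)) (hb : Subsingleton (F.obj (base Λ k))) :
    TangentSpace.mk (F.map baseToDual x₀) = 0 := by
  have h := TangentStr.smul_eq (F := F) (0 : k) (F.map baseToDual x₀)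
  have hs : scale (Λ := Λ) (0 : k) = toBase (dual Λ k) ≫ baseToDual := hom_ext' fun x =>
    TrivSqZeroExt.ext rfl (by change (0 : k) • _ = (0 : k); rw [zero_smul])
  rw [hs, ← map_map, hb.elim (F.map (toBase (dual Λ k)) (F.map baseToDual x₀)) x₀] at h
  exact h.symm.trans (zero_smul k (TangentSpace.mk (F.map baseToDual x₀)))

theorem nonempty_tangentStr (F : Art Λ k ⥤ Type v) (h0 : H0 F) (h2 : Heps F) : Nonempty (TangentStr F) := by
  choose pz hp₁ hp₂ using exists_pair h2 h0.2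
  obtain ⟨x₀⟩ := h0.1
  let T := F.obj (dual Λ k)
  letI : Add T := ⟨fun x y => F.map plus (pz x y)⟩
  letI : Zero T := ⟨F.map baseToDual x₀⟩
  letI : SMul k T := ⟨fun c x => F.map (scale c) x⟩
  letI : Neg T := ⟨fun x => (-1 : k) • x⟩
  have hadd : ∀ z : F.obj (dual2 Λ k), (F.map pr₁ z : T) + F.map pr₂ z = F.map plus z := fun z => by
    change F.map plus (pz _ _) = _
    rw [pair_ext h2 (hp₁ (F.map pr₁ z) (F.map pr₂ z)) (hp₂ _ _)]
  have hlin : ∀ {ι : Type} [Fintype ι] (w : F.obj (sq Λ k ι)) (f g : (ι → k) →ₗ[k] k),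
      (F.map (toDual f) w : T) + F.map (toDual g) w = F.map (toDual (f + g)) w := by
    intro ι _ w f g
    have h := hadd (F.map (toDual2 (f.prod g)) w)
    rw [map_map, map_map, map_map, toDual2_pr₁, toDual2_pr₂, toDual2_plus] at h
    exact h
  have hsc : ∀ {ι : Type} [Fintype ι] (w : F.obj (sq Λ k ι)) (f : (ι → k) →ₗ[k] k) (c : k),
      (c • (F.map (toDual f) w : T)) = F.map (toDual (c • f)) w := by
    intro ι _ w f c
    change F.map (scale c) _ = _
    rw [map_map, toDual_scale]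
  have hzero : ∀ {ι : Type} [Fintype ι] (w : F.obj (sq Λ k ι)),
      (0 : T) = F.map (toDual (0 : (ι → k) →ₗ[k] k)) w := by
    intro ι _ w
    have : toDual (Λ := Λ) (0 : (ι → k) →ₗ[k] k) = toBase _ ≫ baseToDual :=
      hom_ext' fun x => TrivSqZeroExt.ext rfl rfl
    rw [this, ← map_map]
    exact congrArg (F.map baseToDual) (h0.2.elim _ _)
  have key : ∀ x y z : T, ∃ w : F.obj (sq Λ k (Fin 3)), F.map (toDual (LinearMap.proj 0)) w = x ∧
      F.map (toDual (LinearMap.proj 1)) w = y ∧ F.map (toDual (LinearMap.proj 2)) w = z := fun x y z =>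
    (exists_sq_elt h2 h0 3 ![x, y, z]).imp fun w hw => ⟨hw 0, hw 1, hw 2⟩
  letI G : AddCommGroup T :=
    { add := (· + ·)
      zero := 0
      neg := fun x => -x
      add_assoc := fun x y z => by
        obtain ⟨w, rfl, rfl, rfl⟩ := key x y z
        rw [hlin, hlin, hlin, hlin, add_assoc]
      zero_add := fun x => by
        obtain ⟨w, rfl, -, -⟩ := key x x x
        rw [hzero w, hlin, zero_add]
      add_zero := fun x => by
        obtain ⟨w, rfl, -, -⟩ := key x x x
        rw [hzero w, hlin, add_zero]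
      nsmul := nsmulRec
      zsmul := zsmulRec
      neg_add_cancel := fun x => by
        obtain ⟨w, rfl, -, -⟩ := key x x x
        change ((-1 : k) • F.map (toDual (LinearMap.proj 0)) w : T) + _ = _
        rw [hsc, hlin, hzero w, show (-1 : k) • (LinearMap.proj 0 : (Fin 3 → k) →ₗ[k] k) + LinearMap.proj 0 = 0 by ext; simp [LinearMap.smul_apply]]
      add_comm := fun x y => by
        obtain ⟨w, rfl, rfl, -⟩ := key x y y
        rw [hlin, hlin, add_comm] }
  refine ⟨⟨G,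
    { smul := (· • ·)
      one_smul := fun x => by
        obtain ⟨w, rfl, -, -⟩ := key x x x
        rw [hsc, one_smul]
      mul_smul := fun a b x => by
        obtain ⟨w, rfl, -, -⟩ := key x x x
        rw [hsc, hsc, hsc, mul_smul]
      smul_zero := fun a => by
        obtain ⟨w, -⟩ := key 0 0 0
        rw [hzero w, hsc, smul_zero]
      smul_add := fun a x y => by
        obtain ⟨w, rfl, rfl, -⟩ := key x y y
        rw [hlin, hsc, hsc, hsc, hlin, smul_add]
      add_smul := fun a b x => by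
        obtain ⟨w, rfl, -, -⟩ := key x x x
        rw [hsc, hsc, hsc, hlin, add_smul]
      zero_smul := fun x => by
        obtain ⟨w, rfl, -, -⟩ := key x x x
        rw [hsc, hzero w, zero_smul] }, fun _ _ => rfl, hadd⟩⟩

end Tangent

/-! ### The action of the tangent space on lifts along a small extension -/

/-- A realisation of `B ×_A B ≅ B ×_k k[ε]`. -/
structure Tor {A B : Art Λ k} (p : B ⟶ A) where
  /-- the object -/
  P : Art Λ k
  /-- first projection -/
  p₁ : P ⟶ B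
  /-- second projection -/
  p₂ : P ⟶ B
  /-- difference -/
  g : P ⟶ dual Λ k
  hP : IsFibreProd p₁ p₂ p p
  hg : IsFibreProd p₁ g (toBase B) (toBase (dual Λ k))
  hdiag : ∀ z : P, p₁ z = p₂ z → (g z).snd = 0

theorem nonempty_tor {A B : Art Λ k} (p : B ⟶ A) (hp : IsSmallExt p) : Nonempty (Tor p) := by
  obtain ⟨t, ht⟩ := hp.2.2.1.principal
  obtain ⟨P, p₁, p₂, hP⟩ := exists_fib p p hp.1
  obtain ⟨g, hspec, hg⟩ := exists_diff p hp p₁ p₂ hP t ht
  refine ⟨⟨P, p₁, p₂, g, hP, hg, fun z hz => ?_⟩⟩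
  obtain ⟨c, hc, hct⟩ := hspec z
  rw [hz, sub_self] at hct
  rw [← hc, ← B.mem_maximalIdeal_iff]
  by_contra hu
  exact hp.2.1 (by rw [ht, (IsLocalRing.notMem_maximalIdeal.1 hu).mul_right_eq_zero.1 hct, Submodule.span_singleton_eq_bot])

variable {A B : Art Λ k} {p : B ⟶ A}

/-- `y'` is obtained from `y` by acting with `θ`. -/
def Tor.Rel (T : Tor p) (F : Art Λ k ⥤ Type v) (θ : F.obj (dual Λ k)) (y y' : F.obj B) : Prop :=
  ∃ z : F.obj T.P, F.map T.p₁ z = y ∧ F.map T.g z = θ ∧ F.map T.p₂ z = y'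

variable (T : Tor p) {F : Art Λ k ⥤ Type v}

theorem Tor.map_eq {θ : F.obj (dual Λ k)} {y y' : F.obj B} (h : T.Rel F θ y y') : F.map p y' = F.map p y := by
  obtain ⟨z, rfl, -, rfl⟩ := h
  rw [map_map, map_map, T.hP.w]

theorem Tor.exists_rel (h2 : Heps F) (hb : Subsingleton (F.obj (base Λ k))) (θ : F.obj (dual Λ k)) (y : F.obj B) :
    ∃ y', T.Rel F θ y y' := by
  obtain ⟨z, hz, hz'⟩ := cmp_surj (h2 _ _ T.hg).2 (x := y) (y := θ) (hb.elim _ _)
  exact ⟨F.map T.p₂ z, z, hz, hz', rfl⟩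

theorem Tor.rel_unique (h2 : Heps F) {θ : F.obj (dual Λ k)} {y y₁ y₂ : F.obj B} (h : T.Rel F θ y y₁)
    (h' : T.Rel F θ y y₂) : y₁ = y₂ := by
  obtain ⟨z, h1, h2', rfl⟩ := h
  obtain ⟨z', h1', h2'', rfl⟩ := h'
  rw [cmp_inj (h2 _ _ T.hg).1 (h1.trans h1'.symm) (h2'.trans h2''.symm)]

theorem Tor.transitive (h1 : Hbar F) (hp : IsSmallExt p) {y y' : F.obj B} (h : F.map p y = F.map p y') :
    ∃ θ, T.Rel F θ y y' := by
  obtain ⟨z, hz, hz'⟩ := cmp_surj (h1 _ _ _ _ T.hP hp) h
  exact ⟨F.map T.g z, z, hz, rfl, hz'⟩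

theorem Tor.free (h4 : HSq F) (hp : IsSmallExt p) {θ θ' : F.obj (dual Λ k)} {y y' : F.obj B}
    (h : T.Rel F θ y y') (h' : T.Rel F θ' y y') : θ = θ' := by
  obtain ⟨z, h1, rfl, h3⟩ := h
  obtain ⟨z', h1', rfl, h3'⟩ := h'
  rw [cmp_inj (h4 _ _ _ T.hP hp).1 (h1.trans h1'.symm) (h3.trans h3'.symm)]

theorem Tor.rel_zero (hb : Subsingleton (F.obj (base Λ k))) (x₀ : F.obj (base Λ k)) (y : F.obj B) :
    T.Rel F (F.map baseToDual x₀) y y := by
  obtain ⟨d, hd, hd'⟩ := fp_exists_lift T.hP (𝟙 B) (𝟙 B) rfl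
  have hdg : d ≫ T.g = toBase B ≫ baseToDual := hom_ext' fun b => TrivSqZeroExt.ext (res_app (d ≫ T.g) b)
    (T.hdiag (d b) (by rw [← ArtFun.Art.comp_apply, ← ArtFun.Art.comp_apply, hd, hd']))
  refine ⟨F.map d y, by rw [map_map, hd, map_id'], ?_, by rw [map_map, hd', map_id']⟩
  rw [map_map, hdg, ← map_map]
  exact congrArg (F.map baseToDual) (hb.elim _ _)

/-! ### Natural maps -/

section Nat

variable {F : Art Λ k ⥤ Type w} {G : Art Λ k ⥤ Type v} (η : ∀ A : Art Λ k, F.obj A → G.obj A)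

/-- naturality -/
def IsNatural : Prop := ∀ {A B : Art Λ k} (f : A ⟶ B) (x : F.obj A), η B (F.map f x) = G.map f (η A x)

/-- the lifting property along surjections -/
def IsSmoothMap : Prop :=
  ∀ ⦃B A : Art Λ k⦄ (μ : B ⟶ A), Function.Surjective μ → ∀ (x : F.obj A) (y : G.obj B), G.map μ y = η A x →
    ∃ x' : F.obj B, F.map μ x' = x ∧ η B x' = y

variable {η}

theorem smoothMap_of_small (hn : IsNatural η)
    (h : ∀ ⦃B A : Art Λ k⦄ (μ : B ⟶ A), IsSmallExt μ → ∀ (x : F.obj A) (y : G.obj B), G.map μ y = η A x →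
      ∃ x' : F.obj B, F.map μ x' = x ∧ η B x' = y) : IsSmoothMap η := by
  intro B A μ hμ
  refine surjective_induction (fun A B μ => ∀ (x : F.obj A) (y : G.obj B), G.map μ y = η A x →
    ∃ x' : F.obj B, F.map μ x' = x ∧ η B x' = y) ?_ (fun A B p hp => h p hp) ?_ μ hμ
  · intro A B e he x y hy
    obtain ⟨g, hg, hg'⟩ := exists_inverse e ((isIso_iff e).1 he)
    refine ⟨F.map g x, by rw [map_map, hg', map_id'], ?_⟩
    rw [hn, ← hy, map_map, hg, map_id']
  · intro A M B p q hp hq x y hy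
    obtain ⟨x₁, h1, h2⟩ := hq x (G.map p y) (by rw [map_map, hy])
    obtain ⟨x₂, h3, h4⟩ := hp x₁ y h2.symm
    exact ⟨x₂, by rw [← map_map, h3, h1], h4⟩

theorem Tor.rel_map (hn : IsNatural η) {θ : F.obj (dual Λ k)} {y y' : F.obj B} (h : T.Rel F θ y y') :
    T.Rel G (η _ θ) (η _ y) (η _ y') := by
  obtain ⟨z, rfl, rfl, rfl⟩ := h
  exact ⟨η _ z, (hn _ _).symm, (hn _ _).symm, (hn _ _).symm⟩

/-- Schlessinger's criterion for smoothness. -/
theorem smoothMap_criterion (hn : IsNatural η) (hF2 : Heps F) (hFb : Subsingleton (F.obj (base Λ k)))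
    (hG1 : Hbar G) (hG2 : Heps G) (hT : Function.Surjective (η (dual Λ k)))
    (hlift : ∀ ⦃B A : Art Λ k⦄ (μ : B ⟶ A), IsSmallExt μ → ∀ (x : F.obj A) (y : G.obj B), G.map μ y = η A x →
      ∃ x' : F.obj B, F.map μ x' = x) : IsSmoothMap η := by
  refine smoothMap_of_small hn fun B A μ hμ x y hy => ?_
  obtain ⟨x', hx'⟩ := hlift μ hμ x y hy
  obtain ⟨T⟩ := nonempty_tor μ hμ
  obtain ⟨θ, hθ⟩ := T.transitive hG1 hμ (y := η B x') (y' := y) (by rw [← hn, hx', hy])
  obtain ⟨θ', rfl⟩ := hT θ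
  obtain ⟨x'', hx''⟩ := T.exists_rel hF2 hFb θ' x'
  exact ⟨x'', (T.map_eq hx'').trans hx', T.rel_unique hG2 (T.rel_map hn hx'') hθ⟩

theorem injective_criterion (hn : IsNatural η) (hF1 : Hbar F) (hF2 : Heps F) (hFb : Subsingleton (F.obj (base Λ k)))
    (hG4 : HSq G) (hGb : Subsingleton (G.obj (base Λ k))) (hT : Function.Injective (η (dual Λ k)))
    (A : Art Λ k) : Function.Injective (η A) := by
  have key := surjective_induction (fun A B _ => Function.Injective (η A) → Function.Injective (η B))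
    (fun A B e he hA x x' exx => ?_) (fun A B μ hμ hA x x' exx => ?_) (fun A M B p q hp hq hA => hp (hq hA))
    (toBase A) (toBase_surjective A) (fun x x' _ => hFb.elim x x')
  · exact key
  · obtain ⟨g, hg, -⟩ := exists_inverse e ((isIso_iff e).1 he)
    have h1 : F.map e x = F.map e x' := hA (by rw [hn, hn, exx])
    have := congrArg (F.map g) h1
    rwa [map_map, map_map, hg, map_id', map_id'] at this
  · obtain ⟨T⟩ := nonempty_tor μ hμ
    obtain ⟨θ, hθ⟩ := T.transitive hF1 hμ (y := x) (y' := x') (hA (by rw [hn, hn, exx]))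
    have x₀ : F.obj (base Λ k) := F.map (toBase _) θ
    have h0 : η _ θ = η _ (F.map baseToDual x₀) := by
      refine T.free hG4 hμ (T.rel_map hn hθ) ?_
      rw [exx, hn]
      exact T.rel_zero hGb _ _
    exact T.rel_unique hF2 (T.rel_zero hFb x₀ x) (hT h0 ▸ hθ)

end Nat

section NatTrans

variable {F G : Art Λ k ⥤ Type v} (η : F ⟶ G)

theorem isNatural_natTrans : IsNatural (F := F) (G := G) fun A => η.app A :=
  fun f x => NatTrans.naturality_apply η f x

theorem isSmooth_iff : IsSmooth η ↔ IsSmoothMap (F := F) (G := G) fun A => η.app A := by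
  constructor
  · intro h B A μ hμ x y e
    obtain ⟨x', hx'⟩ := h μ hμ ⟨(x, y), e.symm⟩
    exact ⟨x', congrArg (fun t => t.1.1) hx', congrArg (fun t => t.1.2) hx'⟩
  · intro h B A μ hμ t
    obtain ⟨x', h1, h2⟩ := h μ hμ t.1.1 t.1.2 t.2.symm
    exact ⟨x', Subtype.ext (Prod.ext h1 h2)⟩

end NatTrans

section Fam

variable {R : Type u} [CommRing R] [Algebra Λ R] {resR : R →ₐ[Λ] k} {F : Art Λ k ⥤ Type v}
  (ξ : Family R resR F)

theorem isNatural_family : IsNatural (F := hR R resR) (G := F) fun A => ξ.app A :=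
  fun f x => ξ.natural f x

theorem isVersal_iff : IsVersal ξ ↔ IsSmoothMap (F := hR R resR) (G := F) fun A => ξ.app A :=
  ⟨fun h _ _ μ hμ x y e => h μ hμ x y e, fun h _ _ μ hμ x y e => h μ hμ x y e⟩

end Fam

end Groth.Agent.Misc9.SF
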