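import Groth.Agent.Misc9.SF.Square
import Mathlib.Dynamics.Newton
import Mathlib.RingTheory.Etale.Field

/-! Surjections and essential surjections between Artinian objects. -/

universe u v

set_option synthInstance.maxHeartbeats 40000
set_option maxHeartbeats 400000

open CategoryTheory Polynomial
open scoped TensorProduct

namespace Groth.Agent.Misc9.SF

open ArtFun ArtFun.Art IsLocalRing

variable {Λ k : Type u} [CommRing Λ] [Field k] [Algebra Λ k]

/-- the ideal `m_Λ B + m_B²`. -/
def nI (B : Art Λ k) : Ideal B :=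
  Ideal.map (algebraMap Λ B) (RingHom.ker (algebraMap Λ k)) ⊔ maximalIdeal B ^ 2

/-- essential surjection. -/
def IsEss {A B : Art Λ k} (f : B ⟶ A) : Prop :=
  Function.Surjective f ∧ ∀ (C : Art Λ k) (g : C ⟶ B), Function.Surjective (g ≫ f) → Function.Surjective g

theorem mapΛ_le {A B : Art Λ k} (g : B ⟶ A) :
    Ideal.map (algebraMap Λ A) (RingHom.ker (algebraMap Λ k)) ≤ (maximalIdeal B).map g.toAlgHom := by
  rw [Ideal.map_le_iff_le_comap]
  intro l hl
  rw [Ideal.mem_comap, ← g.toAlgHom.commutes]
  refine Ideal.mem_map_of_mem _ ?_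
  rw [B.mem_maximalIdeal_iff, AlgHom.commutes]
  exact hl

theorem surjective_of_max {A C : Art Λ k} (g : C ⟶ A)
    (h : maximalIdeal A ≤ (maximalIdeal C).map g.toAlgHom ⊔ maximalIdeal A ^ 2) : Function.Surjective g :=
  surjective_of_cotangent (R := cringOf C) (S := cringOf A) g.toAlgHom g.res_comp h

theorem nI_le (B : Art Λ k) : nI B ≤ maximalIdeal B :=
  sup_le (Ideal.map_le_iff_le_comap.2 fun l hl => by
    rw [Ideal.mem_comap, B.mem_maximalIdeal_iff, AlgHom.commutes]; exact hl) (Ideal.pow_le_self two_ne_zero)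

/-- a map hitting everything modulo `m_Λ A + m_A²` is surjective. -/
theorem surjective_of_mod {A C : Art Λ k} (g : C ⟶ A) (h : ∀ a, ∃ c, a - g c ∈ nI A) : Function.Surjective g := by
  refine surjective_of_max g fun x hx => ?_
  obtain ⟨c, hc⟩ := h x
  have hcm : c ∈ maximalIdeal C := by
    rw [C.mem_maximalIdeal_iff, ← res_app g]
    have h1 := (A.mem_maximalIdeal_iff _).1 (nI_le A hc)
    rw [map_sub, (A.mem_maximalIdeal_iff x).1 hx, zero_sub, neg_eq_zero] at h1
    exact h1
  rw [← sub_add_cancel x (g c)]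
  exact add_mem (sup_le (le_sup_of_le_left (mapΛ_le g)) le_sup_right hc)
    (Ideal.mem_sup_left (Ideal.mem_map_of_mem _ hcm))

theorem surjective_of_comp {A A' C : Art Λ k} (q : A ⟶ A') (hk : RingHom.ker q.toAlgHom ≤ nI A) (g : C ⟶ A)
    (h : Function.Surjective (g ≫ q)) : Function.Surjective g := by
  refine surjective_of_mod g fun a => ?_
  obtain ⟨c, hc⟩ := h (q a)
  refine ⟨c, hk ?_⟩
  rw [RingHom.mem_ker, map_sub, sub_eq_zero]
  exact hc.symm

theorem comp_surjective {A B C : Art Λ k} {g : C ⟶ B} {f : B ⟶ A} (hg : Function.Surjective g)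
    (hf : Function.Surjective f) : Function.Surjective (g ≫ f) := hf.comp hg

/-- (1) ⇔ (3). -/
theorem isEss_iff_quot {A B A' B' : Art Λ k} (f : B ⟶ A) (qB : B ⟶ B') (hqB : Function.Surjective qB)
    (hkB : RingHom.ker qB.toAlgHom = nI B) (qA : A ⟶ A') (hqA : Function.Surjective qA)
    (hkA : RingHom.ker qA.toAlgHom = nI A) (f' : B' ⟶ A') (hf' : qB ≫ f' = f ≫ qA) : IsEss f ↔ IsEss f' := by
  constructor
  · rintro ⟨hf, hess⟩
    have hs : Function.Surjective f' := Function.Surjective.of_comp (g := qB)
      (show Function.Surjective (qB ≫ f') by rw [hf']; exact comp_surjective hf hqA)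
    refine ⟨hs, fun C g hg => ?_⟩
    obtain ⟨P, p₁, p₂, hP⟩ := exists_fib g qB hqB
    have h1 : Function.Surjective (p₂ ≫ f) := surjective_of_comp qA hkA.le _ (by
      rw [Category.assoc, ← hf', ← Category.assoc, ← hP.w, Category.assoc]
      exact comp_surjective (fp_surjective hP hqB) hg)
    have h2 : Function.Surjective (p₂ ≫ qB) := comp_surjective (hess P p₂ h1) hqB
    rw [← hP.w] at h2
    exact Function.Surjective.of_comp (g := p₁) h2
  · rintro ⟨hs, hess⟩
    have hf : Function.Surjective f := surjective_of_comp qA hkA.le f (by rw [← hf']; exact comp_surjective hqB hs)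
    refine ⟨hf, fun C g hg => surjective_of_comp qB hkB.le g (hess C _ ?_)⟩
    rw [Category.assoc, hf', ← Category.assoc]
    exact comp_surjective hg hqA

theorem finite_art [IsNoetherianRing Λ] [Module.Finite Λ k] (A : Art Λ k) : Module.Finite Λ A := by
  suffices ∀ (M : Type u) [AddCommGroup M] [Module A M], IsFiniteLength A M →
      ∀ [Module Λ M] [IsScalarTower Λ A M], Module.Finite Λ M from
    this A (isFiniteLength_iff_isNoetherian_isArtinian.2 ⟨inferInstance, inferInstance⟩)
  intro M _ _ hM
  induction hM with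
  | of_subsingleton => exact inferInstance
  | @of_simple_quotient M _ _ N hs hN ih =>
    intro _ _
    haveI : Module.Finite Λ (N.restrictScalars Λ) := ih
    obtain ⟨I, hI, ⟨e⟩⟩ := isSimpleModule_iff_quot_maximal.1 hs
    haveI : Module.Finite Λ (A ⧸ I) := by
      have hIk : RingHom.ker A.res = I := (IsLocalRing.eq_maximalIdeal (RingHom.ker_isMaximal_of_surjective
        (A.res : A →+* k) A.res_surjective)).trans (IsLocalRing.eq_maximalIdeal hI).symm
      subst hIk
      exact Module.Finite.equiv ((Ideal.quotientKerAlgEquivOfSurjective A.res_surjective).symm.toLinearEquiv)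
    haveI : Module.Finite Λ (M ⧸ N.restrictScalars Λ) :=
      Module.Finite.equiv ((e.symm.restrictScalars Λ).trans (Submodule.Quotient.restrictScalarsEquiv Λ N).symm)
    exact Module.Finite.of_submodule_quotient (N.restrictScalars Λ)

theorem subsingleton_omega {A B : Art Λ k} [IsNoetherianRing Λ] [Module.Finite Λ k] (f : B ⟶ A) :
    letI : Algebra B A := f.toAlgHom.toRingHom.toAlgebra
    letI : Algebra A k := A.res.toRingHom.toAlgebra
    Function.Surjective f ↔ Subsingleton (k ⊗[A] Ω[A⁄B]) := by
  letI : Algebra B A := f.toAlgHom.toRingHom.toAlgebra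
  letI : Algebra A k := A.res.toRingHom.toAlgebra
  haveI : IsScalarTower Λ B A := IsScalarTower.of_algebraMap_eq fun l => (f.toAlgHom.commutes l).symm
  haveI : Module.Finite Λ A := finite_art A
  haveI : Module.Finite B A := Module.Finite.of_restrictScalars_finite Λ B A
  constructor
  · intro hf
    haveI : Subsingleton Ω[A⁄B] := KaehlerDifferential.subsingleton_of_surjective B A hf
    infer_instance
  · intro hsub
    haveI : IsLocalHom (algebraMap B A) := ⟨fun b hb => by
      by_contra h
      exact (IsLocalRing.mem_maximalIdeal _).1 (map_mem_maximalIdeal f ((IsLocalRing.mem_maximalIdeal b).2 h)) hb⟩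
    haveI : Algebra.FormallyUnramified B A := by
      refine ⟨(IsLocalRing.subsingleton_tensorProduct (R := A) (M := Ω[A⁄B])).1 ?_⟩
      let e : ResidueField A →ₐ[A] k := Ideal.Quotient.liftₐ (maximalIdeal A) (Algebra.ofId A k)
        (fun a ha => (A.mem_maximalIdeal_iff a).1 ha)
      have hb : Function.Bijective e := ⟨RingHom.injective (e : ResidueField A →+* k), fun c => by
        obtain ⟨a, rfl⟩ := A.res_surjective c
        exact ⟨Ideal.Quotient.mk _ a, rfl⟩⟩
      exact ((LinearEquiv.rTensor Ω[A⁄B] (LinearEquiv.ofBijective e.toLinearMap hb))).toEquiv.subsingleton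
    refine surjective_of_max f fun x hx => Ideal.mem_sup_left ?_
    have h := Algebra.FormallyUnramified.map_maximalIdeal (R := B) (S := A)
    rw [← h] at hx
    exact hx

section Sep

theorem exists_root [IsNoetherianRing Λ] [Module.Finite Λ k] [Algebra.IsSeparable (↥(algebraMap Λ k).range) k]
    (t : k) : ∃ P : Λ[X], Polynomial.aeval t P = 0 ∧ Polynomial.aeval t (derivative P) ≠ 0 := by
  have ht : IsSeparable (↥(algebraMap Λ k).range) t := Algebra.IsSeparable.isSeparable _ t
  obtain ⟨P, hP⟩ := Polynomial.map_surjective (algebraMap Λ k).rangeRestrict (RingHom.rangeRestrict_surjective _)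
    (minpoly (↥(algebraMap Λ k).range) t)
  have key : ∀ Q : Λ[X], Polynomial.aeval t Q = Polynomial.aeval t (Q.map (algebraMap Λ k).rangeRestrict) := fun Q => by
    rw [aeval_def, aeval_def, eval₂_map]
    rfl
  refine ⟨P, by rw [key, hP, minpoly.aeval], ?_⟩
  rw [key, ← derivative_map, hP]
  exact ht.aeval_derivative_ne_zero (minpoly.aeval _ t)

variable [IsNoetherianRing Λ] [Module.Finite Λ k] [Algebra.IsSeparable (↥(algebraMap Λ k).range) k]

theorem exists_fib_of_separable {A A₁ A₂ : Art Λ k} (f₁ : A₁ ⟶ A) (f₂ : A₂ ⟶ A) :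
    ∃ (B : Art Λ k) (p₁ : B ⟶ A₁) (p₂ : B ⟶ A₂), IsFibreProd p₁ p₂ f₁ f₂ := by
  refine ⟨_, _, _, fib_isFibreProd f₁ f₂ fun t => ?_⟩
  obtain ⟨P, hP, hP'⟩ := exists_root (Λ := Λ) t
  have root : ∀ B : Art Λ k, ∃ r : B, B.res r = t ∧ Polynomial.aeval r P = 0 ∧
      ∀ s : B, B.res s = t → Polynomial.aeval s P = 0 → s = r := by
    intro B
    obtain ⟨x, hx⟩ := B.res_surjective t
    have hnil : ∀ y : B, B.res y = 0 → IsNilpotent y := fun y hy => by
      obtain ⟨N, hN⟩ := exists_pow_eq_bot B
      exact ⟨N, by rw [← Ideal.mem_bot, ← hN]; exact Ideal.pow_mem_pow ((B.mem_maximalIdeal_iff y).2 hy) N⟩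
    have h1 : IsNilpotent (aeval x P) := hnil _ (by rw [← aeval_algHom_apply, hx, hP])
    have h2 : IsUnit (aeval x (derivative P)) := IsLocalRing.notMem_maximalIdeal.1 fun h => hP' (by
      rw [B.mem_maximalIdeal_iff, ← aeval_algHom_apply, hx] at h
      exact h)
    obtain ⟨r, ⟨hr, hr'⟩, huniq⟩ := existsUnique_nilpotent_sub_and_aeval_eq_zero h1 h2
    refine ⟨r, ?_, hr', fun s hs hs' => huniq s ⟨hnil _ (by rw [map_sub, hx, hs, sub_self]), hs'⟩⟩
    have h0 : B.res (x - r) = 0 := (hr.map B.res).eq_zero
    rw [map_sub, hx, sub_eq_zero] at h0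
    exact h0.symm
  obtain ⟨r₁, h₁, h₁', -⟩ := root A₁
  obtain ⟨r₂, h₂, h₂', -⟩ := root A₂
  obtain ⟨r, -, -, huniq⟩ := root A
  refine ⟨⟨(r₁, r₂), ?_⟩, h₁⟩
  change f₁.toAlgHom r₁ = f₂.toAlgHom r₂
  rw [huniq (f₁.toAlgHom r₁) ((res_app f₁ r₁).trans h₁) (by rw [aeval_algHom_apply, h₁', map_zero]),
    huniq (f₂.toAlgHom r₂) ((res_app f₂ r₂).trans h₂) (by rw [aeval_algHom_apply, h₂', map_zero])]

end Sep

theorem snd_hom_mul {B : Art Λ k} (h : B ⟶ dual Λ k) (a x : B) (hx : B.res x = 0) :
    TrivSqZeroExt.snd (h (a * x) : DualNumber k) = B.res a * TrivSqZeroExt.snd (h x : DualNumber k) := by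
  let u : DualNumber k := h a
  let v : DualNumber k := h x
  have hu : u.fst = B.res a := res_app h a
  have hv : v.fst = 0 := (res_app h x).trans hx
  refine (congrArg TrivSqZeroExt.snd (map_mul h.toAlgHom a x : _)).trans ?_
  change TrivSqZeroExt.snd (u * v) = B.res a * v.snd
  rw [TrivSqZeroExt.snd_mul, op_smul_eq_smul, hu, hv, zero_smul, add_zero, smul_eq_mul]

theorem snd_hom_add {B : Art Λ k} (h : B ⟶ dual Λ k) (a x : B) :
    TrivSqZeroExt.snd (h (a + x) : DualNumber k) = TrivSqZeroExt.snd (h a : DualNumber k) + TrivSqZeroExt.snd (h x : DualNumber k) :=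
  (congrArg TrivSqZeroExt.snd (map_add h.toAlgHom a x : _)).trans rfl

theorem snd_hom_sub {B : Art Λ k} (h : B ⟶ dual Λ k) (a x : B) :
    TrivSqZeroExt.snd (h (a - x) : DualNumber k) = TrivSqZeroExt.snd (h a : DualNumber k) - TrivSqZeroExt.snd (h x : DualNumber k) :=
  (congrArg TrivSqZeroExt.snd (map_sub h.toAlgHom a x : _)).trans rfl

/-- essential surjection = surjection whose kernel is killed by all tangent vectors. -/
theorem isEss_iff_tangent {A B : Art Λ k} (f : B ⟶ A) :
    IsEss f ↔ Function.Surjective f ∧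
      ∀ h : B ⟶ dual Λ k, ∀ x ∈ RingHom.ker f.toAlgHom, (h x : DualNumber k).snd = 0 := by
  constructor
  · rintro ⟨hf, hess⟩
    refine ⟨hf, fun h x hx => ?_⟩
    by_contra hd
    have hx0 : B.res x = 0 := by rw [← res_app f, RingHom.mem_ker.1 hx, map_zero]
    have hfst : ∀ b : B, (h b : DualNumber k).fst = B.res b := fun b => res_app h b
    choose sec hsec using B.res_surjective
    have hmul : ∀ c : k, (h (sec c * x) : DualNumber k).snd = c * (h x : DualNumber k).snd := fun c => by
      rw [snd_hom_mul h _ _ hx0, hsec]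
    have hh : Function.Surjective h := fun z => by
      let w : DualNumber k := h (sec (z : DualNumber k).fst)
      refine ⟨sec (z : DualNumber k).fst + sec (((z : DualNumber k).snd - w.snd) / (h x : DualNumber k).snd) * x,
        TrivSqZeroExt.ext ((hfst _).trans ?_) ?_⟩
      · rw [map_add, hsec, map_mul, hx0, mul_zero, add_zero]
      · refine (snd_hom_add h _ _).trans ?_
        rw [hmul, div_mul_cancel₀ _ hd]
        exact add_sub_cancel _ _
    obtain ⟨P, p₁, p₂, hP⟩ := exists_fib baseToDual h hh
    have hsurj : Function.Surjective (p₂ ≫ f) := fun a => by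
      obtain ⟨b, rfl⟩ := hf a
      let s := sec ((h b : DualNumber k).snd / (h x : DualNumber k).snd) * x
      have e1 : TrivSqZeroExt.fst (h (b - s) : DualNumber k) = B.res b :=
        (hfst _).trans (by rw [map_sub, map_mul, hx0, mul_zero, sub_zero])
      have e2 : TrivSqZeroExt.snd (h (b - s) : DualNumber k) = 0 :=
        (snd_hom_sub h b s).trans (by rw [hmul, div_mul_cancel₀ _ hd, sub_self])
      obtain ⟨z, -, hz⟩ := hP.surj (B.res b : base Λ k) (b - s) (TrivSqZeroExt.ext e1.symm e2.symm)
      refine ⟨z, ?_⟩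
      change f (p₂ z) = f b
      rw [hz]
      change f.toAlgHom (b - s) = f.toAlgHom b
      rw [map_sub, map_mul, RingHom.mem_ker.1 hx, mul_zero, sub_zero]
    obtain ⟨z, hz⟩ := hess P p₂ hsurj x
    refine hd ?_
    rw [← hz, ← hP.w_apply]
    rfl
  · rintro ⟨hf, hker⟩
    refine ⟨hf, fun C g hg => ?_⟩
    refine surjective_of_max g fun x hx => ?_
    by_contra hxW
    let W := (maximalIdeal C).map g.toAlgHom ⊔ maximalIdeal B ^ 2
    obtain ⟨c, hc⟩ := hg (f x)
    have hcm : c ∈ maximalIdeal C := by
      rw [C.mem_maximalIdeal_iff, ← res_app (g ≫ f), hc, res_app, ← B.mem_maximalIdeal_iff]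
      exact hx
    have hx' : x - g c ∈ RingHom.ker f.toAlgHom := by
      rw [RingHom.mem_ker, map_sub, sub_eq_zero]; exact hc.symm
    have hxW' : x - g c ∉ W := fun h => hxW (by
      rw [← sub_add_cancel x (g c)]
      exact add_mem h (Ideal.mem_sup_left (Ideal.mem_map_of_mem _ hcm)))
    have hWle : W ≤ maximalIdeal B :=
      sup_le (Ideal.map_le_iff_le_comap.2 fun z hz => map_mem_maximalIdeal g hz) (Ideal.pow_le_self two_ne_zero)
    have hW : ∀ s ∈ W, B.res s = 0 := fun s hs => (B.mem_maximalIdeal_iff s).1 (hWle hs)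
    let e := RingHom.quotientKerEquivOfSurjective (f := (C.res : C →+* k)) C.res_surjective
    let σ : k →+* B ⧸ W := (Ideal.Quotient.lift _ ((Ideal.Quotient.mk W).comp (g.toAlgHom : C →+* B))
      (fun r hr => Ideal.Quotient.eq_zero_iff_mem.2 (Ideal.mem_sup_left (Ideal.mem_map_of_mem _
        ((C.mem_maximalIdeal_iff r).2 hr))))).comp e.symm.toRingHom
    have hσr : ∀ r, σ (C.res r) = Ideal.Quotient.mk W (g r) := fun r => by
      have h : e.symm (C.res r) = Ideal.Quotient.mk _ r := e.symm_apply_apply (Ideal.Quotient.mk _ r)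
      simp only [σ, RingHom.comp_apply, RingEquiv.toRingHom_eq_coe, RingEquiv.coe_toRingHom]
      rw [h]
      rfl
    obtain ⟨a, ha, -, -⟩ := exists_homSet_dual B.res W hW
      (fun s t hs ht => Ideal.mem_sup_right (by
        rw [pow_two]; exact Ideal.mul_mem_mul ((B.mem_maximalIdeal_iff s).2 hs) ((B.mem_maximalIdeal_iff t).2 ht)))
      σ (fun c s hs => by
        obtain ⟨r, rfl⟩ := C.res_surjective c
        rw [hσr] at hs
        rw [← res_app g, ← sub_eq_zero, ← map_sub]
        exact hW _ (Ideal.Quotient.eq.1 hs))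
      (fun l => by rw [← C.res.commutes, hσr]; exact congrArg _ (g.toAlgHom.commutes l))
      (by rw [← res_app f, RingHom.mem_ker.1 hx', map_zero]) hxW'
    exact ha (hker ⟨a.1, a.2⟩ _ hx')

theorem isEss_iff_cotangent [IsNoetherianRing Λ] [Module.Finite Λ k]
    [Algebra.IsSeparable (↥(algebraMap Λ k).range) k] {A B : Art Λ k} (f : B ⟶ A) :
    IsEss f ↔
      Ideal.map (algebraMap Λ A) (RingHom.ker (algebraMap Λ k)) ⊔ Ideal.map f.toAlgHom (maximalIdeal B) ⊔
          maximalIdeal A ^ 2 = maximalIdeal A ∧
        ∀ b ∈ maximalIdeal B, f b ∈ nI A → b ∈ nI B := by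
  constructor
  · intro h
    obtain ⟨hf, hker⟩ := (isEss_iff_tangent f).1 h
    have hmax : maximalIdeal A ≤ Ideal.map f.toAlgHom (maximalIdeal B) := fun a ha => by
      obtain ⟨b, rfl⟩ := hf a
      refine Ideal.mem_map_of_mem _ ?_
      rw [B.mem_maximalIdeal_iff, ← res_app f, ← A.mem_maximalIdeal_iff]
      exact ha
    refine ⟨le_antisymm (sup_le (sup_le ((mapΛ_le f).trans ?_) ?_) (Ideal.pow_le_self two_ne_zero))
      (le_sup_of_le_left (le_sup_of_le_right hmax)), fun b hb hfb => ?_⟩
    · exact Ideal.map_le_iff_le_comap.2 fun z hz => map_mem_maximalIdeal f hz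
    · exact Ideal.map_le_iff_le_comap.2 fun z hz => map_mem_maximalIdeal f hz
    have hn : nI A ≤ (nI B).map f.toAlgHom := by
      rw [nI, nI, Ideal.map_sup, Ideal.map_pow]
      refine sup_le_sup (Ideal.map_le_iff_le_comap.2 fun l hl => ?_) (Ideal.pow_right_mono hmax 2)
      rw [Ideal.mem_comap, ← f.toAlgHom.commutes]
      exact Ideal.mem_map_of_mem _ (Ideal.mem_map_of_mem _ hl)
    obtain ⟨n, hn', hfn⟩ := (Ideal.mem_map_iff_of_surjective f.toAlgHom hf).1 (hn hfb)
    rw [← sub_add_cancel b n]
    refine add_mem ?_ hn'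
    have hx : b - n ∈ RingHom.ker f.toAlgHom := by
      rw [RingHom.mem_ker, map_sub, sub_eq_zero]; exact hfn.symm
    by_contra hxn
    let K₀ := (algebraMap Λ k).range
    letI : Algebra Λ K₀ := (algebraMap Λ k).rangeRestrict.toAlgebra
    haveI : IsScalarTower Λ K₀ k := IsScalarTower.of_algebraMap_eq fun l => rfl
    haveI : Module.Finite K₀ k := Module.Finite.of_restrictScalars_finite Λ K₀ k
    letI : Field K₀ := (isField_of_isIntegral_of_isField (R := K₀) (S := k) Subtype.val_injective (Field.toIsField k)).toField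
    haveI : Algebra.FormallyEtale K₀ k := Algebra.FormallyEtale.of_isSeparable K₀ k
    let Q := quot B (nI B) (nI_le B)
    have hkill : ∀ l : Λ, algebraMap Λ k l = 0 → algebraMap Λ Q l = 0 := fun l hl => by
      change Ideal.Quotient.mk (nI B) (algebraMap Λ B l) = 0
      exact Ideal.Quotient.eq_zero_iff_mem.2 (Ideal.mem_sup_left (Ideal.mem_map_of_mem _ hl))
    let ι : K₀ →+* Q := (algebraMap Λ k).rangeRestrict.liftOfSurjective (RingHom.rangeRestrict_surjective _)
      ⟨algebraMap Λ Q, fun l hl => RingHom.mem_ker.2 (hkill l (congrArg Subtype.val (RingHom.mem_ker.1 hl)))⟩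
    have hι : ∀ l, ι ((algebraMap Λ k).rangeRestrict l) = algebraMap Λ Q l := fun l =>
      RingHom.liftOfRightInverse_comp_apply _ _ _ _ l
    letI : Algebra K₀ Q := ι.toAlgebra
    let r : Q →ₐ[K₀] k := { (Q.res : Q →+* k) with
      commutes' := fun c => by
        obtain ⟨l, rfl⟩ := (algebraMap Λ k).rangeRestrict_surjective c
        change Q.res (ι _) = _
        rw [hι, AlgHom.commutes]
        rfl }
    have hr : IsNilpotent (RingHom.ker (r : Q →+* k)) := by
      obtain ⟨N, hN⟩ := exists_pow_eq_bot Q
      refine ⟨N, ?_⟩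
      rw [show RingHom.ker (r : Q →+* k) = maximalIdeal Q from Ideal.ext fun z => (Q.mem_maximalIdeal_iff z).symm, hN]
      rfl
    let σ := Algebra.FormallySmooth.liftOfSurjective (AlgHom.id K₀ k) r Q.res_surjective hr
    have hσ : ∀ c, Q.res (σ c) = c := fun c =>
      AlgHom.congr_fun (Algebra.FormallySmooth.comp_liftOfSurjective (AlgHom.id K₀ k) r Q.res_surjective hr) c
    obtain ⟨a, ha, -, -⟩ := exists_homSet_dual B.res (nI B) (fun s hs => (B.mem_maximalIdeal_iff s).1 (nI_le B hs))
      (fun s t hs ht => Ideal.mem_sup_right (by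
        rw [pow_two]; exact Ideal.mul_mem_mul ((B.mem_maximalIdeal_iff s).2 hs) ((B.mem_maximalIdeal_iff t).2 ht)))
      (show k →+* B ⧸ nI B from σ.toRingHom) (fun c s hs => by
        rw [← hσ c]
        exact congrArg Q.res hs)
      (fun l => (σ.commutes ((algebraMap Λ k).rangeRestrict l)).trans (hι l))
      (by rw [← res_app f, RingHom.mem_ker.1 hx, map_zero]) hxn
    exact ha (hker ⟨a.1, a.2⟩ _ hx)
  · rintro ⟨h1, h2⟩
    have hf : Function.Surjective f := surjective_of_max f (h1.ge.trans
      (sup_le_sup_right (sup_le (mapΛ_le f) le_rfl) _))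
    refine ⟨hf, fun C g hg => surjective_of_mod g fun b => ?_⟩
    obtain ⟨c, hc⟩ := hg (f b)
    have h0 : f (b - g c) = 0 := by
      change f.toAlgHom (b - g c) = 0
      rw [map_sub, sub_eq_zero]
      exact hc.symm
    refine ⟨c, h2 _ ?_ (by rw [h0]; exact zero_mem _)⟩
    rw [B.mem_maximalIdeal_iff, ← res_app f, h0, map_zero]

theorem isEss_iff_omega [IsNoetherianRing Λ] [Module.Finite Λ k] {A B : Art Λ k} (f : B ⟶ A) :
    letI : Algebra B A := f.toAlgHom.toRingHom.toAlgebra
    letI : Algebra A k := A.res.toRingHom.toAlgebra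
    letI : Algebra B k := B.res.toRingHom.toAlgebra
    IsEss f ↔ (Subsingleton (k ⊗[A] Ω[A⁄B]) ∧
        Module.finrank k (k ⊗[B] Ω[B⁄Λ]) = Module.finrank k (k ⊗[A] Ω[A⁄Λ])) := by
  letI : Algebra B A := f.toAlgHom.toRingHom.toAlgebra
  letI : Algebra A k := A.res.toRingHom.toAlgebra
  letI : Algebra B k := B.res.toRingHom.toAlgebra
  haveI : IsScalarTower Λ A k := IsScalarTower.of_algebraMap_eq fun l => (A.res.commutes l).symm
  haveI : IsScalarTower Λ B k := IsScalarTower.of_algebraMap_eq fun l => (B.res.commutes l).symm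
  haveI : SMulCommClass A B k := ⟨fun a b c => by
    rw [Algebra.smul_def, Algebra.smul_def, Algebra.smul_def, Algebra.smul_def, mul_left_comm]⟩
  rw [isEss_iff_tangent, ← subsingleton_omega f]
  refine and_congr_right fun hf => ?_
  haveI : Module.Finite Λ A := finite_art A
  haveI : Module.Finite Λ B := finite_art B
  haveI : Algebra.EssFiniteType Λ A := Algebra.EssFiniteType.of_finiteType (R := Λ) (S := A)
  haveI : Algebra.EssFiniteType Λ B := Algebra.EssFiniteType.of_finiteType (R := Λ) (S := B)
  have hdual : (∀ h : B ⟶ dual Λ k, ∀ x ∈ RingHom.ker f.toAlgHom, (h x : DualNumber k).snd = 0) ↔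
      ∀ x ∈ RingHom.ker f.toAlgHom, (1 : k) ⊗ₜ[B] KaehlerDifferential.D Λ B x = 0 := by
    constructor
    · intro H x hx
      rw [← Module.forall_dual_apply_eq_zero_iff k]
      intro l
      let h₀ : B →ₐ[Λ] DualNumber k :=
        { toFun := fun b => (B.res b, l ((1 : k) ⊗ₜ[B] KaehlerDifferential.D Λ B b))
          map_one' := TrivSqZeroExt.ext (map_one B.res) (by
            change l _ = _
            rw [Derivation.map_one_eq_zero, TensorProduct.tmul_zero, map_zero]; rfl)
          map_mul' := fun a b => TrivSqZeroExt.ext (map_mul B.res a b) (by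
            change l _ = B.res a • l _ + MulOpposite.op (B.res b) • l _
            rw [Derivation.leibniz, TensorProduct.tmul_add, map_add, op_smul_eq_smul,
              ← TensorProduct.smul_tmul, ← TensorProduct.smul_tmul, ← map_smul, ← map_smul,
              TensorProduct.smul_tmul', TensorProduct.smul_tmul', Algebra.smul_def, Algebra.smul_def, smul_eq_mul, smul_eq_mul]
            rfl)
          map_zero' := TrivSqZeroExt.ext (map_zero B.res) (by
            change l _ = _
            rw [map_zero, TensorProduct.tmul_zero, map_zero]; rfl)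
          map_add' := fun a b => TrivSqZeroExt.ext (map_add B.res a b) (by
            change l _ = l _ + l _
            rw [map_add, TensorProduct.tmul_add, map_add])
          commutes' := fun r => TrivSqZeroExt.ext (B.res.commutes r) (by
            change l _ = _
            rw [Derivation.map_algebraMap, TensorProduct.tmul_zero, map_zero]; rfl) }
      exact H ⟨h₀, AlgHom.ext fun b => rfl⟩ x hx
    · intro H h x hx
      let D : Derivation Λ B k :=
        { toFun := fun b => TrivSqZeroExt.snd (h b : DualNumber k)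
          map_add' := fun a b => snd_hom_add h a b
          map_smul' := fun r a => (congrArg TrivSqZeroExt.snd (map_smul h.toAlgHom r a : _)).trans rfl
          map_one_eq_zero' := (congrArg TrivSqZeroExt.snd (map_one h.toAlgHom : _)).trans rfl
          leibniz' := fun a b => by
            let u : DualNumber k := h a
            let v : DualNumber k := h b
            have hu : u.fst = B.res a := res_app h a
            have hv : v.fst = B.res b := res_app h b
            refine (congrArg TrivSqZeroExt.snd (map_mul h.toAlgHom a b : _)).trans ?_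
            change TrivSqZeroExt.snd (u * v) = B.res a * v.snd + B.res b * u.snd
            rw [TrivSqZeroExt.snd_mul, op_smul_eq_smul, hu, hv, smul_eq_mul, smul_eq_mul] }
      have h1 := congrArg (LinearMap.liftBaseChange k D.liftKaehlerDifferential) (H x hx)
      rw [LinearMap.liftBaseChange_tmul, Derivation.liftKaehlerDifferential_comp_D, one_smul, map_zero] at h1
      exact h1
  let D : Derivation Λ B (k ⊗[A] Ω[A⁄Λ]) :=
    { toFun := fun b => (1 : k) ⊗ₜ[A] KaehlerDifferential.D Λ A (f b)
      map_add' := fun a b => by rw [map_add, map_add, TensorProduct.tmul_add]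
      map_smul' := fun r a => by
        rw [map_smul, Derivation.map_smul, TensorProduct.tmul_smul]; rfl
      map_one_eq_zero' := by
        change (1 : k) ⊗ₜ[A] KaehlerDifferential.D Λ A (f.toAlgHom 1) = 0
        rw [map_one, Derivation.map_one_eq_zero, TensorProduct.tmul_zero]
      leibniz' := fun a b => by
        change (1 : k) ⊗ₜ[A] KaehlerDifferential.D Λ A (f.toAlgHom (a * b)) = _
        rw [map_mul, Derivation.leibniz, TensorProduct.tmul_add, ← TensorProduct.smul_tmul, ← TensorProduct.smul_tmul]
        change _ = a • ((1 : k) ⊗ₜ[A] _) + b • ((1 : k) ⊗ₜ[A] _)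
        rw [TensorProduct.smul_tmul', TensorProduct.smul_tmul', Algebra.smul_def, Algebra.smul_def, Algebra.smul_def,
          Algebra.smul_def]
        exact congrArg₂ (fun u v => (u * 1) ⊗ₜ[A] _ + (v * 1) ⊗ₜ[A] _) (res_app f a) (res_app f b) }
  let ψ := LinearMap.liftBaseChange k D.liftKaehlerDifferential
  have hψ : ∀ b, ψ ((1 : k) ⊗ₜ[B] KaehlerDifferential.D Λ B b) = (1 : k) ⊗ₜ[A] KaehlerDifferential.D Λ A (f b) := fun b => by
    rw [LinearMap.liftBaseChange_tmul, Derivation.liftKaehlerDifferential_comp_D, one_smul]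
    rfl
  have hψs : Function.Surjective ψ := by
    rw [← LinearMap.range_eq_top, eq_top_iff]
    rintro v -
    induction v using TensorProduct.induction_on with
    | zero => exact zero_mem _
    | add x y hx hy => exact add_mem hx hy
    | tmul c w =>
      have hw : w ∈ Submodule.span A (Set.range (KaehlerDifferential.D Λ A)) :=
        (KaehlerDifferential.span_range_derivation Λ A).ge Submodule.mem_top
      induction hw using Submodule.span_induction generalizing c with
      | mem y hy =>
        obtain ⟨a, rfl⟩ := hy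
        obtain ⟨b, rfl⟩ := hf a
        refine ⟨c ⊗ₜ[B] KaehlerDifferential.D Λ B b, ?_⟩
        rw [show c ⊗ₜ[B] KaehlerDifferential.D Λ B b = c • ((1 : k) ⊗ₜ[B] KaehlerDifferential.D Λ B b) by
          rw [TensorProduct.smul_tmul', smul_eq_mul, mul_one], map_smul, hψ, TensorProduct.smul_tmul', smul_eq_mul, mul_one]
      | zero => rw [TensorProduct.tmul_zero]; exact zero_mem _
      | add x y _ _ hx hy => rw [TensorProduct.tmul_add]; exact add_mem (hx c) (hy c)
      | smul a x _ hx => rw [← TensorProduct.smul_tmul]; exact hx _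
  rw [hdual]
  constructor
  · intro H
    choose s hs using hf
    have hker : ∀ b, (1 : k) ⊗ₜ[B] KaehlerDifferential.D Λ B (s (f b)) = (1 : k) ⊗ₜ[B] KaehlerDifferential.D Λ B b := fun b => by
      rw [← sub_eq_zero, ← TensorProduct.tmul_sub, ← map_sub]
      exact H _ (by rw [RingHom.mem_ker, map_sub, sub_eq_zero]; exact hs _)
    haveI : SMulCommClass B A k := SMulCommClass.symm _ _ _
    let E : Derivation Λ A (k ⊗[B] Ω[B⁄Λ]) :=
      { toFun := fun a => (1 : k) ⊗ₜ[B] KaehlerDifferential.D Λ B (s a)
        map_add' := fun a a' => by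
          rw [← TensorProduct.tmul_add, ← map_add]
          conv_lhs => rw [← hs a, ← hs a', ← map_add f.toAlgHom]
          exact hker _
        map_smul' := fun r a => by
          rw [RingHom.id_apply, ← TensorProduct.tmul_smul, ← Derivation.map_smul]
          conv_lhs => rw [← hs a, ← map_smul f.toAlgHom]
          exact hker _
        map_one_eq_zero' := by
          change (1 : k) ⊗ₜ[B] KaehlerDifferential.D Λ B (s 1) = 0
          rw [← map_one f.toAlgHom, hker, Derivation.map_one_eq_zero, TensorProduct.tmul_zero]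
        leibniz' := fun a a' => by
          change (1 : k) ⊗ₜ[B] KaehlerDifferential.D Λ B (s (a * a')) = _
          conv_lhs => rw [← hs a, ← hs a', ← map_mul f.toAlgHom]
          rw [hker, Derivation.leibniz, TensorProduct.tmul_add, ← TensorProduct.smul_tmul, ← TensorProduct.smul_tmul]
          change _ = a • ((1 : k) ⊗ₜ[B] _) + a' • ((1 : k) ⊗ₜ[B] _)
          rw [TensorProduct.smul_tmul', TensorProduct.smul_tmul', Algebra.smul_def, Algebra.smul_def, Algebra.smul_def,
            Algebra.smul_def]
          exact congrArg₂ (fun u v => (u * 1) ⊗ₜ[B] _ + (v * 1) ⊗ₜ[B] _)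
            (((res_app f (s a)).symm).trans (congrArg A.res (hs a)))
            (((res_app f (s a')).symm).trans (congrArg A.res (hs a'))) }
    let φ := LinearMap.liftBaseChange k E.liftKaehlerDifferential
    have hφψ : φ.comp ψ = LinearMap.id := by
      refine LinearMap.ext fun v => ?_
      induction v using TensorProduct.induction_on with
      | zero => simp
      | add x y hx hy => simp only [map_add, hx, hy]
      | tmul c w =>
        have hw : w ∈ Submodule.span B (Set.range (KaehlerDifferential.D Λ B)) :=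
          (KaehlerDifferential.span_range_derivation Λ B).ge Submodule.mem_top
        induction hw using Submodule.span_induction generalizing c with
        | mem y hy =>
          obtain ⟨b, rfl⟩ := hy
          rw [show c ⊗ₜ[B] KaehlerDifferential.D Λ B b = c • ((1 : k) ⊗ₜ[B] KaehlerDifferential.D Λ B b) by
            rw [TensorProduct.smul_tmul', smul_eq_mul, mul_one], map_smul, map_smul, LinearMap.comp_apply, hψ,
            LinearMap.liftBaseChange_tmul, Derivation.liftKaehlerDifferential_comp_D, one_smul, LinearMap.id_apply]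
          exact congrArg _ (hker b)
        | zero => simp
        | add x y _ _ hx hy => rw [TensorProduct.tmul_add, map_add, map_add, hx, hy]
        | smul a x _ hx => rw [← TensorProduct.smul_tmul]; exact hx _
    exact (LinearEquiv.ofBijective ψ ⟨(Function.LeftInverse.injective fun v => LinearMap.congr_fun hφψ v), hψs⟩).finrank_eq
  · intro heq x hx
    refine ((LinearMap.injective_iff_surjective_of_finrank_eq_finrank heq).2 hψs) ?_
    rw [hψ, RingHom.mem_ker.1 hx, map_zero, TensorProduct.tmul_zero, map_zero]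

end Groth.Agent.Misc9.SF
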