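import Groth.Agent.Misc9.SF.PS
import Groth.Agent.RegularLocal.Basic
import Groth.Agent.Alg.PPolyRegular

/-! Obstruction theories of quotients of local rings, and the dimension estimates they give. -/

universe u v

set_option synthInstance.maxHeartbeats 20000
set_option maxHeartbeats 400000

open CategoryTheory
open scoped TensorProduct

namespace Groth.Agent.Misc9.SF

open ArtFun ArtFun.Art IsLocalRing

section Base

variable {k : Type u} [Field k]

theorem semismall_smul {C' C : Art k k} {p : C' ⟶ C} (hp : IsSemismallExt p) (c : C')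
    (j : RingHom.ker p.toAlgHom) : c • j = C'.res c • j := by
  refine Subtype.ext ?_
  have hm : c - algebraMap k C' (C'.res c) ∈ maximalIdeal C' := by
    rw [C'.mem_maximalIdeal_iff, map_sub, AlgHom.commutes, Algebra.algebraMap_self, RingHom.id_apply, sub_self]
  have h0 : (c - algebraMap k C' (C'.res c)) * (j : C') = 0 := by
    rw [← Submodule.mem_bot (R := C'.carrier), ← hp.2]
    exact Ideal.mul_mem_mul hm j.2
  rw [sub_mul, sub_eq_zero] at h0
  change c * (j : C') = C'.res c • (j : C')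
  rw [h0, Algebra.smul_def]

variable {Q : Type u} [CommRing Q] [IsLocalRing Q] [Algebra k Q] (ρ : Q →ₐ[k] k)

theorem mem_max_iff (a : Q) : a ∈ maximalIdeal Q ↔ ρ a = 0 := by
  have hmax : (RingHom.ker (ρ : Q →+* k)).IsMaximal :=
    RingHom.ker_isMaximal_of_surjective _ fun c => ⟨algebraMap k Q c, (AlgHom.commutes ρ c).trans rfl⟩
  rw [← IsLocalRing.eq_maximalIdeal hmax, RingHom.mem_ker]
  rfl

/-- Two lifts to a semismall extension agree on `m²`. -/
theorem eq_on_sq {C' C : Art k k} {p : C' ⟶ C} (hp : IsSemismallExt p) (f g : HomSet Q ρ C')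
    (h : HomSet.map p f = HomSet.map p g) : ∀ a ∈ maximalIdeal Q ^ 2, f.1 a = g.1 a := by
  intro a ha
  rw [pow_two] at ha
  refine Submodule.mul_induction_on ha (fun x hx y hy => ?_) fun x y hx hy => by rw [map_add, map_add, hx, hy]
  have hm : ∀ (f : HomSet Q ρ C') z, z ∈ maximalIdeal Q → f.1 z ∈ maximalIdeal C' := fun f z hz => by
    rw [C'.mem_maximalIdeal_iff, ← AlgHom.comp_apply, f.2, ← mem_max_iff]
    exact hz
  have hd : ∀ z, f.1 z - g.1 z ∈ RingHom.ker p.toAlgHom := fun z => by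
    rw [RingHom.mem_ker, map_sub, sub_eq_zero]
    exact AlgHom.congr_fun (congrArg Subtype.val h) z
  have h1 : f.1 x * (f.1 y - g.1 y) = 0 := by
    rw [← Submodule.mem_bot (R := C'.carrier), ← hp.2]
    exact Ideal.mul_mem_mul (hm f x hx) (hd y)
  have h2 : g.1 y * (f.1 x - g.1 x) = 0 := by
    rw [← Submodule.mem_bot (R := C'.carrier), ← hp.2]
    exact Ideal.mul_mem_mul (hm g y hy) (hd x)
  rw [map_mul, map_mul]
  linear_combination h1 + h2

variable [IsNoetherianRing Q]

/-- `Q/J` as an object. -/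
noncomputable def quotArt (J : Ideal Q) (hJ : J ≤ maximalIdeal Q) (hN : ∃ N, maximalIdeal Q ^ N ≤ J) : Art k k :=
  haveI : Nontrivial (Q ⧸ J) :=
    Ideal.Quotient.nontrivial_iff.2 fun h => (maximalIdeal.isMaximal Q).ne_top (top_le_iff.1 (h ▸ hJ))
  haveI hloc : IsLocalRing (Q ⧸ J) := IsLocalRing.of_surjective' (Ideal.Quotient.mk J) Ideal.Quotient.mk_surjective
  { carrier := Q ⧸ J
    isLocalRing := hloc
    isArtinianRing := isArtinianRing_iff_isNilpotent_maximalIdeal _ |>.2 <| by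
      obtain ⟨N, hN⟩ := hN
      refine ⟨N, ?_⟩
      rw [← IsLocalRing.map_maximalIdeal_of_surjective _ (Ideal.Quotient.mk_surjective (I := J)), ← Ideal.map_pow,
        Submodule.zero_eq_bot, Ideal.map_eq_bot_iff_le_ker, Ideal.mk_ker]
      exact hN
    res := Ideal.Quotient.liftₐ J ρ fun a ha => (mem_max_iff ρ a).1 (hJ ha)
    res_surjective := fun c => ⟨algebraMap k _ c, (AlgHom.commutes _ c).trans rfl⟩ }

theorem exists_gens_le (J : Ideal Q) (hJ : J ≤ maximalIdeal Q ^ 2) {R : Type u} [CommRing R] [Algebra k R]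
    (res : R →ₐ[k] k) (π : Q →ₐ[k] R) (hπ : Function.Surjective π) (hker : RingHom.ker π = J)
    (hres : res.comp π = ρ) (W : Type u) [AddCommGroup W] [Module k W] [Module.Finite k W]
    (T : ObsTheory (hR R res) W) : ∃ s : Finset Q, s.card ≤ Module.finrank k W ∧ Ideal.span (s : Set Q) = J := by
  classical
  obtain ⟨k₀, hk₀⟩ := Ideal.exists_pow_inf_eq_pow_smul (maximalIdeal Q) (J : Submodule Q Q)
  have hAR : maximalIdeal Q ^ (k₀ + 1) ⊓ J ≤ maximalIdeal Q * J := by
    have h := hk₀ (k₀ + 1) (by omega)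
    rw [smul_eq_mul, Ideal.mul_top, Nat.add_sub_cancel_left, pow_one] at h
    rw [h]
    exact Ideal.mul_mono le_rfl inf_le_right
  have hJm : J ≤ maximalIdeal Q := hJ.trans (Ideal.pow_le_self two_ne_zero)
  let J₀ : Ideal Q := maximalIdeal Q * J ⊔ maximalIdeal Q ^ (k₀ + 1)
  let J₁ : Ideal Q := J ⊔ maximalIdeal Q ^ (k₀ + 1)
  have h₀₁ : J₀ ≤ J₁ := sup_le_sup_right Ideal.mul_le_right _
  have hJ₁ : J₁ ≤ maximalIdeal Q := sup_le hJm (Ideal.pow_le_self (Nat.succ_ne_zero _))
  let C' := quotArt ρ J₀ (h₀₁.trans hJ₁) ⟨_, le_sup_right⟩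
  let C := quotArt ρ J₁ hJ₁ ⟨_, le_sup_right⟩
  let p : C' ⟶ C := ⟨Ideal.Quotient.factorₐ k h₀₁, AlgHom.ext fun x => by
    obtain ⟨a, rfl⟩ := Ideal.Quotient.mk_surjective x
    rfl⟩
  have hkerp : ∀ z ∈ RingHom.ker p.toAlgHom, ∃ a ∈ J, (Ideal.Quotient.mk J₀ a : C') = z := by
    intro z hz
    obtain ⟨a, rfl⟩ := Ideal.Quotient.mk_surjective z
    have ha : a ∈ J₁ := Ideal.Quotient.eq_zero_iff_mem.1 (RingHom.mem_ker.1 hz :)
    obtain ⟨b, hb, c, hc, rfl⟩ := Submodule.mem_sup.1 ha
    exact ⟨b, hb, Ideal.Quotient.eq.2 (by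
      rw [sub_add_cancel_left]
      exact neg_mem (Ideal.mem_sup_right hc))⟩
  have hp : IsSemismallExt p := by
    refine ⟨Ideal.Quotient.factor_surjective h₀₁, ?_⟩
    rw [eq_bot_iff, Ideal.mul_le]
    intro x hx z hz
    obtain ⟨x, rfl⟩ := Ideal.Quotient.mk_surjective x
    obtain ⟨a, ha, rfl⟩ := hkerp z hz
    rw [Ideal.mem_bot]
    refine (map_mul (Ideal.Quotient.mk J₀) x a).symm.trans (Ideal.Quotient.eq_zero_iff_mem.2 ?_)
    exact Ideal.mem_sup_left (Ideal.mul_mem_mul ((mem_max_iff ρ x).2 ((C'.mem_maximalIdeal_iff _).1 hx)) ha)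
  let φ₀ : R →ₐ[k] C :=
    ((Ideal.Quotient.factorₐ k (hker.le.trans le_sup_left : RingHom.ker π ≤ J₁)).comp
      (Ideal.quotientKerAlgEquivOfSurjective hπ).symm.toAlgHom)
  have hφ₀ : ∀ a, φ₀ (π a) = Ideal.Quotient.mk J₁ a := fun a => by
    have : (Ideal.quotientKerAlgEquivOfSurjective hπ).symm (π a) = Ideal.Quotient.mk (RingHom.ker π) a := by
      rw [AlgEquiv.symm_apply_eq]; rfl
    change Ideal.Quotient.factorₐ k (hker.le.trans le_sup_left : RingHom.ker π ≤ J₁)
      ((Ideal.quotientKerAlgEquivOfSurjective hπ).symm (π a)) = _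
    rw [this]
    rfl
  let φ : HomSet R res C := ⟨φ₀, AlgHom.ext fun r => by
    obtain ⟨a, rfl⟩ := hπ r
    change C.res (φ₀ (π a)) = res (π a)
    rw [hφ₀, ← AlgHom.comp_apply res π, hres]
    rfl⟩
  obtain ⟨ω, hω⟩ : ∃ ω, ω = T.obs p hp φ := ⟨_, rfl⟩
  let Ψ : Module.Dual k (RingHom.ker p.toAlgHom) →ₗ[k] W :=
    { toFun := fun f => TensorProduct.rid k W (LinearMap.lTensor W f ω)
      map_add' := fun f g => by rw [LinearMap.lTensor_add, LinearMap.add_apply, map_add]
      map_smul' := fun c f => by rw [LinearMap.lTensor_smul, LinearMap.smul_apply, map_smul]; rfl }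
  have hΨ : ∀ f, Ψ f = 0 → f = 0 := by
    intro f hf
    by_contra hne
    obtain ⟨j, hj⟩ : ∃ j, f j = 1 := by
      obtain ⟨j, hj⟩ := DFunLike.ne_iff.1 hne
      exact ⟨(f j)⁻¹ • j, by rw [map_smul, smul_eq_mul, inv_mul_cancel₀ hj]⟩
    let K : Ideal C' :=
      { carrier := {x | ∃ h : x ∈ RingHom.ker p.toAlgHom, f ⟨x, h⟩ = 0}
        add_mem' := fun {x y} ⟨hx, hx'⟩ ⟨hy, hy'⟩ => ⟨add_mem hx hy, (map_add f ⟨x, hx⟩ ⟨y, hy⟩).trans (by rw [hx', hy', add_zero])⟩
        zero_mem' := ⟨zero_mem _, map_zero f⟩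
        smul_mem' := fun c x ⟨hx, hx'⟩ => ⟨Submodule.smul_mem _ c hx, by
          change f (c • (⟨x, hx⟩ : RingHom.ker p.toAlgHom)) = 0
          rw [semismall_smul hp, map_smul, hx', smul_zero]⟩ }
    have hKJ : K ≤ RingHom.ker p.toAlgHom := fun x hx => hx.1
    have hIm : RingHom.ker p.toAlgHom ≤ maximalIdeal C' := fun x hx => by
      rw [C'.mem_maximalIdeal_iff, ← ArtFun.Art.res_app p x, RingHom.mem_ker.1 hx, map_zero]
    let q := quotFactor (hKJ.trans hIm) p hKJ
    have hq : IsSemismallExt q := by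
      refine ⟨fun y => (hp.1 y).elim fun x hx => ⟨Ideal.Quotient.mk K x, hx⟩, ?_⟩
      rw [eq_bot_iff, Ideal.mul_le]
      intro x hx z hz
      obtain ⟨x, rfl⟩ := Ideal.Quotient.mk_surjective x
      obtain ⟨z, rfl⟩ := Ideal.Quotient.mk_surjective z
      rw [Ideal.mem_bot]
      have h0 : x * z = 0 := by
        rw [← Submodule.mem_bot (R := C'.carrier), ← hp.2]
        exact Ideal.mul_mem_mul ((C'.mem_maximalIdeal_iff x).2 (((quot C' K (hKJ.trans hIm)).mem_maximalIdeal_iff _).1 hx))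
          (RingHom.mem_ker.2 (RingHom.mem_ker.1 hz :))
      exact (map_mul _ x z).symm.trans ((congrArg _ h0).trans (map_zero _))
    let κ := (kerToQuot (hKJ.trans hIm) p hKJ).restrictScalars k
    have hκ : ∀ i, κ i = f i • κ j := fun i => by
      refine Subtype.ext ?_
      change Ideal.Quotient.mk K (i : C') = f i • Ideal.Quotient.mk K (j : C')
      refine (Ideal.Quotient.eq.2 (⟨sub_mem i.2 (f i • j).2, ?_⟩ : (i : C') - f i • (j : C') ∈ K)).trans rfl
      change f (i - f i • j) = 0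
      rw [map_sub, map_smul, hj, smul_eq_mul, mul_one, sub_self]
    have hκs : κ = (LinearMap.toSpanSingleton k _ (κ j)).comp f := LinearMap.ext hκ
    have hobs : T.obs q hq φ = 0 := by
      have h0 : LinearMap.lTensor W f ω = 0 := (TensorProduct.rid k W).injective (hf.trans (map_zero _).symm)
      rw [show T.obs q hq φ = LinearMap.lTensor W κ (T.obs p hp φ) from T.obs_quot p hp K (hKJ.trans hIm) hKJ hq φ,
        ← hω, hκs, LinearMap.lTensor_comp_apply, h0, map_zero]
    obtain ⟨ψ, hψ⟩ := (T.obs_eq_zero_iff q hq φ).1 hobs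
    let f₁ : HomSet Q ρ (quot C' K (hKJ.trans hIm)) := ⟨ψ.1.comp π, by
      rw [← AlgHom.comp_assoc, ψ.2, hres]⟩
    let g₁ : HomSet Q ρ (quot C' K (hKJ.trans hIm)) :=
      ⟨(quotMk C' K (hKJ.trans hIm)).toAlgHom.comp (Ideal.Quotient.mkₐ k J₀), AlgHom.ext fun a => rfl⟩
    have hfg : HomSet.map q f₁ = HomSet.map q g₁ := homSet_ext fun a => by
      have := AlgHom.congr_fun (congrArg Subtype.val hψ) (π a)
      exact (this.trans (hφ₀ a) :)
    have key : ∀ a ∈ J, (Ideal.Quotient.mk J₀ a : C') ∈ K := fun a ha => by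
      have h := eq_on_sq ρ hq f₁ g₁ hfg a (hJ ha)
      have h' : f₁.1 a = 0 := by
        change ψ.1 (π a) = 0
        rw [show π a = 0 from RingHom.mem_ker.1 (hker.ge ha), map_zero]
      exact Ideal.Quotient.eq_zero_iff_mem.1 ((h.symm.trans h') :)
    obtain ⟨a, ha, haj⟩ := hkerp j j.2
    obtain ⟨h1, h2⟩ := key a ha
    exact one_ne_zero ((hj.symm.trans (congrArg f (Subtype.ext haj.symm))).trans h2)
  have hΨi : Function.Injective Ψ := fun a b e => sub_eq_zero.1 (hΨ _ (by rw [map_sub, e, sub_self]))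
  haveI hfd : Module.Finite k (Module.Dual k (RingHom.ker p.toAlgHom)) := Module.Finite.of_injective Ψ hΨi
  haveI : Module.Finite k (RingHom.ker p.toAlgHom) :=
    Module.Finite.of_injective _ (Module.eval_apply_injective k)
  have hdim : Module.finrank k (RingHom.ker p.toAlgHom) ≤ Module.finrank k W :=
    Subspace.dual_finrank_eq.symm.le.trans (LinearMap.finrank_le_finrank_of_injective hΨi)
  let b := Module.finBasis k (RingHom.ker p.toAlgHom)
  choose g hg hgb using fun i => hkerp (b i : C') (b i).2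
  refine ⟨Finset.univ.image g, Finset.card_image_le.trans (by rw [Finset.card_univ, Fintype.card_fin]; exact hdim), ?_⟩
  have hsJ : Ideal.span ((Finset.univ.image g : Finset Q) : Set Q) ≤ J := Ideal.span_le.2 fun x hx => by
    obtain ⟨i, -, rfl⟩ := Finset.mem_image.1 hx
    exact hg i
  refine le_antisymm hsJ ?_
  refine Submodule.le_of_le_smul_of_le_jacobson_bot (I := maximalIdeal Q) J.fg_of_isNoetherianRing
    (IsLocalRing.maximalIdeal_le_jacobson _) fun a ha => ?_
  have hak : (Ideal.Quotient.mk J₀ a : C') ∈ RingHom.ker p.toAlgHom :=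
    RingHom.mem_ker.2 (Ideal.Quotient.eq_zero_iff_mem.2 (Ideal.mem_sup_left ha))
  obtain ⟨c, hc⟩ : ∃ c, c = b.repr ⟨_, hak⟩ := ⟨_, rfl⟩
  have hsum := congrArg Subtype.val (b.sum_repr ⟨_, hak⟩)
  rw [AddSubmonoidClass.coe_finset_sum, ← hc] at hsum
  have hsum' : Ideal.Quotient.mk J₀ (∑ i, algebraMap k Q (c i) * g i) = Ideal.Quotient.mk J₀ a := by
    rw [map_sum]
    refine (Finset.sum_congr rfl fun i _ => ?_).trans hsum
    change _ = c i • (b i : C')
    rw [map_mul, Algebra.smul_def]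
    exact congrArg₂ (· * ·) rfl (hgb i)
  have hd : a - ∑ i, algebraMap k Q (c i) * g i ∈ J₀ := Ideal.Quotient.eq.1 hsum'.symm
  have hsm : ∑ i, algebraMap k Q (c i) * g i ∈ Ideal.span ((Finset.univ.image g : Finset Q) : Set Q) :=
    Ideal.sum_mem _ fun i _ => Ideal.mul_mem_left _ _
      (Ideal.subset_span (Finset.mem_image_of_mem g (Finset.mem_univ i)))
  obtain ⟨u, hu, w, hw, huw⟩ := Submodule.mem_sup.1 hd
  have hwJ : w ∈ J := by
    have : w = (a - ∑ i, algebraMap k Q (c i) * g i) - u := by rw [← huw, add_sub_cancel_left]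
    rw [this]
    exact sub_mem (sub_mem ha (hsJ hsm)) (Ideal.mul_le_right hu)
  rw [← sub_add_cancel a (∑ i, algebraMap k Q (c i) * g i), ← huw]
  exact add_mem (Submodule.mem_sup_right (add_mem hu (hAR ⟨hw, hwJ⟩))) (Submodule.mem_sup_left hsm)

end Base

/-- Cut a regular local cover down until its kernel lies in `m²`. -/
theorem exists_minimal_cover {k : Type u} [CommRing k] {R : Type u} [CommRing R] [Algebra k R] [IsLocalRing R] :
    ∀ (d : ℕ) (Q : Type u) [CommRing Q] [Algebra k Q] [IsRegularLocalRing Q] (π : Q →ₐ[k] R),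
      Function.Surjective π → (maximalIdeal Q).spanFinrank = d →
      ∃ (P : Type u) (_ : CommRing P) (_ : Algebra k P) (_ : IsRegularLocalRing P) (α : P →ₐ[k] R),
        Function.Surjective α ∧ RingHom.ker α ≤ maximalIdeal P ^ 2 := by
  intro d
  induction d with
  | zero =>
    intro Q _ _ _ π hπ hd
    refine ⟨Q, inferInstance, inferInstance, inferInstance, π, hπ, ?_⟩
    have hle : RingHom.ker π ≤ maximalIdeal Q := IsLocalRing.le_maximalIdeal (RingHom.ker_ne_top _)
    have hbot : maximalIdeal Q = ⊥ :=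
      (Submodule.spanFinrank_eq_zero_iff_eq_bot (maximalIdeal Q).fg_of_isNoetherianRing).1 hd
    exact (hbot ▸ hle : RingHom.ker π ≤ ⊥).trans bot_le
  | succ d ih =>
    intro Q _ _ _ π hπ hd
    by_cases h2 : RingHom.ker π ≤ maximalIdeal Q ^ 2
    · exact ⟨Q, inferInstance, inferInstance, inferInstance, π, hπ, h2⟩
    obtain ⟨x, hxk, hx2⟩ := SetLike.not_le_iff_exists.1 h2
    have hle : RingHom.ker π ≤ maximalIdeal Q := IsLocalRing.le_maximalIdeal (RingHom.ker_ne_top _)
    obtain ⟨hreg, hdim⟩ := RegularLocal.Basic.quotient_singleton (hle hxk) hx2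
    refine ih (Q ⧸ Ideal.span {x}) (Ideal.Quotient.liftₐ _ π fun a ha => ?_)
      (fun r => (hπ r).elim fun a ha => ⟨Ideal.Quotient.mk _ a, ha⟩) ?_
    · exact (Ideal.span_singleton_le_iff_mem (RingHom.ker π)).2 hxk ha
    · rw [← IsRegularLocalRing.spanFinrank_maximalIdeal, ← IsRegularLocalRing.spanFinrank_maximalIdeal, hd] at hdim
      have h1 : (maximalIdeal (Q ⧸ Ideal.span {x})).spanFinrank + 1 = d + 1 := by exact_mod_cast hdim
      omega

theorem estimates {k : Type u} [Field k] {R : Type u} [CommRing R] [Algebra k R] [IsLocalRing R] [IsNoetherianRing R]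
    (res : R →ₐ[k] k) {Q : Type u} [CommRing Q] [Algebra k Q] [IsRegularLocalRing Q] (π₀ : Q →ₐ[k] R)
    (hπ₀ : Function.Surjective π₀)
    (W : Type u) [AddCommGroup W] [Module k W] [Module.Finite k W] (T : ObsTheory (hR R res) W) :
    ringKrullDim R ≤ (Module.finrank (ResidueField R) (CotangentSpace R) : WithBot ℕ∞) ∧
      (Module.finrank (ResidueField R) (CotangentSpace R) : WithBot ℕ∞) ≤
          ringKrullDim R + (Module.finrank k W : WithBot ℕ∞) ∧
      (Module.finrank k W = 0 → IsRegularLocalRing R) ∧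
      (ringKrullDim R + (Module.finrank k W : WithBot ℕ∞) =
          (Module.finrank (ResidueField R) (CotangentSpace R) : WithBot ℕ∞) →
        ∃ (P : Type u) (_ : CommRing P) (_ : IsRegularLocalRing P) (π : P →+* R) (s : Finset P),
          Function.Surjective π ∧ Ideal.span (s : Set P) = RingHom.ker π ∧
            ringKrullDim P = ringKrullDim R + (s.card : WithBot ℕ∞)) := by
  obtain ⟨P, _, _, _, π, hπ, hker⟩ := exists_minimal_cover _ Q π₀ hπ₀ rfl
  obtain ⟨s, hs, hspan⟩ := exists_gens_le (res.comp π) (RingHom.ker π) hker res π hπ rfl rfl W T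
  have hd : Module.finrank (ResidueField R) (CotangentSpace R) = (maximalIdeal P).spanFinrank := by
    rw [Alg.PPoly.finrank_cotangent_of_surjective (π : P →+* R) hπ hker,
      spanFinrank_maximalIdeal_eq_finrank_cotangentSpace]
  have h1 : ringKrullDim R ≤ (Module.finrank (ResidueField R) (CotangentSpace R) : WithBot ℕ∞) := by
    rw [← spanFinrank_maximalIdeal_eq_finrank_cotangentSpace]
    exact_mod_cast ringKrullDim_le_spanFinrank_maximalIdeal R
  have hkm : RingHom.ker π ≤ maximalIdeal P := IsLocalRing.le_maximalIdeal (RingHom.ker_ne_top _)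
  have hKrull := ringKrullDim_le_ringKrullDim_quotient_add_spanFinrank (RingHom.ker π)
    (hkm.trans (IsLocalRing.ringJacobson_eq_maximalIdeal P).ge)
  rw [ringKrullDim_eq_of_ringEquiv (Ideal.quotientKerAlgEquivOfSurjective hπ).toRingEquiv,
    ← IsRegularLocalRing.spanFinrank_maximalIdeal (R := P), ← hd] at hKrull
  have hsc : (RingHom.ker π).spanFinrank ≤ s.card := by
    rw [← hspan, ← Set.ncard_coe_finset]
    exact Submodule.spanFinrank_span_le_ncard_of_finite s.finite_toSet
  obtain ⟨n, hn⟩ := RegularLocal.Basic.exists_natCast_eq_ringKrullDim (R := R)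
  rw [hn] at hKrull h1 ⊢
  have hK : Module.finrank (ResidueField R) (CotangentSpace R) ≤ n + (RingHom.ker π).spanFinrank := by
    exact_mod_cast hKrull
  refine ⟨h1, by exact_mod_cast hK.trans (by omega), fun h0 => ?_, fun heq => ?_⟩
  · have hs0 : s = ∅ := Finset.card_eq_zero.1 (by omega)
    rw [hs0, Finset.coe_empty, Ideal.span_empty] at hspan
    exact IsRegularLocalRing.of_ringEquiv
      (RingEquiv.ofBijective (π : P →+* R) ⟨(RingHom.injective_iff_ker_eq_bot _).2 hspan.symm, hπ⟩)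
  · have heq' : n + Module.finrank k W = Module.finrank (ResidueField R) (CotangentSpace R) := by exact_mod_cast heq
    refine ⟨P, inferInstance, inferInstance, (π : P →+* R), s, hπ, hspan, ?_⟩
    rw [← IsRegularLocalRing.spanFinrank_maximalIdeal (R := P), ← hd]
    exact_mod_cast (show Module.finrank (ResidueField R) (CotangentSpace R) = n + s.card by omega)

end Groth.Agent.Misc9.SF
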