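import Groth.Agent.Misc9.SF.Cond
import Groth.Prelude.Def_W4sfdMinVersal

/-! Formal elements versus families, lifting to complete rings, surjectivity criteria. -/

universe u v

set_option synthInstance.maxHeartbeats 20000

open CategoryTheory

namespace Groth.Agent.Misc9.SF

open ArtFun ArtFun.Art

variable {Λ k : Type u} [CommRing Λ] [Field k] [Algebra Λ k]

instance cring_isAdicComplete (R : CRing Λ k) :
    IsAdicComplete (IsLocalRing.maximalIdeal R.carrier) R.carrier := R.isAdicComplete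

section Along

variable {R S : Type u} [CommRing R] [Algebra Λ R] {resR : R →ₐ[Λ] k} [CommRing S] [Algebra Λ S]
  {resS : S →ₐ[Λ] k}

/-- precomposition. -/
def alongHom (g : R →ₐ[Λ] S) (hg : resS.comp g = resR) {A : Art Λ k} (φ : HomSet S resS A) : HomSet R resR A :=
  ⟨φ.1.comp g, by rw [← AlgHom.comp_assoc, φ.2, hg]⟩

theorem map_alongHom (g : R →ₐ[Λ] S) (hg : resS.comp g = resR) {A B : Art Λ k} (f : A ⟶ B) (φ : HomSet S resS A) :
    HomSet.map f (alongHom g hg φ) = alongHom g hg (HomSet.map f φ) := rfl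

theorem along_app {F : Art Λ k ⥤ Type v} (ξ : Family R resR F) (g : R →ₐ[Λ] S) (hg : resS.comp g = resR)
    {A : Art Λ k} (φ : HomSet S resS A) : (ξ.along g hg).app A φ = ξ.app A (alongHom g hg φ) := rfl

theorem family_ext {F : Art Λ k ⥤ Type v} {ξ η : Family R resR F} (h : ∀ A φ, ξ.app A φ = η.app A φ) : ξ = η := by
  cases ξ; cases η
  congr
  exact funext fun A => funext fun φ => h A φ

end Along

section Trunc

variable (R : CRing Λ k)

/-- transition map between truncations. -/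
noncomputable def truncTrans {n m : ℕ} (h : n ≤ m) : R.trunc m ⟶ R.trunc n :=
  ⟨Ideal.Quotient.liftₐ (CRing.mpow R m) (Ideal.Quotient.mkₐ Λ (CRing.mpow R n)) (fun _ ha =>
      Ideal.Quotient.eq_zero_iff_mem.2 (Ideal.pow_le_pow_right (Nat.succ_le_succ h) ha)), by
    apply AlgHom.ext
    intro x
    obtain ⟨a, rfl⟩ := Ideal.Quotient.mk_surjective x
    rfl⟩

theorem truncTrans_truncHom {n m : ℕ} (h : n ≤ m) : HomSet.map (truncTrans R h) (R.truncHom m) = R.truncHom n :=
  homSet_ext fun _ => rfl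

theorem truncHom_surjective (n : ℕ) : Function.Surjective (R.truncHom n).1 := Ideal.Quotient.mk_surjective

theorem truncTrans_surjective {n m : ℕ} (h : n ≤ m) : Function.Surjective (truncTrans R h) := fun x => by
  obtain ⟨a, rfl⟩ := Ideal.Quotient.mk_surjective x
  exact ⟨Ideal.Quotient.mk _ a, rfl⟩

theorem truncMap_surjective (n : ℕ) : Function.Surjective (R.truncMap n) := fun x => by
  obtain ⟨a, rfl⟩ := Ideal.Quotient.mk_surjective x
  exact ⟨Ideal.Quotient.mk _ a, rfl⟩

theorem trunc_hom_ext {n : ℕ} {A : Art Λ k} {g g' : R.trunc n ⟶ A}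
    (h : HomSet.map g (R.truncHom n) = HomSet.map g' (R.truncHom n)) : g = g' :=
  hom_ext' fun x => by
    obtain ⟨a, rfl⟩ := truncHom_surjective R n x
    exact AlgHom.congr_fun (congrArg Subtype.val h) a

theorem truncTrans_truncMap {n m : ℕ} (h : n + 1 ≤ m) :
    truncTrans R h ≫ R.truncMap n = truncTrans R ((Nat.le_succ n).trans h) :=
  trunc_hom_ext R (homSet_ext fun _ => rfl)

theorem map_truncTrans {F : Art Λ k ⥤ Type v} (u : FormalElt F R) {n m : ℕ} (h : n ≤ m) :
    F.map (truncTrans R h) (u.elt m) = u.elt n := by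
  induction h with
  | refl =>
    rw [show truncTrans R (le_refl n) = 𝟙 _ from trunc_hom_ext R (homSet_ext fun _ => rfl), map_id']
  | @step m h ih =>
    rw [show truncTrans R (h.step) = R.truncMap m ≫ truncTrans R h from trunc_hom_ext R (homSet_ext fun _ => rfl),
      ← map_map, u.compat, ih]

theorem maximalIdeal_eq_ker : IsLocalRing.maximalIdeal R.carrier = RingHom.ker R.res := by
  ext a
  rw [CRing.mem_maximalIdeal_iff, RingHom.mem_ker]

theorem exists_factor {A : Art Λ k} (φ : HomSet R.carrier R.res A) :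
    ∃ N, ∀ n, N ≤ n → ∃ g : R.trunc n ⟶ A, HomSet.map g (R.truncHom n) = φ := by
  obtain ⟨N, hN⟩ := exists_pow_eq_bot A
  refine ⟨N, fun n hn => ?_⟩
  have hk : ∀ a ∈ CRing.mpow R n, φ.1 a = 0 := by
    intro a ha
    have h1 : (IsLocalRing.maximalIdeal R.carrier).map φ.1 ≤ IsLocalRing.maximalIdeal A := by
      refine Ideal.map_le_iff_le_comap.2 fun r hr => ?_
      rw [Ideal.mem_comap, A.mem_maximalIdeal_iff, ← AlgHom.comp_apply, φ.2, ← CRing.mem_maximalIdeal_iff]
      exact hr
    have h2 := Ideal.mem_map_of_mem φ.1 ha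
    rw [CRing.mpow, Ideal.map_pow] at h2
    have h3 := Ideal.pow_right_mono h1 _ h2
    rw [eq_bot_iff.2 ((Ideal.pow_le_pow_right (Nat.le_succ_of_le hn)).trans hN.le)] at h3
    exact h3
  refine ⟨⟨Ideal.Quotient.liftₐ (CRing.mpow R n) φ.1 hk, AlgHom.ext fun x => ?_⟩, homSet_ext fun _ => rfl⟩
  obtain ⟨a, rfl⟩ := Ideal.Quotient.mk_surjective x
  exact AlgHom.congr_fun φ.2 a

variable {R}

theorem factor_map_eq {F : Art Λ k ⥤ Type v} (u : FormalElt F R) {A : Art Λ k} {n m : ℕ}
    (g : R.trunc n ⟶ A) (g' : R.trunc m ⟶ A)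
    (h : HomSet.map g (R.truncHom n) = HomSet.map g' (R.truncHom m)) :
    F.map g (u.elt n) = F.map g' (u.elt m) := by
  have key : truncTrans R (le_max_left n m) ≫ g = truncTrans R (le_max_right n m) ≫ g' :=
    trunc_hom_ext R (by
      rw [← homSet_map_map, ← homSet_map_map, truncTrans_truncHom, truncTrans_truncHom, h])
  rw [← map_truncTrans R u (le_max_left n m), ← map_truncTrans R u (le_max_right n m), map_map, map_map, key]

theorem exists_family {F : Art Λ k ⥤ Type v} (u : FormalElt F R) :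
    ∃ ξ : Family R.carrier R.res F, ξ.toFormalElt = u := by
  have hc : ∀ (A : Art Λ k) (φ : HomSet R.carrier R.res A), ∃ n, ∃ g : R.trunc n ⟶ A,
      HomSet.map g (R.truncHom n) = φ :=
    fun A φ => (exists_factor R φ).elim fun N h => ⟨N, h N le_rfl⟩
  choose n g hg using hc
  refine ⟨⟨fun A φ => F.map (g A φ) (u.elt (n A φ)), fun {A B} f φ => ?_⟩, FormalElt.ext' fun m => ?_⟩
  · rw [map_map]
    exact factor_map_eq u _ _ (by rw [hg, ← homSet_map_map, hg])
  · change F.map (g _ _) (u.elt _) = _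
    rw [factor_map_eq u _ (𝟙 (R.trunc m)) (by rw [hg]; rfl), map_id']

theorem family_ext_formal {F : Art Λ k ⥤ Type v} {ξ η : Family R.carrier R.res F}
    (h : ξ.toFormalElt = η.toFormalElt) : ξ = η := by
  refine family_ext fun A φ => ?_
  obtain ⟨N, hN⟩ := exists_factor R φ
  obtain ⟨g, hg⟩ := hN N le_rfl
  rw [← hg, ξ.natural, η.natural]
  exact congrArg (fun e : FormalElt F R => F.map g (e.elt N)) h

theorem bijective_toFormalElt (R : CRing Λ k) (F : Art Λ k ⥤ Type v) :
    Function.Bijective (fun ξ : Family R.carrier R.res F => ξ.toFormalElt) :=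
  ⟨fun _ _ h => family_ext_formal h, fun u => exists_family u⟩

theorem truncMapOfHom_truncHom {S : CRing Λ k} (g : R.carrier →ₐ[Λ] S.carrier) (hg : S.res.comp g = R.res) (n : ℕ) :
    HomSet.map (CRing.truncMapOfHom g hg n) (R.truncHom n) = alongHom g hg (S.truncHom n) :=
  homSet_ext fun _ => rfl

theorem toFormalElt_push {F : Art Λ k ⥤ Type v} (ξ : Family R.carrier R.res F) {S : CRing Λ k}
    (g : R.carrier →ₐ[Λ] S.carrier) (hg : S.res.comp g = R.res) :
    ξ.toFormalElt.push g hg = (ξ.along g hg).toFormalElt :=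
  FormalElt.ext' fun n => by
    change F.map _ (ξ.app _ _) = ξ.app _ (alongHom g hg (S.truncHom n))
    rw [← ξ.natural, truncMapOfHom_truncHom]

end Trunc

/-! ### Maps into complete rings -/

section Lift

variable {S : CRing Λ k}

theorem hom_ext_trunc {R : Type u} [CommRing R] [Algebra Λ R] {g g' : R →ₐ[Λ] S.carrier}
    (h : ∀ n, (S.truncHom n).1.comp g = (S.truncHom n).1.comp g') : g = g' := by
  refine IsAdicComplete.algHom_ext (IsLocalRing.maximalIdeal S.carrier) fun n => AlgHom.ext fun x => ?_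
  refine Ideal.Quotient.eq.2 (Ideal.pow_le_pow_right (Nat.le_succ n) ?_)
  exact Ideal.Quotient.eq.1 (AlgHom.congr_fun (h n) x)

theorem exists_hom_of_system {R : Type u} [CommRing R] [Algebra Λ R] {resR : R →ₐ[Λ] k}
    (φ : ∀ n, HomSet R resR (S.trunc n)) (hc : ∀ n, HomSet.map (S.truncMap n) (φ (n + 1)) = φ n) :
    ∃ (g : R →ₐ[Λ] S.carrier) (hg : S.res.comp g = resR), ∀ n, alongHom g hg (S.truncHom n) = φ n := by
  have hc' : ∀ {a b : ℕ} (h : a ≤ b), HomSet.map (truncTrans S h) (φ b) = φ a := by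
    intro a b h
    induction h with
    | refl =>
      rw [show truncTrans S (le_refl a) = 𝟙 _ from trunc_hom_ext S (homSet_ext fun _ => rfl)]
      exact homSet_ext fun _ => rfl
    | @step m h ih =>
      rw [show truncTrans S (h.step) = S.truncMap m ≫ truncTrans S h from trunc_hom_ext S (homSet_ext fun _ => rfl),
        ← homSet_map_map, hc, ih]
  let f : (n : ℕ) → R →ₐ[Λ] S.carrier ⧸ IsLocalRing.maximalIdeal S.carrier ^ n := fun n =>
    (Ideal.Quotient.factorₐ Λ (Ideal.pow_le_pow_right (Nat.le_succ n))).comp (φ n).1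
  have hf : ∀ {m n : ℕ} (hle : m ≤ n),
      (Ideal.Quotient.factorₐ Λ (Ideal.pow_le_pow_right hle)).comp (f n) = f m := by
    intro m n hle
    refine AlgHom.ext fun x => ?_
    obtain ⟨a, ha⟩ := truncHom_surjective S n ((φ n).1 x)
    have hb : (φ m).1 x = (S.truncHom m).1 a := by
      rw [← hc' hle]
      change (truncTrans S hle) ((φ n).1 x) = _
      rw [← ha]; rfl
    simp only [f, AlgHom.comp_apply]
    erw [← ha, hb]
    rfl
  let g : R →ₐ[Λ] S.carrier := IsAdicComplete.liftAlgHom (IsLocalRing.maximalIdeal S.carrier) f hf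
  have hg : ∀ n x, (S.truncHom n).1 (g x) = (φ n).1 x := by
    intro n x
    obtain ⟨a, ha⟩ := truncHom_surjective S (n + 1) ((φ (n + 1)).1 x)
    have h1 : Ideal.Quotient.mk (IsLocalRing.maximalIdeal S.carrier ^ (n + 1)) (g x) = f (n + 1) x :=
      IsAdicComplete.mk_liftAlgHom _ f hf _ x
    rw [← hc n]
    change _ = (S.truncMap n) ((φ (n + 1)).1 x)
    rw [← ha]
    refine h1.trans ?_
    simp only [f, AlgHom.comp_apply]
    erw [← ha]
    rfl
  refine ⟨g, AlgHom.ext fun x => ?_, fun n => homSet_ext (hg n)⟩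
  rw [← (φ 0).2]
  change S.res (g x) = (S.trunc 0).res ((φ 0).1 x)
  rw [← hg 0]
  rfl

theorem trunc_zero_bijective (R : CRing Λ k) : Function.Bijective (toBase (R.trunc 0)) := by
  refine ⟨fun x y e => ?_, (R.trunc 0).res_surjective⟩
  obtain ⟨a, rfl⟩ := Ideal.Quotient.mk_surjective x
  obtain ⟨b, rfl⟩ := Ideal.Quotient.mk_surjective y
  refine Ideal.Quotient.eq.2 ?_
  change a - b ∈ IsLocalRing.maximalIdeal R.carrier ^ (0 + 1)
  rw [zero_add, pow_one, CRing.mem_maximalIdeal_iff, map_sub, sub_eq_zero]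
  exact e

theorem homSet_trunc_zero {R : Type u} [CommRing R] [Algebra Λ R] (resR : R →ₐ[Λ] k) :
    Nonempty (HomSet R resR (S.trunc 0)) := by
  obtain ⟨g, -, -⟩ := exists_inverse (toBase (S.trunc 0)) (trunc_zero_bijective S)
  exact ⟨HomSet.map g (homSetBase R resR)⟩

theorem subsingleton_trunc_zero {F : Art Λ k ⥤ Type v} (h : Subsingleton (F.obj (base Λ k))) :
    Subsingleton (F.obj (S.trunc 0)) := by
  obtain ⟨g, hg, -⟩ := exists_inverse (toBase (S.trunc 0)) (trunc_zero_bijective S)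
  refine ⟨fun x y => ?_⟩
  rw [← map_id' F x, ← map_id' F y, ← hg, ← map_map, ← map_map, h.elim (F.map _ x) (F.map _ y)]

theorem exists_start {R : Type u} [CommRing R] [Algebra Λ R] {resR : R →ₐ[Λ] k} {F : Art Λ k ⥤ Type v}
    (h0 : H0 F) (ξ : Family R resR F) (η : FormalElt F S) :
    ∃ φ : HomSet R resR (S.trunc 0), ξ.app _ φ = η.elt 0 :=
  (homSet_trunc_zero resR).elim fun φ => ⟨φ, (subsingleton_trunc_zero h0.2).elim _ _⟩

theorem exists_along_eq {R : Type u} [CommRing R] [Algebra Λ R] {resR : R →ₐ[Λ] k} {F : Art Λ k ⥤ Type v}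
    (ξ : Family R resR F) (hξ : IsVersal ξ) (η : FormalElt F S)
    (hstart : ∃ φ : HomSet R resR (S.trunc 0), ξ.app _ φ = η.elt 0) :
    ∃ (g : R →ₐ[Λ] S.carrier) (hg : S.res.comp g = resR), (ξ.along g hg).toFormalElt = η := by
  obtain ⟨φ₀, hφ₀⟩ := hstart
  have step : ∀ n (φ : {φ : HomSet R resR (S.trunc n) // ξ.app _ φ = η.elt n}),
      ∃ ψ : {φ : HomSet R resR (S.trunc (n + 1)) // ξ.app _ φ = η.elt (n + 1)},
        HomSet.map (S.truncMap n) ψ.1 = φ.1 := fun n φ => by
    obtain ⟨ψ, hψ, hψ'⟩ := hξ (S.truncMap n) (truncMap_surjective S n) φ.1 (η.elt (n + 1))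
      ((η.compat n).trans φ.2.symm)
    exact ⟨⟨ψ, hψ'⟩, hψ⟩
  choose next hnext using step
  let seq : (n : ℕ) → {φ : HomSet R resR (S.trunc n) // ξ.app _ φ = η.elt n} := fun n =>
    Nat.rec ⟨φ₀, hφ₀⟩ (fun n φ => next n φ) n
  obtain ⟨g, hg, hgn⟩ := exists_hom_of_system (fun n => (seq n).1) (fun n => hnext n (seq n))
  refine ⟨g, hg, FormalElt.ext' fun n => ?_⟩
  change ξ.app _ (alongHom g hg (S.truncHom n)) = _
  rw [hgn]
  exact (seq n).2

theorem surjective_formalElt_map {F G : Art Λ k ⥤ Type v} (η : F ⟶ G) (hη : ArtFun.IsSmooth η)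
    (h0 : Function.Surjective (η.app (base Λ k))) (w : FormalElt G S) : ∃ u : FormalElt F S, u.map η = w := by
  obtain ⟨g, hg, hg'⟩ := exists_inverse (toBase (S.trunc 0)) (trunc_zero_bijective S)
  obtain ⟨b, hb⟩ := h0 (G.map (toBase (S.trunc 0)) (w.elt 0))
  have start : η.app _ (F.map g b) = w.elt 0 := by
    rw [NatTrans.naturality_apply, hb, map_map, hg, map_id']
  have step : ∀ n (x : {x : F.obj (S.trunc n) // η.app _ x = w.elt n}),
      ∃ y : {x : F.obj (S.trunc (n + 1)) // η.app _ x = w.elt (n + 1)}, F.map (S.truncMap n) y.1 = x.1 := fun n x => by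
    obtain ⟨y, hy⟩ := hη (S.truncMap n) (truncMap_surjective S n) ⟨(x.1, w.elt (n + 1)), x.2.trans (w.compat n).symm⟩
    exact ⟨⟨y, congrArg (fun t => t.1.2) hy⟩, congrArg (fun t => t.1.1) hy⟩
  choose next hnext using step
  let seq : (n : ℕ) → {x : F.obj (S.trunc n) // η.app _ x = w.elt n} := fun n =>
    Nat.rec ⟨_, start⟩ (fun n x => next n x) n
  exact ⟨⟨fun n => (seq n).1, fun n => hnext n (seq n)⟩, FormalElt.ext' fun n => (seq n).2⟩

end Lift

/-! ### Surjectivity criteria -/

section Surj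

theorem exists_homSet_dual {S : Type u} [CommRing S] [Algebra Λ S] (resS : S →ₐ[Λ] k)
    (W : Ideal S) (hW : ∀ s ∈ W, resS s = 0) (hsq : ∀ s t, resS s = 0 → resS t = 0 → s * t ∈ W)
    (σ : k →+* S ⧸ W) (hσ : ∀ c s, Ideal.Quotient.mk W s = σ c → resS s = c)
    (hσΛ : ∀ l : Λ, σ (algebraMap Λ k l) = Ideal.Quotient.mk W (algebraMap Λ S l))
    {x : S} (hx : resS x = 0) (hxW : x ∉ W) :
    ∃ a : HomSet S resS (dual Λ k), (a.1 x : DualNumber k).snd ≠ 0 ∧ (∀ s ∈ W, a.1 s = 0) ∧
      ∀ c s, Ideal.Quotient.mk W s = σ c → (a.1 s : DualNumber k).snd = 0 := by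
  letI : Algebra k (S ⧸ W) := σ.toAlgebra
  have hnot : Ideal.Quotient.mk W x ∉ Submodule.span k {(1 : S ⧸ W)} := by
    intro h
    obtain ⟨c, hc⟩ := Submodule.mem_span_singleton.1 h
    rw [Algebra.smul_def, mul_one] at hc
    have hc0 := hσ c x hc.symm
    rw [hx] at hc0
    rw [← hc0, map_zero] at hc
    exact hxW (Ideal.Quotient.eq_zero_iff_mem.1 hc.symm)
  obtain ⟨ℓ, hℓx, hℓ⟩ := Submodule.exists_dual_map_eq_bot_of_notMem hnot inferInstance
  have hℓ1 : ∀ c : k, ℓ (σ c) = 0 := fun c => by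
    have h : ℓ (σ c) ∈ (Submodule.span k {(1 : S ⧸ W)}).map ℓ :=
      Submodule.mem_map_of_mem (Submodule.mem_span_singleton.2 ⟨c, by rw [Algebra.smul_def, mul_one]; rfl⟩)
    rwa [hℓ, Submodule.mem_bot] at h
  have hℓs : ∀ c y, ℓ (σ c * y) = c * ℓ y := fun c y => by
    rw [show σ c * y = c • y from (Algebra.smul_def c y).symm, map_smul, smul_eq_mul]
  have hlift : ∀ c : k, ∃ s, Ideal.Quotient.mk W s = σ c := fun c => Ideal.Quotient.mk_surjective _
  choose r hr using hlift
  have hmul : ∀ s t : S, ℓ (Ideal.Quotient.mk W (s * t)) =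
      resS s * ℓ (Ideal.Quotient.mk W t) + ℓ (Ideal.Quotient.mk W s) * resS t := fun s t => by
    have h0 : ∀ s, resS (s - r (resS s)) = 0 := fun s => by rw [map_sub, hσ _ _ (hr _), sub_self]
    have h := Ideal.Quotient.eq_zero_iff_mem.2 (hsq _ _ (h0 s) (h0 t))
    rw [map_mul, map_sub, map_sub, hr, hr] at h
    have h' : Ideal.Quotient.mk W (s * t) = σ (resS s) * Ideal.Quotient.mk W t +
        σ (resS t) * Ideal.Quotient.mk W s - σ (resS s * resS t) := by
      rw [map_mul, map_mul σ]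
      linear_combination h
    rw [h', map_sub, map_add, hℓs, hℓs, hℓ1, sub_zero, mul_comm (resS t)]
  let φ : S →ₐ[Λ] DualNumber k :=
    { toFun := fun s => (resS s, ℓ (Ideal.Quotient.mk W s))
      map_one' := TrivSqZeroExt.ext (map_one resS) (by
        change ℓ (Ideal.Quotient.mk W 1) = 0
        rw [map_one, ← map_one σ, hℓ1])
      map_mul' := fun s t => TrivSqZeroExt.ext (map_mul resS s t) (by
        change ℓ (Ideal.Quotient.mk W (s * t)) = resS s • ℓ (Ideal.Quotient.mk W t) +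
          MulOpposite.op (resS t) • ℓ (Ideal.Quotient.mk W s)
        rw [smul_eq_mul, op_smul_eq_mul, hmul])
      map_zero' := TrivSqZeroExt.ext (map_zero resS) (by
        change ℓ (Ideal.Quotient.mk W 0) = 0
        rw [map_zero, map_zero])
      map_add' := fun s t => TrivSqZeroExt.ext (map_add resS s t) (by
        change ℓ (Ideal.Quotient.mk W (s + t)) = ℓ _ + ℓ _
        rw [map_add, map_add])
      commutes' := fun l => TrivSqZeroExt.ext (by
        rw [TrivSqZeroExt.algebraMap_eq_inl', TrivSqZeroExt.fst_inl]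
        exact resS.commutes l) (by
        rw [TrivSqZeroExt.algebraMap_eq_inl', TrivSqZeroExt.snd_inl]
        change ℓ (Ideal.Quotient.mk W (algebraMap Λ S l)) = 0
        rw [← hσΛ, hℓ1]) }
  refine ⟨⟨φ, AlgHom.ext fun _ => rfl⟩, hℓx, fun s hs => ?_, fun c s hs => ?_⟩
  · exact TrivSqZeroExt.ext (hW s hs) (by
      change ℓ (Ideal.Quotient.mk W s) = 0
      rw [Ideal.Quotient.eq_zero_iff_mem.2 hs, map_zero])
  · change ℓ (Ideal.Quotient.mk W s) = 0
    rw [hs, hℓ1]

variable {R S : CRing Λ k}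

theorem map_maximalIdeal_le (f : R.carrier →ₐ[Λ] S.carrier) (hf : S.res.comp f = R.res) :
    (IsLocalRing.maximalIdeal R.carrier).map f ≤ IsLocalRing.maximalIdeal S.carrier :=
  Ideal.map_le_iff_le_comap.2 (CRing.maximalIdeal_le_comap f hf)

theorem map_maximalIdeal_eq_of_surjective (f : R.carrier →ₐ[Λ] S.carrier) (hf : S.res.comp f = R.res)
    (h : Function.Surjective f) :
    (IsLocalRing.maximalIdeal R.carrier).map f = IsLocalRing.maximalIdeal S.carrier := by
  refine le_antisymm (map_maximalIdeal_le f hf) fun s hs => ?_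
  obtain ⟨r, rfl⟩ := h s
  refine Ideal.mem_map_of_mem f ?_
  rw [CRing.mem_maximalIdeal_iff, ← CRing.res_comp_apply f hf, ← CRing.mem_maximalIdeal_iff]
  exact hs

theorem surjective_of_cotangent (f : R.carrier →ₐ[Λ] S.carrier) (hf : S.res.comp f = R.res)
    (h : IsLocalRing.maximalIdeal S.carrier ≤
      (IsLocalRing.maximalIdeal R.carrier).map f ⊔ IsLocalRing.maximalIdeal S.carrier ^ 2) :
    Function.Surjective f := by
  let M := IsLocalRing.maximalIdeal S.carrier
  let W := (IsLocalRing.maximalIdeal R.carrier).map f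
  have hMW : M ≤ W := by
    refine Submodule.le_of_le_smul_of_le_jacobson_bot (I := M) (IsNoetherian.noetherian M) ?_ ?_
    · rw [IsLocalRing.jacobson_eq_maximalIdeal ⊥ bot_ne_top]
    · rw [Ideal.smul_eq_mul, ← pow_two]
      exact h
  have heq : W = M := le_antisymm (map_maximalIdeal_le f hf) hMW
  haveI : IsHausdorff ((IsLocalRing.maximalIdeal R.carrier).map (f : R.carrier →+* S.carrier)) S.carrier := by
    rw [show (IsLocalRing.maximalIdeal R.carrier).map (f : R.carrier →+* S.carrier) = M from heq]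
    exact (inferInstance : IsHausdorff (IsLocalRing.maximalIdeal S.carrier) S.carrier)
  refine surjective_of_mk_map_comp_surjective (I := IsLocalRing.maximalIdeal R.carrier)
    (f : R.carrier →+* S.carrier) fun y => ?_
  obtain ⟨s, rfl⟩ := Ideal.Quotient.mk_surjective y
  obtain ⟨r, hr⟩ := R.res_surjective (S.res s)
  refine ⟨r, Ideal.Quotient.eq.2 ?_⟩
  change f r - s ∈ W
  rw [heq]
  rw [CRing.mem_maximalIdeal_iff, map_sub, CRing.res_comp_apply f hf, hr, sub_self]

theorem surjective_of_dual_injective (f : R.carrier →ₐ[Λ] S.carrier) (hf : S.res.comp f = R.res)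
    (h : ∀ a b : HomSet S.carrier S.res (dual Λ k), alongHom f hf a = alongHom f hf b → a = b) :
    Function.Surjective f := by
  refine surjective_of_cotangent f hf fun x hx => ?_
  by_contra hxW
  let W := (IsLocalRing.maximalIdeal R.carrier).map f ⊔ IsLocalRing.maximalIdeal S.carrier ^ 2
  have hW : ∀ s ∈ W, S.res s = 0 := fun s hs =>
    (CRing.mem_maximalIdeal_iff S s).1 ((sup_le (map_maximalIdeal_le f hf) (Ideal.pow_le_self two_ne_zero)) hs)
  let e := RingHom.quotientKerEquivOfSurjective (f := (R.res : R.carrier →+* k)) R.res_surjective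
  let σ : k →+* S.carrier ⧸ W := (Ideal.Quotient.lift _ ((Ideal.Quotient.mk W).comp (f : R.carrier →+* S.carrier))
    (fun r hr => Ideal.Quotient.eq_zero_iff_mem.2 (Ideal.mem_sup_left (Ideal.mem_map_of_mem f
      ((CRing.mem_maximalIdeal_iff R r).2 hr))))).comp e.symm.toRingHom
  have hσr : ∀ r, σ (R.res r) = Ideal.Quotient.mk W (f r) := fun r => by
    have h : e.symm (R.res r) = Ideal.Quotient.mk _ r := e.symm_apply_apply (Ideal.Quotient.mk _ r)
    simp only [σ, RingHom.comp_apply, RingEquiv.toRingHom_eq_coe, RingEquiv.coe_toRingHom]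
    rw [h]
    rfl
  obtain ⟨a, hax, -, ha⟩ := exists_homSet_dual S.res W hW
    (fun s t hs ht => Ideal.mem_sup_right (by
      rw [pow_two]; exact Ideal.mul_mem_mul ((CRing.mem_maximalIdeal_iff S s).2 hs) ((CRing.mem_maximalIdeal_iff S t).2 ht)))
    σ (fun c s hs => by
      obtain ⟨r, rfl⟩ := R.res_surjective c
      rw [hσr] at hs
      rw [← CRing.res_comp_apply f hf, ← sub_eq_zero, ← map_sub]
      exact hW _ (Ideal.Quotient.eq.1 hs))
    (fun l => by rw [← R.res.commutes, hσr, f.commutes]) ((CRing.mem_maximalIdeal_iff S x).1 hx) hxW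
  refine hax ?_
  have := h a (HomSet.map baseToDual (homSetBase S.carrier S.res)) (homSet_ext fun r => TrivSqZeroExt.ext
    (AlgHom.congr_fun a.2 (f r)) (ha (R.res r) (f r) (hσr r).symm))
  rw [this]
  rfl

theorem injective_of_surjective_endo {A : Type*} [CommRing A] [IsNoetherianRing A] (α : A →+* A)
    (h : Function.Surjective α) : Function.Injective α := by
  let K : ℕ → Ideal A := fun n => Nat.rec ⊥ (fun _ I => I.comap α) n
  have hK : ∀ n x, x ∈ K n ↔ α^[n] x = 0 := by
    intro n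
    induction n with
    | zero => intro x; exact Submodule.mem_bot A
    | succ n ih =>
      intro x
      rw [Function.iterate_succ_apply, ← ih]
      rfl
  have hmono : Monotone K := monotone_nat_of_le_succ fun n x hx => by
    refine (hK _ _).2 ((Function.iterate_succ_apply' _ n x).trans ?_)
    rw [(hK n x).1 hx, map_zero]
  obtain ⟨n, hn⟩ := monotone_stabilizes_iff_noetherian.2 inferInstance (⟨K, hmono⟩ : ℕ →o Ideal A)
  refine (injective_iff_map_eq_zero _).2 fun x hx => ?_
  obtain ⟨y, rfl⟩ := h.iterate n x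
  have hy : y ∈ K (n + 1) := (hK _ _).2 ((Function.iterate_succ_apply' _ n y).trans hx)
  have e : K n = K (n + 1) := hn (n + 1) (Nat.le_succ n)
  rw [← e] at hy
  exact (hK _ _).1 hy

/-- a morphism out of `R` into an object with square-zero maximal ideal factors through `R/m²`. -/
theorem exists_factor_one (R : CRing Λ k) {A : Art Λ k} (hA : IsLocalRing.maximalIdeal A ^ 2 = ⊥)
    (φ : HomSet R.carrier R.res A) : ∃ g : R.trunc 1 ⟶ A, HomSet.map g (R.truncHom 1) = φ := by
  have hk : ∀ a ∈ CRing.mpow R 1, φ.1 a = 0 := by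
    intro a ha
    have h1 : (IsLocalRing.maximalIdeal R.carrier).map φ.1 ≤ IsLocalRing.maximalIdeal A := by
      refine Ideal.map_le_iff_le_comap.2 fun r hr => ?_
      rw [Ideal.mem_comap, A.mem_maximalIdeal_iff, ← AlgHom.comp_apply, φ.2, ← CRing.mem_maximalIdeal_iff]
      exact hr
    have h2 := Ideal.mem_map_of_mem φ.1 ha
    rw [CRing.mpow, Ideal.map_pow] at h2
    have h3 := Ideal.pow_right_mono h1 _ h2
    rw [show (1 + 1) = 2 from rfl, hA] at h3
    exact h3
  refine ⟨⟨Ideal.Quotient.liftₐ (CRing.mpow R 1) φ.1 hk, AlgHom.ext fun x => ?_⟩, homSet_ext fun _ => rfl⟩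
  obtain ⟨a, rfl⟩ := Ideal.Quotient.mk_surjective x
  exact AlgHom.congr_fun φ.2 a

theorem dual_sq_zero : IsLocalRing.maximalIdeal (dual Λ k) ^ 2 = ⊥ := by
  rw [eq_bot_iff, pow_two, Ideal.mul_le]
  intro r hr s hs
  have hr' : (r : DualNumber k).fst = 0 := ((dual Λ k).mem_maximalIdeal_iff r).1 hr
  have hs' : (s : DualNumber k).fst = 0 := ((dual Λ k).mem_maximalIdeal_iff s).1 hs
  rw [Submodule.mem_bot]
  refine TrivSqZeroExt.ext ?_ ?_
  · change (r : DualNumber k).fst * (s : DualNumber k).fst = 0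
    rw [hr', zero_mul]
  · change (r : DualNumber k).fst • (s : DualNumber k).snd + MulOpposite.op (s : DualNumber k).fst • (r : DualNumber k).snd = 0
    rw [hr', hs']; simp

end Surj

end Groth.Agent.Misc9.SF
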