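import Groth.Agent.Misc9.SF.Formal
import Groth.Agent.Completion.NoetherianComplete

/-! Smooth coefficient rings with prescribed tangent space `Der_Λ(k) × k^m`. -/

universe u v

set_option synthInstance.maxHeartbeats 20000

open CategoryTheory

namespace Groth.Agent.Misc9.SF

open ArtFun ArtFun.Art

variable {Λ k : Type u} [CommRing Λ] [Field k] [Algebra Λ k]

/-- Completion of a Noetherian algebra at a `k`-point, with its universal property. -/
theorem exists_completion (Q : Type u) [CommRing Q] [Algebra Λ Q] [IsNoetherianRing Q] (ρ : Q →ₐ[Λ] k)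
    (hρ : Function.Surjective ρ) :
    ∃ (P : CRing Λ k) (ι : Q →ₐ[Λ] P.carrier) (hι : P.res.comp ι = ρ),
      ∀ A : Art Λ k, Function.Bijective (fun φ : HomSet P.carrier P.res A => alongHom ι hι φ) := by
  let n : Ideal Q := RingHom.ker ρ
  haveI hn : n.IsMaximal := RingHom.ker_isMaximal_of_surjective (ρ : Q →+* k) hρ
  have hfg : n.FG := IsNoetherian.noetherian n
  letI : Field (Q ⧸ n) := Ideal.Quotient.field n
  haveI hnoeth : IsNoetherianRing (AdicCompletion n Q) :=
    Completion.NoetherianComplete.isNoetherianRing_adicCompletion n hfg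
  let nP : Ideal (AdicCompletion n Q) := n.map (algebraMap Q (AdicCompletion n Q))
  haveI hmax : nP.IsMaximal := AdicCompletion.isMaximal_map_of_le n n le_rfl hfg
  haveI hc : IsAdicComplete nP (AdicCompletion n Q) := AdicCompletion.isAdicComplete_self n hfg
  haveI hloc : IsLocalRing (AdicCompletion n Q) := isLocalRing_of_isAdicComplete_maximal nP
  have hmeq : IsLocalRing.maximalIdeal (AdicCompletion n Q) = nP := (IsLocalRing.eq_maximalIdeal hmax).symm
  let res : AdicCompletion n Q →ₐ[Λ] k :=
    (Ideal.Quotient.liftₐ n ρ fun _ h => h).comp ((AdicCompletion.evalOneₐ n).restrictScalars Λ)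
  let ι : Q →ₐ[Λ] AdicCompletion n Q := (Algebra.ofId Q (AdicCompletion n Q)).restrictScalars Λ
  have hres : ∀ q, res (ι q) = ρ q := fun q => rfl
  let P : CRing Λ k :=
    { carrier := AdicCompletion n Q
      res := res
      res_surjective := fun c => (hρ c).elim fun q hq => ⟨ι q, (hres q).trans hq⟩
      isAdicComplete := by rw [hmeq]; exact hc }
  refine ⟨P, ι, AlgHom.ext hres, fun A => ⟨fun φ ψ h => ?_, fun χ => ?_⟩⟩
  · obtain ⟨N, hN⟩ := exists_pow_eq_bot A
    refine homSet_ext fun x => ?_
    obtain ⟨q, hq⟩ := Ideal.Quotient.mk_surjective (AdicCompletion.evalₐ n N x)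
    have hd : x - ι q ∈ nP ^ N := by
      have h1 : AdicCompletion.evalₐ n N x = AdicCompletion.evalₐ n N (AdicCompletion.of n Q q) := by
        rw [AdicCompletion.evalₐ_of]; exact hq.symm
      have h2 : (AdicCompletion.eval n Q N) (x - AdicCompletion.of n Q q) = 0 := by
        rw [map_sub, sub_eq_zero, ← AdicCompletion.factor_evalₐ_eq_eval n x (by simp),
          ← AdicCompletion.factor_evalₐ_eq_eval n (AdicCompletion.of n Q q) (by simp), h1]
      have h3 : x - AdicCompletion.of n Q q ∈ n ^ N • (⊤ : Submodule Q (AdicCompletion n Q)) := by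
        rw [AdicCompletion.pow_smul_top_eq_ker_eval hfg]
        exact h2
      rw [Ideal.smul_top_eq_map, Ideal.map_pow] at h3
      exact h3
    have hkill : ∀ χ : HomSet P.carrier P.res A, χ.1 (x - ι q) = 0 := fun χ => by
      have h1 : (IsLocalRing.maximalIdeal P.carrier).map χ.1 ≤ IsLocalRing.maximalIdeal A := by
        refine Ideal.map_le_iff_le_comap.2 fun r hr => ?_
        rw [Ideal.mem_comap, A.mem_maximalIdeal_iff, ← AlgHom.comp_apply, χ.2, ← CRing.mem_maximalIdeal_iff]
        exact hr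
      have h2 : χ.1 (x - ι q) ∈ ((IsLocalRing.maximalIdeal P.carrier) ^ N).map χ.1 :=
        Ideal.mem_map_of_mem χ.1 (by rw [show IsLocalRing.maximalIdeal P.carrier = nP from hmeq]; exact hd)
      rw [Ideal.map_pow] at h2
      have h3 := Ideal.pow_right_mono h1 N h2
      rw [hN] at h3
      exact h3
    have e1 := hkill φ
    have e2 := hkill ψ
    rw [map_sub, sub_eq_zero] at e1 e2
    rw [e1, e2]
    exact AlgHom.congr_fun (congrArg Subtype.val h) q
  · obtain ⟨N, hN⟩ := exists_pow_eq_bot A
    have hk : ∀ q ∈ n ^ N, χ.1 q = 0 := fun q hq => by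
      have h1 : n.map χ.1 ≤ IsLocalRing.maximalIdeal A := by
        refine Ideal.map_le_iff_le_comap.2 fun r hr => ?_
        rw [Ideal.mem_comap, A.mem_maximalIdeal_iff, ← AlgHom.comp_apply, χ.2]
        exact hr
      have h2 := Ideal.mem_map_of_mem χ.1 hq
      rw [Ideal.map_pow] at h2
      have h3 := Ideal.pow_right_mono h1 N h2
      rw [hN] at h3
      exact h3
    let φ : AdicCompletion n Q →ₐ[Λ] A :=
      (Ideal.Quotient.liftₐ (n ^ N) χ.1 hk).comp ((AdicCompletion.evalₐ n N).restrictScalars Λ)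
    have hφ : ∀ q, φ (ι q) = χ.1 q := fun q => by
      change Ideal.Quotient.liftₐ (n ^ N) χ.1 hk (AdicCompletion.evalₐ n N (AdicCompletion.of n Q q)) = _
      rw [AdicCompletion.evalₐ_of]
      rfl
    refine ⟨⟨φ, AlgHom.ext fun x => ?_⟩, homSet_ext hφ⟩
    obtain ⟨q, hq⟩ : ∃ q, x - ι q ∈ nP := by
      obtain ⟨q, hq⟩ := Ideal.Quotient.mk_surjective (AdicCompletion.evalOneₐ n x)
      refine ⟨q, ?_⟩
      have : x - ι q ∈ RingHom.ker (AdicCompletion.evalOneₐ n).toRingHom := by
        rw [RingHom.mem_ker, map_sub, sub_eq_zero]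
        exact hq.symm
      rw [AdicCompletion.ker_evalOneₐ_eq_map n hfg] at this
      exact this
    have hle : nP.map φ ≤ IsLocalRing.maximalIdeal A := by
      rw [Ideal.map_le_iff_le_comap, Ideal.map_le_iff_le_comap]
      intro r hr
      change φ (ι r) ∈ IsLocalRing.maximalIdeal A
      rw [hφ, A.mem_maximalIdeal_iff, ← AlgHom.comp_apply, χ.2]
      exact hr
    have e1 : A.res (φ (x - ι q)) = 0 := (A.mem_maximalIdeal_iff _).1 (hle (Ideal.mem_map_of_mem φ hq))
    have e2 : P.res (x - ι q) = 0 := by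
      rw [← CRing.mem_maximalIdeal_iff, show IsLocalRing.maximalIdeal P.carrier = nP from hmeq]
      exact hq
    change A.res (φ x) = P.res x
    rw [map_sub, map_sub, sub_eq_zero, hφ] at e1
    rw [map_sub, sub_eq_zero] at e2
    rw [e1, e2]
    exact AlgHom.congr_fun χ.2 q

open MvPolynomial in
theorem aeval_add_smul {σ : Type} [Fintype σ] {B : Type*} [CommRing B] [Algebra Λ B] (c δ : σ → B) (t : B)
    (ht : t * t = 0) (g : MvPolynomial σ Λ) :
    aeval (fun i => c i + δ i * t) g = aeval c g + (∑ i, aeval c (pderiv i g) * δ i) * t := by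
  classical
  induction g using MvPolynomial.induction_on with
  | C a => simp
  | add p q hp hq =>
    simp only [map_add, hp, hq, add_mul, Finset.sum_add_distrib]
    ring
  | mul_X p j hp =>
    have hs : ∑ i, aeval c (pderiv i (p * X j)) * δ i =
        (∑ i, aeval c (pderiv i p) * δ i) * c j + aeval c p * δ j := by
      rw [Finset.sum_mul]
      simp only [pderiv_mul, map_add, map_mul, aeval_X, add_mul, Finset.sum_add_distrib]
      congr 1
      · exact Finset.sum_congr rfl fun i _ => by ring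
      · rw [Finset.sum_eq_single j (fun i _ hi => by rw [pderiv_X_of_ne (Ne.symm hi), map_zero, mul_zero, zero_mul])
          (fun h => absurd (Finset.mem_univ j) h), pderiv_X_self, map_one, mul_one]
    simp only [map_mul, aeval_X, hp, hs]
    linear_combination (∑ i, aeval c (pderiv i p) * δ i) * δ j * ht

/-- inclusion `k → k[ε]` values and the tangent datum of the free cover. -/
theorem exists_free [IsNoetherianRing Λ] [Module.Finite Λ k] (m : ℕ) :
    ∃ (P : CRing Λ k) (π : HomSet P.carrier P.res (sq Λ k (Fin m))),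
      IsSmoothFunctor (hR P.carrier P.res) ∧ Function.Surjective π.1 ∧
      ∀ φ : HomSet P.carrier P.res (dual Λ k),
        ∃ (σ : base Λ k ⟶ dual Λ k) (f : (Fin m → k) →ₗ[k] k) (l : HomSet P.carrier P.res (dual2 Λ k)),
          HomSet.map pr₁ l = HomSet.map σ (homSetBase P.carrier P.res) ∧
          HomSet.map pr₂ l = HomSet.map (toDual f) π ∧ HomSet.map plus l = φ := by
  classical
  obtain ⟨n, a, ha⟩ := Submodule.fg_iff_exists_fin_generating_family.1 (Module.Finite.fg_top : (⊤ : Submodule Λ k).FG)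
  let ρ₀ : MvPolynomial (Fin n) Λ →ₐ[Λ] k := MvPolynomial.aeval a
  have hρ₀ : Function.Surjective ρ₀ := by
    intro c
    have hc : c ∈ Submodule.span Λ (Set.range a) := ha ▸ Submodule.mem_top
    obtain ⟨l, rfl⟩ := (Submodule.mem_span_range_iff_exists_fun Λ).1 hc
    exact ⟨∑ i, l i • MvPolynomial.X i, by simp [ρ₀]⟩
  let D : MvPolynomial (Fin n) Λ → (Fin n → k) := fun g i => ρ₀ (MvPolynomial.pderiv i g)
  let T : Set (Fin n → k) := D '' {g | ρ₀ g = 0}
  obtain ⟨b, hbT, hbspan, hbli⟩ := exists_linearIndependent k T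
  haveI : Finite b := hbli.finite
  haveI : Fintype b := Fintype.ofFinite b
  choose g hg0 hgD using fun v : b => hbT v.2
  let σX := Fin n ⊕ Fin m
  let G : b → MvPolynomial σX Λ := fun v => MvPolynomial.rename Sum.inl (g v)
  let aX : σX → k := Sum.elim a 0
  let Q := MvPolynomial σX Λ ⧸ Ideal.span (Set.range G)
  let ρ : Q →ₐ[Λ] k := Ideal.Quotient.liftₐ _ (MvPolynomial.aeval aX) (by
    intro q hq
    refine (Ideal.span_le (I := RingHom.ker (MvPolynomial.aeval aX))).2 ?_ hq
    rintro _ ⟨v, rfl⟩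
    change MvPolynomial.aeval aX (MvPolynomial.rename Sum.inl (g v)) = 0
    rw [MvPolynomial.aeval_rename]
    exact hg0 v)
  have hρ : Function.Surjective ρ := fun c => by
    obtain ⟨q, rfl⟩ := hρ₀ c
    refine ⟨Ideal.Quotient.mk _ (MvPolynomial.rename Sum.inl q), ?_⟩
    change MvPolynomial.aeval aX (MvPolynomial.rename Sum.inl q) = _
    rw [MvPolynomial.aeval_rename]
    rfl
  obtain ⟨P, ι, hι, hP⟩ := exists_completion Q ρ hρ
  -- values on the variables
  let val : ∀ {A : Art Λ k}, HomSet P.carrier P.res A → σX → A :=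
    fun φ s => φ.1 (ι (Ideal.Quotient.mk _ (MvPolynomial.X s)))
  have hval : ∀ {A : Art Λ k} (φ : HomSet P.carrier P.res A) q,
      φ.1 (ι (Ideal.Quotient.mk _ q)) = MvPolynomial.aeval (val φ) q := fun {A} φ q =>
    AlgHom.congr_fun (MvPolynomial.aeval_unique (φ.1.comp (ι.comp (Ideal.Quotient.mkₐ Λ _)))) q
  have hvres : ∀ {A : Art Λ k} (φ : HomSet P.carrier P.res A) s, A.res (val φ s) = aX s := fun {A} φ s => by
    have h1 : A.res (val φ s) = P.res (ι (Ideal.Quotient.mk _ (MvPolynomial.X s))) := AlgHom.congr_fun φ.2 _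
    rw [h1, ← AlgHom.comp_apply, hι]
    exact MvPolynomial.aeval_X _ _
  have hvg : ∀ {A : Art Λ k} (φ : HomSet P.carrier P.res A) v,
      MvPolynomial.aeval (fun i => val φ (Sum.inl i)) (g v) = 0 := fun {A} φ v => by
    have h := hval φ (G v)
    have hz : Ideal.Quotient.mk (Ideal.span (Set.range G)) (G v) = 0 :=
      Ideal.Quotient.eq_zero_iff_mem.2 (Ideal.subset_span ⟨v, rfl⟩)
    rw [hz, map_zero, map_zero,
      MvPolynomial.aeval_rename] at h
    exact h.symm
  have hext : ∀ {A : Art Λ k} (φ ψ : HomSet P.carrier P.res A), (∀ s, val φ s = val ψ s) → φ = ψ :=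
    fun {A} φ ψ h => (hP A).1 (homSet_ext fun q => by
      obtain ⟨q, rfl⟩ := Ideal.Quotient.mk_surjective q
      change φ.1 (ι _) = ψ.1 (ι _)
      rw [hval, hval, funext h])
  have hmk : ∀ {A : Art Λ k} (c : σX → A), (∀ s, A.res (c s) = aX s) →
      (∀ v, MvPolynomial.aeval (fun i => c (Sum.inl i)) (g v) = 0) →
      ∃ φ : HomSet P.carrier P.res A, ∀ s, val φ s = c s := by
    intro A c hc hcg
    let χ : Q →ₐ[Λ] A := Ideal.Quotient.liftₐ _ (MvPolynomial.aeval c) (by
      intro q hq
      refine (Ideal.span_le (I := RingHom.ker (MvPolynomial.aeval c))).2 ?_ hq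
      rintro _ ⟨v, rfl⟩
      change MvPolynomial.aeval c (MvPolynomial.rename Sum.inl (g v)) = 0
      rw [MvPolynomial.aeval_rename]
      exact hcg v)
    have hχ : A.res.comp χ = ρ := Ideal.Quotient.algHom_ext Λ (MvPolynomial.algHom_ext fun s => by
      change A.res (MvPolynomial.aeval c (MvPolynomial.X s)) = MvPolynomial.aeval aX (MvPolynomial.X s)
      rw [MvPolynomial.aeval_X, MvPolynomial.aeval_X, hc])
    obtain ⟨φ, hφ⟩ := (hP A).2 ⟨χ, hχ⟩
    refine ⟨φ, fun s => ?_⟩
    have := AlgHom.congr_fun (congrArg Subtype.val hφ) (Ideal.Quotient.mk _ (MvPolynomial.X s))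
    exact this.trans (MvPolynomial.aeval_X c s)
  -- the projection to `k ⊕ k^m`
  let inlΛ : k →ₐ[Λ] TrivSqZeroExt k (Fin m → k) := (Algebra.ofId k _).restrictScalars Λ
  let cπ : σX → TrivSqZeroExt k (Fin m → k) := Sum.elim (fun i => inlΛ (a i))
    (fun j => (((0, Pi.single j 1)) : TrivSqZeroExt k (Fin m → k)))
  obtain ⟨π, hπ⟩ := hmk (A := sq Λ k (Fin m)) cπ (fun s => by
      cases s with
      | inl i => rfl
      | inr j => rfl) (fun v => by
      change MvPolynomial.aeval (fun i => inlΛ (a i)) (g v) = 0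
      rw [← MvPolynomial.comp_aeval_apply]
      exact (congrArg inlΛ (hg0 v)).trans (map_zero _))
  refine ⟨P, π, ?_, ?_, ?_⟩
  · -- smoothness
    refine fun B A μ hμ => surjective_induction (fun A B μ => Function.Surjective ((hR P.carrier P.res).map μ)) ?_ ?_ ?_ μ hμ
    · intro A B e he φ
      obtain ⟨i, -, hi⟩ := exists_inverse e ((isIso_iff e).1 he)
      exact ⟨HomSet.map i φ, (homSet_map_map i e φ).trans (by rw [hi]; exact homSet_ext fun _ => rfl)⟩
    · intro A B μ hμ φ
      obtain ⟨hμs, t, -, htm, ht⟩ := (isSmallExt_iff μ).1 hμ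
      have htk : μ t = 0 := (ht.ge (Ideal.mem_span_singleton_self t) : t ∈ RingHom.ker μ.toAlgHom)
      have htt : t * t = 0 := htm t (res_le_ker μ htk)
      choose c hc using fun s => hμs (val φ s)
      have hcres : ∀ s, B.res (c s) = aX s := fun s => by rw [← res_app μ, hc, hvres]
      have he : ∀ v, ∃ u : B, u * t = MvPolynomial.aeval (fun i => c (Sum.inl i)) (g v) := fun v => by
        refine Ideal.mem_span_singleton'.1 (ht.le ?_)
        change μ.toAlgHom (MvPolynomial.aeval (fun i => c (Sum.inl i)) (g v)) = 0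
        rw [MvPolynomial.comp_aeval_apply]
        simp only [hc]
        exact hvg φ v
      choose u hu using he
      obtain ⟨L, hL⟩ := LinearMap.exists_extend ((Module.Basis.span hbli).constr k fun v => -B.res (u v))
      have hLv : ∀ v : b, L (v : Fin n → k) = -B.res (u v) := fun v => by
        have h := LinearMap.congr_fun hL (Module.Basis.span hbli v)
        rw [Module.Basis.constr_basis, LinearMap.comp_apply, Submodule.subtype_apply, Module.Basis.span_apply] at h
        exact h
      choose δ hδ using fun i : Fin n => B.res_surjective (L (Pi.single i 1))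
      let c' : σX → B := Sum.elim (fun i => c (Sum.inl i) + δ i * t) (fun j => c (Sum.inr j))
      have hc' : ∀ s, μ (c' s) = val φ s := fun s => by
        cases s with
        | inl i =>
          change μ (c (Sum.inl i) + δ i * t) = _
          rw [map_add, map_mul, htk, mul_zero, add_zero, hc]
        | inr j => exact hc _
      obtain ⟨ψ, hψ⟩ := hmk c' (fun s => by rw [← res_app μ, hc', hvres]) (fun v => by
        change MvPolynomial.aeval (fun i => c (Sum.inl i) + δ i * t) (g v) = 0
        rw [aeval_add_smul _ _ _ htt, ← hu, ← add_mul]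
        refine htm _ ((B.mem_maximalIdeal_iff _).2 ?_)
        rw [map_add, map_sum, show (∑ i, B.res (MvPolynomial.aeval (fun i => c (Sum.inl i))
          (MvPolynomial.pderiv i (g v)) * δ i)) = L (v : Fin n → k) from ?_, hLv, add_neg_cancel]
        conv_rhs => rw [← hgD v, pi_eq_sum_univ' (D (g v)), map_sum]
        refine Finset.sum_congr rfl fun i _ => ?_
        rw [map_mul, MvPolynomial.comp_aeval_apply, hδ, map_smul, smul_eq_mul]
        simp only [hcres]
        rfl)
      refine ⟨ψ, hext (HomSet.map μ ψ) φ fun s => ?_⟩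
      change μ (val ψ s) = _
      rw [hψ, hc']
    · intro A B C p q hp hq φ
      obtain ⟨ψ, rfl⟩ := hq φ
      obtain ⟨χ, rfl⟩ := hp ψ
      exact ⟨χ, rfl⟩
  · -- surjectivity of `π`
    intro x
    revert x
    suffices ∀ x : TrivSqZeroExt k (Fin m → k), x ∈ (π.1.range : Subalgebra Λ (TrivSqZeroExt k (Fin m → k))) from this
    intro x
    let S : Subalgebra Λ (TrivSqZeroExt k (Fin m → k)) := π.1.range
    have hinl : ∀ c : k, inlΛ c ∈ S := fun c => by
      obtain ⟨q, rfl⟩ := hρ₀ c
      refine ⟨ι (Ideal.Quotient.mk _ (MvPolynomial.rename Sum.inl q)), ?_⟩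
      change π.1 _ = _
      rw [hval, MvPolynomial.aeval_rename]
      simp only [Function.comp_def, hπ]
      exact (MvPolynomial.comp_aeval_apply (f := a) inlΛ q).symm
    have he : ∀ j, cπ (Sum.inr j) ∈ S := fun j => ⟨_, hπ (Sum.inr j)⟩
    have hx : x = inlΛ (TrivSqZeroExt.fst x) + ∑ j, inlΛ (TrivSqZeroExt.snd x j) * cπ (Sum.inr j) := by
      refine TrivSqZeroExt.ext ?_ ?_
      · rw [TrivSqZeroExt.fst_add, TrivSqZeroExt.fst_sum]
        simp only [TrivSqZeroExt.fst_mul]
        change _ = TrivSqZeroExt.fst x + ∑ _j : Fin m, _ * (0 : k)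
        simp
      · rw [TrivSqZeroExt.snd_add, TrivSqZeroExt.snd_sum]
        simp only [TrivSqZeroExt.snd_mul]
        change _ = (0 : Fin m → k) + ∑ j : Fin m, (x.snd j • Pi.single j (1 : k) + MulOpposite.op (0 : k) • _)
        simp only [MulOpposite.op_zero, zero_smul, add_zero, zero_add]
        exact pi_eq_sum_univ' _
    rw [hx]
    exact S.add_mem (hinl _) (S.sum_mem fun j _ => S.mul_mem (hinl _) (he j))
  · -- the tangent space
    intro φ
    let δ : σX → k := fun s => TrivSqZeroExt.snd (val φ s : DualNumber k)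
    let inlD : k →ₐ[Λ] DualNumber k := (Algebra.ofId k _).restrictScalars Λ
    let eps : DualNumber k := DualNumber.eps
    let cx : Fin n → DualNumber k := fun i => inlD (a i) + inlD (δ (Sum.inl i)) * eps
    have hlin : ∀ q, (MvPolynomial.aeval cx q) = inlD (ρ₀ q) +
        inlD (∑ i, D q i * δ (Sum.inl i)) * eps := fun q => by
      rw [aeval_add_smul _ _ _ DualNumber.eps_mul_eps, ← MvPolynomial.comp_aeval_apply, map_sum]
      congr 2
      exact Finset.sum_congr rfl fun i _ => by rw [← MvPolynomial.comp_aeval_apply, map_mul]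
    have hcx : (fun i => val φ (Sum.inl i)) = cx := funext fun i => by
      refine TrivSqZeroExt.ext ((hvres φ (Sum.inl i)).trans ?_) ?_
      · change a i = TrivSqZeroExt.fst (cx i)
        simp [cx, inlD, eps, Algebra.ofId_apply, TrivSqZeroExt.algebraMap_eq_inl]
      · change δ (Sum.inl i) = TrivSqZeroExt.snd (cx i)
        simp [cx, inlD, eps, Algebra.ofId_apply, TrivSqZeroExt.algebraMap_eq_inl]
    let Lδ : (Fin n → k) →ₗ[k] k := ∑ i, δ (Sum.inl i) • LinearMap.proj i
    have hLδ : ∀ w, Lδ w = ∑ i, w i * δ (Sum.inl i) := fun w => by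
      simp [Lδ, mul_comm]
    have hK : ∀ q, ρ₀ q = 0 → MvPolynomial.aeval cx q = 0 := by
      intro q hq
      have hb0 : ∀ v : b, Lδ (v : Fin n → k) = 0 := fun v => by
        have h0 := hvg φ v
        rw [hcx] at h0
        have h := (hlin (g v)).symm.trans h0
        rw [show ρ₀ (g v) = 0 from hg0 v, map_zero, zero_add] at h
        have h' := congrArg TrivSqZeroExt.snd h
        simp [inlD, eps, Algebra.ofId_apply, TrivSqZeroExt.algebraMap_eq_inl] at h'
        rw [hLδ, ← hgD v]
        simpa [TrivSqZeroExt.fst_sum] using h'.trans (TrivSqZeroExt.snd_zero (R := k) (M := k))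
      have : Lδ (D q) = 0 := by
        have hmem : D q ∈ Submodule.span k b := hbspan.symm ▸ Submodule.subset_span ⟨q, hq, rfl⟩
        exact (Submodule.span_le (p := LinearMap.ker Lδ)).2 (fun v hv => hb0 ⟨v, hv⟩) hmem
      rw [hlin, hq, ← hLδ, this, map_zero, zero_mul, add_zero]
    let σ₀ : k →ₐ[Λ] DualNumber k := (Ideal.Quotient.liftₐ (RingHom.ker ρ₀) (MvPolynomial.aeval cx) hK).comp
      (Ideal.quotientKerAlgEquivOfSurjective hρ₀).symm.toAlgHom
    have hσ₀ : ∀ q, σ₀ (ρ₀ q) = MvPolynomial.aeval cx q := fun q => by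
      change Ideal.Quotient.liftₐ _ _ hK ((Ideal.quotientKerAlgEquivOfSurjective hρ₀).symm
        (Ideal.quotientKerAlgEquivOfSurjective hρ₀ (Ideal.Quotient.mk _ q))) = _
      rw [AlgEquiv.symm_apply_apply]
      rfl
    let σ : base Λ k ⟶ dual Λ k := Art.homMk (A := base Λ k) (B := dual Λ k) σ₀ (AlgHom.ext fun c => by
      obtain ⟨q, rfl⟩ := hρ₀ c
      change TrivSqZeroExt.fst (σ₀ (ρ₀ q)) = ρ₀ q
      rw [hσ₀, hlin]
      simp [inlD, eps, Algebra.ofId_apply, TrivSqZeroExt.algebraMap_eq_inl])
    let f : (Fin m → k) →ₗ[k] k := ∑ j, δ (Sum.inr j) • LinearMap.proj j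
    obtain ⟨l, hl₁, hl₂⟩ := homSet_lift isFibreProd_dual2 (HomSet.map σ (homSetBase P.carrier P.res))
      (HomSet.map (toDual f) π) (Subtype.ext ((homSet_base _).trans (homSet_base _).symm))
    refine ⟨σ, f, l, hl₁, hl₂, hext _ _ fun s => ?_⟩
    have h1 : (pr₁ (val l s) : DualNumber k) = σ₀ (aX s) := by
      refine (congrArg (fun x : HomSet P.carrier P.res (dual Λ k) => val x s) hl₁).trans ?_
      exact congrArg σ₀ (hvres (homSetBase P.carrier P.res) s)
    have h2 : (pr₂ (val l s) : DualNumber k) = toDual f (cπ s) := by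
      refine (congrArg (fun x : HomSet P.carrier P.res (dual Λ k) => val x s) hl₂).trans ?_
      exact congrArg (toDual f) (hπ s)
    refine TrivSqZeroExt.ext ?_ ?_
    · exact (hvres (HomSet.map plus l) s).trans (hvres φ s).symm
    · change (val l s : TrivSqZeroExt k (k × k)).snd.1 + (val l s : TrivSqZeroExt k (k × k)).snd.2 = δ s
      rw [show (val l s : TrivSqZeroExt k (k × k)).snd.1 = TrivSqZeroExt.snd (σ₀ (aX s)) from
          congrArg TrivSqZeroExt.snd h1,
        show (val l s : TrivSqZeroExt k (k × k)).snd.2 = f (TrivSqZeroExt.snd (cπ s)) from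
          congrArg TrivSqZeroExt.snd h2]
      cases s with
      | inl i =>
        have e : σ₀ (a i) = cx i := by
          rw [← MvPolynomial.aeval_X (R := Λ) a i]
          exact (hσ₀ _).trans (MvPolynomial.aeval_X _ _)
        change TrivSqZeroExt.snd (σ₀ (a i)) + f (TrivSqZeroExt.snd (inlΛ (a i))) = _
        rw [e]
        simp [cx, inlD, inlΛ, eps, Algebra.ofId_apply, TrivSqZeroExt.algebraMap_eq_inl]
      | inr j =>
        change TrivSqZeroExt.snd (σ₀ 0) + f (Pi.single j 1) = _
        rw [map_zero, TrivSqZeroExt.snd_zero, zero_add]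
        simp [f, Pi.single_apply]

end Groth.Agent.Misc9.SF
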