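import Groth.Agent.Misc9.SF.Torsor
import Groth.Agent.Misc9.SF.Free
import Groth.Agent.Adic.FiniteModule

/-! Schlessinger's theorem: versal families, hulls, pro-representability. -/

universe u v

set_option synthInstance.maxHeartbeats 20000
set_option maxHeartbeats 400000

open CategoryTheory

namespace Groth.Agent.Misc9.SF

open ArtFun ArtFun.Art

variable {Λ k : Type u} [CommRing Λ] [Field k] [Algebra Λ k]

/-! ### Quotients of coefficient rings -/

section Quot

variable (P : CRing Λ k)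

theorem res_eq_zero_of_le {J : Ideal P.carrier} (hJ : J ≤ IsLocalRing.maximalIdeal P.carrier) :
    ∀ a ∈ J, P.res a = 0 := fun a ha => (CRing.mem_maximalIdeal_iff P a).1 (hJ ha)

theorem nontrivial_quot {J : Ideal P.carrier} (hJ : J ≤ IsLocalRing.maximalIdeal P.carrier) :
    Nontrivial (P.carrier ⧸ J) :=
  Ideal.Quotient.nontrivial_iff.2 fun h => (IsLocalRing.maximalIdeal.isMaximal P.carrier).ne_top (top_le_iff.1 (h ▸ hJ))

/-- `P/J` as an Artinian object. -/
noncomputable def cut (J : Ideal P.carrier) (hJ : J ≤ IsLocalRing.maximalIdeal P.carrier)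
    (hN : ∃ N, CRing.mpow P N ≤ J) : Art Λ k :=
  haveI := nontrivial_quot P hJ
  { carrier := P.carrier ⧸ J
    isLocalRing := IsLocalRing.of_surjective' (Ideal.Quotient.mk J) Ideal.Quotient.mk_surjective
    isArtinianRing := by
      obtain ⟨N, hN⟩ := hN
      haveI := CRing.isArtinianRing_quot_mpow P N
      exact (Ideal.Quotient.factor_surjective hN).isArtinianRing
    res := Ideal.Quotient.liftₐ J P.res (res_eq_zero_of_le P hJ)
    res_surjective := fun c => (P.res_surjective c).elim fun a ha => ⟨Ideal.Quotient.mk J a, ha⟩ }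

/-- `P → P/J`. -/
noncomputable def cutHom (J : Ideal P.carrier) (hJ : J ≤ IsLocalRing.maximalIdeal P.carrier)
    (hN : ∃ N, CRing.mpow P N ≤ J) : HomSet P.carrier P.res (cut P J hJ hN) :=
  ⟨Ideal.Quotient.mkₐ Λ J, Ideal.Quotient.liftₐ_comp _ _ _⟩

variable {P}

/-- factorisation through `P/J`. -/
noncomputable def cutLift {J : Ideal P.carrier} (hJ : J ≤ IsLocalRing.maximalIdeal P.carrier)
    (hN : ∃ N, CRing.mpow P N ≤ J) {A : Art Λ k} (φ : HomSet P.carrier P.res A) (h : ∀ a ∈ J, φ.1 a = 0) :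
    cut P J hJ hN ⟶ A :=
  ⟨Ideal.Quotient.liftₐ J φ.1 h, AlgHom.ext fun x => by
    obtain ⟨a, rfl⟩ := Ideal.Quotient.mk_surjective x
    exact AlgHom.congr_fun φ.2 a⟩

theorem map_cutLift {J : Ideal P.carrier} (hJ : J ≤ IsLocalRing.maximalIdeal P.carrier)
    (hN : ∃ N, CRing.mpow P N ≤ J) {A : Art Λ k} (φ : HomSet P.carrier P.res A) (h : ∀ a ∈ J, φ.1 a = 0) :
    HomSet.map (cutLift hJ hN φ h) (cutHom P J hJ hN) = φ :=
  homSet_ext fun _ => rfl

theorem cut_hom_ext {J : Ideal P.carrier} {hJ : J ≤ IsLocalRing.maximalIdeal P.carrier}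
    {hN : ∃ N, CRing.mpow P N ≤ J} {A : Art Λ k} {g g' : cut P J hJ hN ⟶ A}
    (h : HomSet.map g (cutHom P J hJ hN) = HomSet.map g' (cutHom P J hJ hN)) : g = g' :=
  hom_ext' fun x => by
    obtain ⟨a, rfl⟩ := Ideal.Quotient.mk_surjective x
    exact AlgHom.congr_fun (congrArg Subtype.val h) a

theorem cutHom_eq_zero {J : Ideal P.carrier} (hJ : J ≤ IsLocalRing.maximalIdeal P.carrier)
    (hN : ∃ N, CRing.mpow P N ≤ J) {J' : Ideal P.carrier} (h : J' ≤ J) :
    ∀ a ∈ J', (cutHom P J hJ hN).1 a = 0 :=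
  fun a ha => (Ideal.Quotient.eq_zero_iff_mem.2 (h ha) : Ideal.Quotient.mk J a = 0)

/-- `P/J → P/J'`. -/
noncomputable def cutTo {J J' : Ideal P.carrier} {hJ : J ≤ IsLocalRing.maximalIdeal P.carrier}
    {hN : ∃ N, CRing.mpow P N ≤ J} {hJ' : J' ≤ IsLocalRing.maximalIdeal P.carrier}
    {hN' : ∃ N, CRing.mpow P N ≤ J'} (h : J ≤ J') : cut P J hJ hN ⟶ cut P J' hJ' hN' :=
  cutLift hJ hN (cutHom P J' hJ' hN') (cutHom_eq_zero hJ' hN' h)

variable (P)

/-- `P/I` as a coefficient ring. -/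
noncomputable def quotRing (I : Ideal P.carrier) (hI : I ≤ IsLocalRing.maximalIdeal P.carrier) : CRing Λ k :=
  haveI := nontrivial_quot P hI
  haveI : IsLocalRing (P.carrier ⧸ I) :=
    IsLocalRing.of_surjective' (Ideal.Quotient.mk I) Ideal.Quotient.mk_surjective
  { carrier := P.carrier ⧸ I
    res := Ideal.Quotient.liftₐ I P.res (res_eq_zero_of_le P hI)
    res_surjective := fun c => (P.res_surjective c).elim fun a ha => ⟨Ideal.Quotient.mk I a, ha⟩
    isAdicComplete := by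
      have hm : IsLocalRing.maximalIdeal (P.carrier ⧸ I) =
          (IsLocalRing.maximalIdeal P.carrier).map (algebraMap P.carrier (P.carrier ⧸ I)) := by
        refine le_antisymm (fun x hx => ?_) (Ideal.map_le_iff_le_comap.2 fun a ha => ?_)
        · obtain ⟨a, rfl⟩ := Ideal.Quotient.mk_surjective x
          refine Ideal.mem_map_of_mem _ ?_
          rw [IsLocalRing.mem_maximalIdeal] at hx ⊢
          exact fun hu => hx (hu.map (Ideal.Quotient.mk I))
        · rw [Ideal.mem_comap, IsLocalRing.mem_maximalIdeal]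
          intro hu
          obtain ⟨u, hu⟩ := Ideal.Quotient.mk_surjective (↑hu.unit⁻¹ : P.carrier ⧸ I)
          have h1 : Ideal.Quotient.mk I (a * u) = Ideal.Quotient.mk I 1 := by
            rw [map_mul, hu, map_one]; exact IsUnit.mul_val_inv _
          have h2 := sub_mem (Ideal.mul_mem_right u _ ha) (hI (Ideal.Quotient.eq.1 h1))
          rw [sub_sub_cancel] at h2
          exact (IsLocalRing.maximalIdeal.isMaximal P.carrier).ne_top ((Ideal.eq_top_iff_one _).2 h2)
      rw [hm]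
      exact (IsAdicComplete.map_algebraMap_iff _ _).2 Adic.FiniteModule.isAdicComplete_of_finite }

/-- `P → P/I`. -/
noncomputable def quotRingHom (I : Ideal P.carrier) (hI : I ≤ IsLocalRing.maximalIdeal P.carrier) :
    P.carrier →ₐ[Λ] (quotRing P I hI).carrier := Ideal.Quotient.mkₐ Λ I

theorem quotRingHom_res (I : Ideal P.carrier) (hI : I ≤ IsLocalRing.maximalIdeal P.carrier) :
    (quotRing P I hI).res.comp (quotRingHom P I hI) = P.res := Ideal.Quotient.liftₐ_comp _ _ _

/-- descend to `P/I`. -/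
noncomputable def quotRingLift {I : Ideal P.carrier} (hI : I ≤ IsLocalRing.maximalIdeal P.carrier) {A : Art Λ k}
    (φ : HomSet P.carrier P.res A) (h : ∀ a ∈ I, φ.1 a = 0) :
    HomSet (quotRing P I hI).carrier (quotRing P I hI).res A :=
  ⟨Ideal.Quotient.liftₐ I φ.1 h, AlgHom.ext fun x => by
    obtain ⟨a, rfl⟩ := Ideal.Quotient.mk_surjective x
    exact AlgHom.congr_fun φ.2 a⟩

/-- Chevalley's lemma for a chain of open ideals. -/
theorem chevalley (J : ℕ → Ideal P.carrier) (hJ : Antitone J) (hN : ∀ q, ∃ N, CRing.mpow P N ≤ J q) (n : ℕ) :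
    ∃ q, J q ≤ (⨅ i, J i) ⊔ CRing.mpow P n := by
  have stab : ∀ n, ∃ Q, ∀ q, Q ≤ q → J Q ⊔ CRing.mpow P n ≤ J q ⊔ CRing.mpow P n := fun n => by
    haveI := CRing.isArtinianRing_quot_mpow P n
    let f : ℕ →o (Submodule (P.carrier ⧸ CRing.mpow P n) (P.carrier ⧸ CRing.mpow P n))ᵒᵈ :=
      ⟨fun q => OrderDual.toDual ((J q).map (Ideal.Quotient.mk (CRing.mpow P n))),
        fun a b h => Ideal.map_mono (hJ h)⟩
    obtain ⟨Q, hQ⟩ := IsArtinian.monotone_stabilizes f
    refine ⟨Q, fun q hq => ?_⟩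
    have h : (J Q).map (Ideal.Quotient.mk (CRing.mpow P n)) = (J q).map (Ideal.Quotient.mk (CRing.mpow P n)) := hQ q hq
    have h' := congrArg (Ideal.comap (Ideal.Quotient.mk (CRing.mpow P n))) h
    rw [Ideal.comap_map_of_surjective _ Ideal.Quotient.mk_surjective,
      Ideal.comap_map_of_surjective _ Ideal.Quotient.mk_surjective, ← RingHom.ker_eq_comap_bot, Ideal.mk_ker] at h'
    exact h'.le
  choose Q hQ using stab
  have hbar : ∀ n q, J (Q n) ⊔ CRing.mpow P n ≤ J q ⊔ CRing.mpow P n := fun n q => by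
    rcases le_total (Q n) q with h | h
    · exact hQ n q h
    · exact sup_le_sup_right (hJ h) _
  have step : ∀ n, ∀ z ∈ J (Q n) ⊔ CRing.mpow P n, ∃ z' ∈ J (Q (n + 1)) ⊔ CRing.mpow P (n + 1),
      z' - z ∈ CRing.mpow P n := fun n z hz => by
    obtain ⟨j, hj, a, ha, rfl⟩ := Submodule.mem_sup.1 (hbar n (max (Q n) (Q (n + 1))) hz)
    exact ⟨j, Ideal.mem_sup_left (hJ (le_max_right _ _) hj), by rw [sub_add_cancel_left]; exact neg_mem ha⟩
  refine ⟨Q n, fun z hz => ?_⟩
  choose! next hnext hnext' using step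
  let s : ℕ → P.carrier := fun i => Nat.rec z (fun i w => next (n + i) w) i
  have hs : ∀ i, s i ∈ J (Q (n + i)) ⊔ CRing.mpow P (n + i) := by
    intro i
    induction i with
    | zero => exact Ideal.mem_sup_left hz
    | succ i ih => exact hnext _ _ ih
  have hd : ∀ a b, a ≤ b → s b - s a ∈ CRing.mpow P (n + a) := by
    intro a b h
    induction h with
    | refl => rw [sub_self]; exact zero_mem _
    | @step b h ih =>
      rw [show s (b + 1) - s a = (next (n + b) (s b) - s b) + (s b - s a) by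
        rw [sub_add_sub_cancel]]
      exact add_mem (Ideal.pow_le_pow_right (by have h' : a ≤ b := h; omega) (hnext' _ _ (hs b))) ih
  obtain ⟨L, hL⟩ := IsPrecomplete.prec' (I := IsLocalRing.maximalIdeal P.carrier) s (fun {a b} h => by
    rw [SModEq.sub_mem, smul_eq_mul, Ideal.mul_top, ← neg_sub]
    exact neg_mem (Ideal.pow_le_pow_right (by omega) (hd a b h)))
  have hL' : ∀ i, L - s i ∈ IsLocalRing.maximalIdeal P.carrier ^ i := fun i => by
    have h := hL i
    rw [SModEq.sub_mem, smul_eq_mul, Ideal.mul_top] at h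
    rw [← neg_sub]
    exact neg_mem h
  have hLJ : L ∈ ⨅ i, J i := by
    rw [Submodule.mem_iInf]
    intro q
    obtain ⟨N, hN⟩ := hN q
    rw [show L = (L - s (N + 1)) + s (N + 1) by rw [sub_add_cancel]]
    refine add_mem (hN (hL' (N + 1))) ?_
    have h1 := hbar (n + (N + 1)) q (hs (N + 1))
    exact (sup_le le_rfl ((Ideal.pow_le_pow_right (by omega)).trans hN)) h1
  rw [show z = L + ((s (n + 1) - L) + (z - s (n + 1))) by ring]
  refine Submodule.add_mem_sup hLJ (add_mem ?_ ?_)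
  · rw [← neg_sub]; exact neg_mem (hL' (n + 1))
  · rw [← neg_sub]; exact neg_mem (hd 0 (n + 1) (Nat.zero_le _))

end Quot

/-! ### The tower -/

section Tower

variable {F : Art Λ k ⥤ Type v} {P : CRing Λ k}

/-- a stage of the construction. -/
structure Stage (F : Art Λ k ⥤ Type v) (P : CRing Λ k) where
  /-- the ideal -/
  J : Ideal P.carrier
  le : J ≤ IsLocalRing.maximalIdeal P.carrier
  pow : ∃ N, CRing.mpow P N ≤ J
  /-- the element -/
  elt : F.obj (cut P J le pow)

theorem exists_next (h1 : S1 F) (S : Stage F P) :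
    ∃ S' : Stage F P, ∃ h : S'.J ≤ S.J, F.map (cutTo h) S'.elt = S.elt ∧
      IsLocalRing.maximalIdeal P.carrier * S.J ≤ S'.J ∧ ∀ (K : Ideal P.carrier) (hK : K ≤ IsLocalRing.maximalIdeal P.carrier) (hN : ∃ N, CRing.mpow P N ≤ K)
        (hKJ : K ≤ S.J), IsLocalRing.maximalIdeal P.carrier * S.J ≤ K →
        (∃ y : F.obj (cut P K hK hN), F.map (cutTo hKJ) y = S.elt) → S'.J ≤ K := by
  let M := IsLocalRing.maximalIdeal P.carrier * S.J
  have hMJ : M ≤ S.J := Ideal.mul_le_right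
  have hpowM : ∃ N, CRing.mpow P N ≤ M := by
    obtain ⟨N, hN⟩ := S.pow
    refine ⟨N + 1, ?_⟩
    rw [CRing.mpow, pow_succ']
    exact Ideal.mul_mono le_rfl hN
  have hpow : ∀ K, M ≤ K → ∃ N, CRing.mpow P N ≤ K := fun K h => hpowM.imp fun N hN => hN.trans h
  let ok : Ideal P.carrier → Prop := fun K => ∃ (hMK : M ≤ K) (hKJ : K ≤ S.J)
    (y : F.obj (cut P K (hKJ.trans S.le) (hpow K hMK))), F.map (cutTo hKJ) y = S.elt
  have hinf : ∀ J K, ok J → ok K → ok (J ⊓ K) := by
    rintro J K ⟨hMJ', hJ, y, hy⟩ ⟨hMK, hK, z, hz⟩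
    obtain ⟨K', hK', hmax⟩ := set_has_maximal_iff_noetherian.2 (inferInstance : IsNoetherianRing P.carrier)
      {L : Ideal P.carrier | K ≤ L ∧ L ≤ S.J ∧ J ⊓ L = J ⊓ K} ⟨K, le_rfl, hK, rfl⟩
    obtain ⟨hKK', hK'I, hJK'⟩ := hK'
    have hkill : ∀ a ∈ IsLocalRing.maximalIdeal P.carrier, ∀ t ∈ S.J, a * t ∈ M := fun a ha t ht =>
      Ideal.mul_mem_mul ha ht
    have hsum : S.J ≤ J ⊔ K' := by
      intro t ht
      by_contra htn
      have hlt : K' < K' ⊔ Ideal.span {t} := lt_of_le_of_ne le_sup_left fun e => htn (Ideal.mem_sup_right (by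
        rw [e]; exact Ideal.mem_sup_right (Ideal.mem_span_singleton_self t)))
      refine hmax (K' ⊔ Ideal.span {t}) ⟨hKK'.trans le_sup_left, sup_le hK'I ((Ideal.span_singleton_le_iff_mem _).2 ht),
        le_antisymm ?_ (inf_le_inf_left _ (hKK'.trans le_sup_left))⟩ hlt
      rintro w ⟨hwJ, hw⟩
      obtain ⟨k', hk', c', hc', rfl⟩ := Submodule.mem_sup.1 hw
      obtain ⟨c, rfl⟩ := Ideal.mem_span_singleton'.1 hc'
      by_cases hc : c ∈ IsLocalRing.maximalIdeal P.carrier
      · have h1 := hkill c hc t ht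
        refine hJK'.le ⟨hwJ, K'.add_mem hk' (hKK' (hMK h1))⟩
      · obtain ⟨u, hu⟩ := IsLocalRing.notMem_maximalIdeal.1 hc
        refine (htn ?_).elim
        rw [show t = (↑u⁻¹ : P.carrier) * (k' + c * t) - (↑u⁻¹ : P.carrier) * k' by
          rw [← mul_sub, add_sub_cancel_left, ← mul_assoc, ← hu, Units.inv_mul, one_mul]]
        exact Ideal.sub_mem _ (Ideal.mem_sup_left (Ideal.mul_mem_left _ _ hwJ))
          (Ideal.mem_sup_right (Ideal.mul_mem_left _ _ hk'))
    have hMI : M ≤ J ⊓ K := le_inf hMJ' hMK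
    have hII : J ⊓ K ≤ S.J := inf_le_left.trans hJ
    let p₁ : cut P (J ⊓ K) (hII.trans S.le) (hpow _ hMI) ⟶ cut P J (hJ.trans S.le) (hpow _ hMJ') := cutTo inf_le_left
    let p₂ : cut P (J ⊓ K) (hII.trans S.le) (hpow _ hMI) ⟶ cut P K' (hK'I.trans S.le) (hpow _ (hMK.trans hKK')) :=
      cutTo (inf_le_right.trans hKK')
    let f₁ : cut P J (hJ.trans S.le) (hpow _ hMJ') ⟶ cut P S.J S.le S.pow := cutTo hJ
    let f₂ : cut P K' (hK'I.trans S.le) (hpow _ (hMK.trans hKK')) ⟶ cut P S.J S.le S.pow := cutTo hK'I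
    have h : IsFibreProd p₁ p₂ f₁ f₂ := by
      refine ⟨cut_hom_ext (homSet_ext fun _ => rfl), fun a b e e' => ?_, fun a b e => ?_⟩
      · obtain ⟨a, rfl⟩ := Ideal.Quotient.mk_surjective a
        obtain ⟨b, rfl⟩ := Ideal.Quotient.mk_surjective b
        exact Ideal.Quotient.eq.2 (hJK'.le ⟨Ideal.Quotient.eq.1 e, Ideal.Quotient.eq.1 e'⟩)
      · obtain ⟨a, rfl⟩ := Ideal.Quotient.mk_surjective a
        obtain ⟨b, rfl⟩ := Ideal.Quotient.mk_surjective b
        have hd : b - a ∈ S.J := Ideal.Quotient.eq.1 e.symm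
        obtain ⟨j, hj, k', hk', hjk⟩ := Submodule.mem_sup.1 (hsum hd)
        refine ⟨Ideal.Quotient.mk _ (a + j), ?_, ?_⟩
        · change Ideal.Quotient.mk J (a + j) = Ideal.Quotient.mk J a
          rw [map_add, Ideal.Quotient.eq_zero_iff_mem.2 hj, add_zero]
        · change Ideal.Quotient.mk K' (a + j) = Ideal.Quotient.mk K' b
          refine Ideal.Quotient.eq.2 ?_
          rw [show a + j - b = -k' by linear_combination hjk]
          exact K'.neg_mem hk'
    have hsurj : Function.Surjective f₂ := fun a => by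
      obtain ⟨a, rfl⟩ := Ideal.Quotient.mk_surjective a
      exact ⟨Ideal.Quotient.mk K' a, rfl⟩
    let r : cut P K (hK.trans S.le) (hpow _ hMK) ⟶ cut P K' (hK'I.trans S.le) (hpow _ (hMK.trans hKK')) := cutTo hKK'
    obtain ⟨w, hw, -⟩ := cmp_surj (h1 p₁ p₂ f₁ f₂ h hsurj) (x := y) (y := F.map r z) (by
      rw [map_map, show r ≫ f₂ = cutTo hK from cut_hom_ext (homSet_ext fun _ => rfl)]
      exact hy.trans hz.symm)
    refine ⟨hMI, hII, w, ?_⟩
    rw [← hy, ← hw, map_map]
    exact congrArg (fun g => F.map g w) (cut_hom_ext (homSet_ext fun _ => rfl))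
  have htop : ok S.J := ⟨hMJ, le_rfl, S.elt, by
    rw [show cutTo (le_refl S.J) = 𝟙 _ from cut_hom_ext (homSet_ext fun _ => rfl), map_id']⟩
  haveI : IsArtinianRing (P.carrier ⧸ M) := (cut P M (hMJ.trans S.le) hpowM).isArtinianRing
  have hcm : ∀ K, M ≤ K → (K.map (Ideal.Quotient.mk M)).comap (Ideal.Quotient.mk M) = K := fun K hK => by
    rw [Ideal.comap_map_of_surjective _ Ideal.Quotient.mk_surjective, ← RingHom.ker_eq_comap_bot, Ideal.mk_ker,
      sup_eq_left.2 hK]
  obtain ⟨I₀, hI₀, hmin⟩ := IsArtinian.set_has_minimal {I : Ideal (P.carrier ⧸ M) | ok (Ideal.comap (Ideal.Quotient.mk M) I)}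
    ⟨S.J.map (Ideal.Quotient.mk M), by rw [Set.mem_setOf_eq, hcm _ hMJ]; exact htop⟩
  obtain ⟨hM₀, h₀J, y₀, hy₀⟩ := hI₀
  refine ⟨⟨(Ideal.comap (Ideal.Quotient.mk M) I₀), h₀J.trans S.le, hpow (Ideal.comap (Ideal.Quotient.mk M) I₀) hM₀, y₀⟩, h₀J, hy₀, hM₀, fun K hK hN hKJ hMK ⟨y, hy⟩ => ?_⟩
  have h2 : ok (Ideal.comap (Ideal.Quotient.mk M) I₀ ⊓ K) := hinf _ _ ⟨hM₀, h₀J, y₀, hy₀⟩ ⟨hMK, hKJ, y, hy⟩
  have h3 : M ≤ Ideal.comap (Ideal.Quotient.mk M) I₀ ⊓ K := le_inf hM₀ hMK
  have h4 : (Ideal.comap (Ideal.Quotient.mk M) I₀ ⊓ K).map (Ideal.Quotient.mk M) ≤ I₀ :=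
    Ideal.map_le_iff_le_comap.2 inf_le_left
  have h5 : ¬ (Ideal.comap (Ideal.Quotient.mk M) I₀ ⊓ K).map (Ideal.Quotient.mk M) < I₀ :=
    hmin _ (by rw [Set.mem_setOf_eq, hcm _ h3]; exact h2)
  have h6 := eq_of_le_of_not_lt h4 h5
  calc Ideal.comap (Ideal.Quotient.mk M) I₀ = ((Ideal.comap (Ideal.Quotient.mk M) I₀ ⊓ K).map (Ideal.Quotient.mk M)).comap
        (Ideal.Quotient.mk M) := by rw [h6]
    _ = Ideal.comap (Ideal.Quotient.mk M) I₀ ⊓ K := hcm _ h3
    _ ≤ K := inf_le_right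

/-- Schlessinger's construction. -/
theorem exists_versal_of_start (h1 : S1 F) (hsm : IsSmoothFunctor (hR P.carrier P.res)) (S₀ : Stage F P) :
    ∃ (I : Ideal P.carrier) (hI : I ≤ IsLocalRing.maximalIdeal P.carrier)
      (ξ : Family (quotRing P I hI).carrier (quotRing P I hI).res F),
      (∃ h : ∀ a ∈ I, (cutHom P S₀.J S₀.le S₀.pow).1 a = 0,
        ξ.app _ (quotRingLift P hI (cutHom P S₀.J S₀.le S₀.pow) h) = S₀.elt) ∧
      ∀ ⦃B A : Art Λ k⦄ (μ : B ⟶ A), IsSmallExt μ →
        ∀ (φ : HomSet (quotRing P I hI).carrier (quotRing P I hI).res A) (y : F.obj B), F.map μ y = ξ.app A φ →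
          ∃ ψ, HomSet.map μ ψ = φ := by
  choose next hle hcompat _hM hmin using exists_next (P := P) h1
  let S : ℕ → Stage F P := fun q => Nat.rec S₀ (fun _ s => next s) q
  have hanti : Antitone fun q => (S q).J := antitone_nat_of_succ_le fun q => hle (S q)
  have hmap : ∀ {a b : ℕ} (h : a ≤ b), F.map (cutTo (hanti h)) (S b).elt = (S a).elt := by
    intro a b h
    induction h with
    | refl => rw [show cutTo (le_refl (S a).J) = 𝟙 _ from cut_hom_ext (homSet_ext fun _ => rfl), map_id']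
    | @step b h ih =>
      rw [show (cutTo (hanti h.step) : cut P (S (b + 1)).J (S (b + 1)).le (S (b + 1)).pow ⟶ cut P (S a).J (S a).le (S a).pow) =
          (cutTo (hle (S b)) : cut P (S (b + 1)).J (S (b + 1)).le (S (b + 1)).pow ⟶ cut P (S b).J (S b).le (S b).pow) ≫ cutTo (hanti h)
          from cut_hom_ext (homSet_ext fun _ => rfl),
        ← map_map, hcompat (S b), ih]
  let I : Ideal P.carrier := ⨅ q, (S q).J
  have hI : I ≤ IsLocalRing.maximalIdeal P.carrier := (iInf_le _ 0).trans S₀.le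
  let R := quotRing P I hI
  have hkillI : ∀ {A : Art Λ k} (φ : HomSet R.carrier R.res A), ∀ a ∈ I,
      (alongHom (quotRingHom P I hI) (quotRingHom_res P I hI) φ).1 a = 0 := fun {A} φ a ha => by
    change φ.1 (Ideal.Quotient.mk I a) = 0
    rw [Ideal.Quotient.eq_zero_iff_mem.2 ha]
    exact map_zero φ.1
  have hkill : ∀ {A : Art Λ k} (φ : HomSet R.carrier R.res A), ∃ q, ∀ a ∈ (S q).J,
      (alongHom (quotRingHom P I hI) (quotRingHom_res P I hI) φ).1 a = 0 := fun {A} φ => by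
    obtain ⟨N, hN⟩ := exists_factor P (alongHom (quotRingHom P I hI) (quotRingHom_res P I hI) φ)
    obtain ⟨g, hg⟩ := hN N le_rfl
    obtain ⟨q, hq⟩ := chevalley P (fun q => (S q).J) hanti (fun q => (S q).pow) N
    refine ⟨q, fun a ha => ?_⟩
    obtain ⟨i, hi, b, hb, rfl⟩ := Submodule.mem_sup.1 (hq ha)
    rw [map_add, hkillI φ i hi, zero_add, ← hg]
    change g (Ideal.Quotient.mk _ b) = 0
    rw [Ideal.Quotient.eq_zero_iff_mem.2 hb]
    exact map_zero g.toAlgHom
  have hwd : ∀ {A : Art Λ k} (φ : HomSet P.carrier P.res A) (a b : ℕ) (ha : ∀ x ∈ (S a).J, φ.1 x = 0)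
      (hb : ∀ x ∈ (S b).J, φ.1 x = 0),
      F.map (cutLift (S a).le (S a).pow φ ha) (S a).elt = F.map (cutLift (S b).le (S b).pow φ hb) (S b).elt := by
    intro A φ a b ha hb
    rw [← hmap (le_max_left a b), ← hmap (le_max_right a b), map_map, map_map]
    exact congrArg (fun g => F.map g _) (cut_hom_ext (homSet_ext fun _ => rfl))
  choose idx hidx using fun (A : Art Λ k) (φ : HomSet R.carrier R.res A) => hkill φ
  let ξ : Family R.carrier R.res F :=
    { app := fun A φ => F.map (cutLift (S (idx A φ)).le (S (idx A φ)).pow _ (hidx A φ)) (S (idx A φ)).elt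
      natural := fun {A B} f φ => by
        have h' : ∀ x ∈ (S (idx A φ)).J,
            (alongHom (quotRingHom P I hI) (quotRingHom_res P I hI) (HomSet.map f φ)).1 x = 0 := fun x hx => by
          change f ((alongHom (quotRingHom P I hI) (quotRingHom_res P I hI) φ).1 x) = 0
          rw [hidx A φ x hx]
          exact map_zero f.toAlgHom
        rw [map_map, hwd _ _ _ (hidx B _) h']
        exact congrArg (fun g => F.map g _) (cut_hom_ext (homSet_ext fun _ => rfl)) }
  have hξ : ∀ q (h : ∀ a ∈ I, (cutHom P (S q).J (S q).le (S q).pow).1 a = 0),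
      ξ.app _ (quotRingLift P hI (cutHom P (S q).J (S q).le (S q).pow) h) = (S q).elt := fun q h => by
    refine (hwd (alongHom (quotRingHom P I hI) (quotRingHom_res P I hI)
      (quotRingLift P hI (cutHom P (S q).J (S q).le (S q).pow) h)) _ q (hidx _ _)
      (cutHom_eq_zero (S q).le (S q).pow le_rfl)).trans ?_
    refine (congrArg (fun g => F.map g (S q).elt) ?_).trans (map_id' F _)
    exact cut_hom_ext (homSet_ext fun _ => rfl)
  refine ⟨I, hI, ξ, ⟨cutHom_eq_zero _ _ (iInf_le _ 0), hξ 0 _⟩, fun B A μ hμ φ y hy => ?_⟩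
  obtain ⟨q, hq⟩ := hkill φ
  let g : cut P (S q).J (S q).le (S q).pow ⟶ A := cutLift _ _ _ hq
  have hgx : F.map g (S q).elt = ξ.app A φ := hwd _ _ _ hq (hidx A φ)
  obtain ⟨C, c₁, c₂, hC⟩ := exists_fib g μ hμ.1
  have hc₁ : IsSmallExt c₁ := fp_isSmallExt hC hμ
  obtain ⟨hc₁s, t, ht0, htm, ht⟩ := (isSmallExt_iff c₁).1 hc₁
  obtain ⟨z, hz, -⟩ := cmp_surj (h1 c₁ c₂ g μ hC hμ.1) (x := (S q).elt) (y := y) (hgx.trans hy.symm)
  obtain ⟨χ, hχ⟩ := hsm c₁ hc₁s (cutHom P (S q).J (S q).le (S q).pow)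
  have hχ' : ∀ a, c₁ (χ.1 a) = Ideal.Quotient.mk (S q).J a := fun a =>
    AlgHom.congr_fun (congrArg Subtype.val hχ) a
  have hχker : ∀ a, χ.1 a = 0 → a ∈ (S q).J := fun a ha => Ideal.Quotient.eq_zero_iff_mem.1 (by
    rw [← hχ', ha]; exact map_zero c₁.toAlgHom)
  have hχm : ∀ a ∈ IsLocalRing.maximalIdeal P.carrier, χ.1 a ∈ IsLocalRing.maximalIdeal C := fun a ha => by
    rw [C.mem_maximalIdeal_iff, ← AlgHom.comp_apply, χ.2, ← CRing.mem_maximalIdeal_iff]
    exact ha
  have hkey : ∃ q', ∀ a ∈ (S q').J, χ.1 a = 0 := by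
    by_cases hs : Function.Surjective χ.1
    · refine ⟨q + 1, fun a ha => RingHom.mem_ker.1 (?_ : a ∈ RingHom.ker χ.1)⟩
      have hKJ : RingHom.ker χ.1 ≤ (S q).J := fun a ha => hχker a ha
      have hMK : IsLocalRing.maximalIdeal P.carrier * (S q).J ≤ RingHom.ker χ.1 := by
        rw [Ideal.mul_le]
        intro r hr s hs'
        rw [RingHom.mem_ker, map_mul]
        have hs'' : χ.1 s ∈ RingHom.ker c₁.toAlgHom := by
          change c₁ (χ.1 s) = 0
          rw [hχ', Ideal.Quotient.eq_zero_iff_mem.2 hs']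
          rfl
        rw [ht] at hs''
        obtain ⟨d, hd⟩ := Ideal.mem_span_singleton'.1 hs''
        rw [← hd, mul_left_comm, htm _ (hχm r hr), mul_zero]
      have hN : ∃ N, CRing.mpow P N ≤ RingHom.ker χ.1 := by
        obtain ⟨N, hN⟩ := (S q).pow
        refine ⟨N + 1, le_trans ?_ hMK⟩
        rw [CRing.mpow, pow_succ']
        exact Ideal.mul_mono le_rfl hN
      let e := cutLift (hKJ.trans (S q).le) hN χ (fun a ha => ha)
      have he : Function.Bijective e := by
        refine ⟨fun a b eab => ?_, fun c => ?_⟩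
        · obtain ⟨a, rfl⟩ := Ideal.Quotient.mk_surjective a
          obtain ⟨b, rfl⟩ := Ideal.Quotient.mk_surjective b
          refine Ideal.Quotient.eq.2 ?_
          rw [RingHom.mem_ker, map_sub, sub_eq_zero]
          exact eab
        · obtain ⟨a, rfl⟩ := hs c
          exact ⟨Ideal.Quotient.mk _ a, rfl⟩
      obtain ⟨i, hi, hi'⟩ := exists_inverse e he
      refine hmin (S q) (RingHom.ker χ.1) (hKJ.trans (S q).le) hN hKJ hMK ⟨F.map i z, ?_⟩ ha
      rw [show cutTo hKJ = e ≫ c₁ from cut_hom_ext (homSet_ext fun a => (hχ' a).symm), map_map,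
        ← Category.assoc, hi', Category.id_comp, hz]
    · refine ⟨q, fun a ha => ?_⟩
      by_contra hne
      have ha' : χ.1 a ∈ RingHom.ker c₁.toAlgHom := by
        change c₁ (χ.1 a) = 0
        rw [hχ', Ideal.Quotient.eq_zero_iff_mem.2 ha]
        rfl
      rw [ht] at ha'
      obtain ⟨d, hd⟩ := Ideal.mem_span_singleton'.1 ha'
      have hu : C.res d ≠ 0 := fun h0 => hne (by rw [← hd]; exact htm d ((C.mem_maximalIdeal_iff d).2 h0))
      refine hs fun c => ?_
      obtain ⟨p, hp⟩ := Ideal.Quotient.mk_surjective (c₁ c)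
      have hcp : c - χ.1 p ∈ RingHom.ker c₁.toAlgHom := by
        change c₁ (c - χ.1 p) = 0
        rw [map_sub, sub_eq_zero, hχ']
        exact hp.symm
      rw [ht] at hcp
      obtain ⟨x, hx⟩ := Ideal.mem_span_singleton'.1 hcp
      obtain ⟨s, hs'⟩ := P.res_surjective (C.res x / C.res d)
      refine ⟨p + s * a, ?_⟩
      have h0 : (χ.1 s * d - x) * t = 0 := htm _ ((C.mem_maximalIdeal_iff _).2 (by
        rw [map_sub, map_mul, ← AlgHom.comp_apply, χ.2, hs', div_mul_cancel₀ _ hu, sub_self]))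
      rw [map_add, map_mul, ← hd]
      linear_combination h0 + hx
  obtain ⟨q', hq'⟩ := hkey
  refine ⟨HomSet.map c₂ (quotRingLift P hI χ fun a ha => hq' a (iInf_le (fun q => (S q).J) q' ha)), homSet_ext fun r => ?_⟩
  obtain ⟨r, rfl⟩ := Ideal.Quotient.mk_surjective r
  change μ (c₂ (χ.1 r)) = _
  rw [← hC.w_apply, hχ']
  rfl

end Tower

/-! ### Tangent maps -/

section Tangent

variable {R : Type u} [CommRing R] [Algebra Λ R] {resR : R →ₐ[Λ] k} {F : Art Λ k ⥤ Type v} [TangentStr F]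

theorem tangent_add_eq (ξ : Family R resR F) (l : HomSet R resR (dual2 Λ k)) :
    TangentSpace.mk (ξ.app _ (HomSet.map plus l)) =
      TangentSpace.mk (ξ.app _ (HomSet.map pr₁ l)) + TangentSpace.mk (ξ.app _ (HomSet.map pr₂ l)) := by
  rw [ξ.natural, ξ.natural, ξ.natural]
  exact (TangentStr.add_eq (ξ.app _ l)).symm

/-- the image of the tangent map is a subspace. -/
def tangentRange (ξ : Family R resR F) : Submodule k (TangentSpace F) where
  carrier := {x | ∃ φ, TangentSpace.mk (ξ.app _ φ) = x}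
  add_mem' := by
    rintro _ _ ⟨a, rfl⟩ ⟨b, rfl⟩
    obtain ⟨l, hl, hl'⟩ := homSet_lift isFibreProd_dual2 a b (Subtype.ext ((homSet_base _).trans (homSet_base _).symm))
    exact ⟨HomSet.map plus l, by rw [tangent_add_eq, hl, hl']⟩
  zero_mem' := by
    refine ⟨HomSet.map (scale 0) (HomSet.map baseToDual (homSetBase R resR)), ?_⟩
    rw [ξ.natural]
    exact (TangentStr.smul_eq (0 : k) _).symm.trans (zero_smul k (TangentSpace.mk _))
  smul_mem' := by
    rintro c _ ⟨a, rfl⟩
    refine ⟨HomSet.map (scale c) a, ?_⟩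
    rw [ξ.natural]
    exact (TangentStr.smul_eq c _).symm

theorem mem_tangentRange (ξ : Family R resR F) (φ : HomSet R resR (dual Λ k)) :
    TangentSpace.mk (ξ.app _ φ) ∈ tangentRange ξ := ⟨φ, rfl⟩

end Tangent

/-- Schlessinger's existence theorem. -/
theorem exists_versal [IsNoetherianRing Λ] [Module.Finite Λ k] (F : Art Λ k ⥤ Type v) [TangentStr F]
    (h0 : H0 F) (h1 : S1 F) (h2 : Heps F) (h3 : Hfin F) :
    ∃ (R : CRing Λ k) (ξ : Family R.carrier R.res F), IsVersal ξ ∧ Function.Surjective (ξ.app (dual Λ k)) ∧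
      ((∀ x₀ : F.obj (base Λ k), Function.Injective (fun σ : base Λ k ⟶ dual Λ k => F.map σ x₀)) →
        Function.Injective (ξ.app (dual Λ k))) := by
  haveI : Module.Finite k (TangentSpace F) := h3
  obtain ⟨x₀⟩ := h0.1
  let D : Submodule k (TangentSpace F) :=
    Submodule.span k (Set.range fun σ : base Λ k ⟶ dual Λ k => TangentSpace.mk (F.map σ x₀))
  obtain ⟨W, hW⟩ := Submodule.exists_isCompl D
  let b := Module.finBasis k W
  let m := Module.finrank k W
  obtain ⟨w, hw⟩ := exists_sq_elt h2 h0 m (fun i => TangentSpace.val (b i : TangentSpace F))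
  let L := tangentMap w
  have hLproj : ∀ i, L (LinearMap.proj i) = (b i : TangentSpace F) := hw
  have hL : ∀ f : (Fin m → k) →ₗ[k] k, L f = W.subtype (b.equivFun.symm fun i => f (Pi.single i 1)) := by
    intro f
    have hf : f = ∑ i, f (Pi.single i 1) • (LinearMap.proj i : (Fin m → k) →ₗ[k] k) := by
      refine LinearMap.pi_ext' fun j => LinearMap.ext_ring ?_
      simp [Pi.single_apply]
    conv_lhs => rw [hf, map_sum]
    rw [Module.Basis.equivFun_symm_apply, map_sum]
    exact Finset.sum_congr rfl fun i _ => by rw [map_smul, map_smul, hLproj]; rfl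
  obtain ⟨P, π, hsm, hπ, hT⟩ := exists_free (Λ := Λ) (k := k) m
  have hπk : RingHom.ker π.1 ≤ IsLocalRing.maximalIdeal P.carrier := fun a ha => by
    rw [CRing.mem_maximalIdeal_iff, ← π.2, AlgHom.comp_apply, RingHom.mem_ker.1 ha, map_zero]
  have hN : ∃ N, CRing.mpow P N ≤ RingHom.ker π.1 := by
    refine ⟨1, ?_⟩
    rw [CRing.mpow, pow_two, Ideal.mul_le]
    intro r hr s hs
    rw [RingHom.mem_ker, map_mul]
    have hr' : TrivSqZeroExt.fst (π.1 r : TrivSqZeroExt k (Fin m → k)) = 0 :=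
      (AlgHom.congr_fun π.2 r).trans ((CRing.mem_maximalIdeal_iff P r).1 hr)
    have hs' : TrivSqZeroExt.fst (π.1 s : TrivSqZeroExt k (Fin m → k)) = 0 :=
      (AlgHom.congr_fun π.2 s).trans ((CRing.mem_maximalIdeal_iff P s).1 hs)
    refine TrivSqZeroExt.ext ?_ ?_
    · change TrivSqZeroExt.fst (π.1 r : TrivSqZeroExt k (Fin m → k)) * TrivSqZeroExt.fst (π.1 s : TrivSqZeroExt k (Fin m → k)) = 0
      rw [hr', zero_mul]
    · change TrivSqZeroExt.fst (π.1 r : TrivSqZeroExt k (Fin m → k)) • TrivSqZeroExt.snd (π.1 s : TrivSqZeroExt k (Fin m → k)) +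
        MulOpposite.op (TrivSqZeroExt.fst (π.1 s : TrivSqZeroExt k (Fin m → k))) • TrivSqZeroExt.snd (π.1 r : TrivSqZeroExt k (Fin m → k)) = 0
      rw [hr', hs']; simp
  let e := cutLift hπk hN π (fun a ha => ha)
  have he : Function.Bijective e := by
    refine ⟨fun a a' eab => ?_, fun c => ?_⟩
    · obtain ⟨a, rfl⟩ := Ideal.Quotient.mk_surjective a
      obtain ⟨a', rfl⟩ := Ideal.Quotient.mk_surjective a'
      refine Ideal.Quotient.eq.2 ?_
      rw [RingHom.mem_ker, map_sub, sub_eq_zero]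
      exact eab
    · obtain ⟨a, rfl⟩ := hπ c
      exact ⟨Ideal.Quotient.mk _ a, rfl⟩
  obtain ⟨i, hi, hi'⟩ := exists_inverse e he
  obtain ⟨I, hI, ξ, ⟨hI₀, hξ₀⟩, hlift⟩ :=
    exists_versal_of_start h1 hsm ⟨RingHom.ker π.1, hπk, hN, F.map i w⟩
  let R := quotRing P I hI
  let πR : HomSet R.carrier R.res (sq Λ k (Fin m)) :=
    HomSet.map e (quotRingLift P hI (cutHom P _ hπk hN) hI₀)
  have hπR : ξ.app _ πR = w := by rw [ξ.natural, hξ₀, map_map, hi', map_id']
  have hL' : ∀ f, TangentSpace.mk (ξ.app _ (HomSet.map (toDual f) πR)) = L f := fun f => by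
    rw [ξ.natural, hπR]; rfl
  have hbase : ξ.app _ (homSetBase R.carrier R.res) = x₀ := h0.2.elim _ _
  have hσ : ∀ σ : base Λ k ⟶ dual Λ k,
      TangentSpace.mk (ξ.app _ (HomSet.map σ (homSetBase R.carrier R.res))) = TangentSpace.mk (F.map σ x₀) :=
    fun σ => by rw [ξ.natural, hbase]
  have hsurj : Function.Surjective (ξ.app (dual Λ k)) := by
    have htop : (⊤ : Submodule k (TangentSpace F)) ≤ tangentRange ξ := by
      rw [← hW.sup_eq_top]
      refine sup_le (Submodule.span_le.2 ?_) fun x hx => ?_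
      · rintro _ ⟨σ, rfl⟩
        exact ⟨_, hσ σ⟩
      · obtain ⟨c, hc⟩ := (Submodule.mem_span_range_iff_exists_fun k).1 (b.mem_span (⟨x, hx⟩ : W))
        have hx' : x = ∑ i, c i • (b i : TangentSpace F) := by
          have := congrArg W.subtype hc
          rw [map_sum] at this
          exact this.symm.trans (by simp)
        rw [hx']
        exact Submodule.sum_mem _ fun i _ => Submodule.smul_mem _ _ (hLproj i ▸ hL' (LinearMap.proj i) ▸ mem_tangentRange ξ _)
    intro y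
    exact htop (x := TangentSpace.mk y) Submodule.mem_top
  refine ⟨R, ξ, ?_, hsurj, fun hinj φ φ' eφ => ?_⟩
  · rw [isVersal_iff]
    exact smoothMap_criterion (isNatural_family ξ) hR_rs.heps hR_h0.2 ((s1_iff_hbar F).1 h1) h2 hsurj hlift
  · have dec : ∀ φ : HomSet R.carrier R.res (dual Λ k), ∃ (σ : base Λ k ⟶ dual Λ k) (f : (Fin m → k) →ₗ[k] k)
        (l : HomSet R.carrier R.res (dual2 Λ k)), HomSet.map pr₁ l = HomSet.map σ (homSetBase R.carrier R.res) ∧
        HomSet.map pr₂ l = HomSet.map (toDual f) πR ∧ HomSet.map plus l = φ := by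
      intro φ
      obtain ⟨σ, f, l, h₁, h₂', h₃⟩ := hT (alongHom (quotRingHom P I hI) (quotRingHom_res P I hI) φ)
      obtain ⟨l', hl₁, hl₂⟩ := homSet_lift isFibreProd_dual2 (HomSet.map σ (homSetBase R.carrier R.res))
        (HomSet.map (toDual f) πR) (Subtype.ext ((homSet_base _).trans (homSet_base _).symm))
      have e : alongHom (quotRingHom P I hI) (quotRingHom_res P I hI) l' = l := by
        refine homSet_inj isFibreProd_dual2 ?_ ?_
        · rw [map_alongHom, hl₁, h₁]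
          exact homSet_ext fun a => congrArg σ.toAlgHom (AlgHom.congr_fun (quotRingHom_res P I hI) a)
        · rw [map_alongHom, hl₂, h₂']
          exact homSet_ext fun a => rfl
      refine ⟨σ, f, l', hl₁, hl₂, homSet_ext fun r => ?_⟩
      obtain ⟨r, rfl⟩ := Ideal.Quotient.mk_surjective r
      exact (congrArg (fun x : DualNumber k => x) (AlgHom.congr_fun (congrArg Subtype.val
        ((congrArg (HomSet.map plus) e).trans h₃)) r))
    obtain ⟨σ, f, l, h₁, h₂', h₃⟩ := dec φ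
    obtain ⟨σ', f', l', h₁', h₂'', h₃'⟩ := dec φ'
    have hval : TangentSpace.mk (F.map σ x₀) + L f = TangentSpace.mk (F.map σ' x₀) + L f' := by
      rw [← hσ σ, ← hL' f, ← hσ σ', ← hL' f', ← h₁, ← h₂', ← h₁', ← h₂'', ← tangent_add_eq, ← tangent_add_eq, h₃, h₃', eφ]
    have hWf : L f - L f' ∈ W := sub_mem (by rw [hL]; exact SetLike.coe_mem _) (by rw [hL]; exact SetLike.coe_mem _)
    have hDf : L f - L f' ∈ D := by
      rw [show L f - L f' = TangentSpace.mk (F.map σ' x₀) - TangentSpace.mk (F.map σ x₀) by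
        rw [sub_eq_sub_iff_add_eq_add, add_comm (L f), hval]]
      exact sub_mem (Submodule.subset_span ⟨σ', rfl⟩) (Submodule.subset_span ⟨σ, rfl⟩)
    have h00 : L f - L f' = 0 := (Submodule.disjoint_def.1 hW.disjoint) _ hDf hWf
    rw [sub_eq_zero] at h00
    have hff : f = f' := by
      rw [hL, hL] at h00
      have h := b.equivFun.symm.injective (W.injective_subtype h00)
      exact LinearMap.pi_ext' fun j => LinearMap.ext_ring (congrFun h j)
    rw [h00, add_left_inj] at hval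
    have hσσ : σ = σ' := hinj x₀ hval
    subst hff hσσ
    have hll : l = l' := homSet_inj isFibreProd_dual2 (h₁.trans h₁'.symm) (h₂'.trans h₂''.symm)
    rw [← h₃, hll, h₃']

/-- A miniversal family of a homogeneous functor is universal. -/
theorem isUniversal_of_isMiniversal {R : Type u} [CommRing R] [Algebra Λ R] {resR : R →ₐ[Λ] k}
    {F : Art Λ k ⥤ Type v} (h0 : H0 F) (h4 : HSq F) (ξ : Family R resR F) (hξ : IsMiniversal ξ) :
    IsUniversal ξ := fun A => by
  refine ⟨injective_criterion (η := fun A => ξ.app A) (isNatural_family ξ) hR_rs.hbar hR_rs.heps hR_h0.2 h4 h0.2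
    hξ.2.1 A, fun y => ?_⟩
  obtain ⟨φ, -, hφ⟩ := hξ.1 (toBase A) (toBase_surjective A) (homSetBase R resR) y (h0.2.elim _ _)
  exact ⟨φ, hφ⟩

end Groth.Agent.Misc9.SF
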