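import Groth.Agent.Misc9.SF.Formal

/-! Artinian objects as coefficient rings; split square-zero objects. -/

universe u v

set_option synthInstance.maxHeartbeats 20000

open CategoryTheory

namespace Groth.Agent.Misc9.SF

open ArtFun ArtFun.Art

variable {Λ k : Type u} [CommRing Λ] [Field k] [Algebra Λ k]

theorem isAdicComplete_of_pow_eq_bot {R : Type*} [CommRing R] (I : Ideal R) {N : ℕ} (h : I ^ N = ⊥) :
    IsAdicComplete I R where
  toIsHausdorff := ⟨fun x hx => by
    have h1 := hx N
    rw [smul_eq_mul, Ideal.mul_top, h, SModEq.bot] at h1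
    exact h1⟩
  toIsPrecomplete := ⟨fun f hf => ⟨f N, fun n => by
    rcases le_total n N with hn | hn
    · exact hf hn
    · have h1 := hf hn
      rw [smul_eq_mul, Ideal.mul_top, h, SModEq.bot] at h1
      rw [h1]⟩⟩

/-- an Artinian object as a coefficient ring. -/
noncomputable def cringOf (A : Art Λ k) : CRing Λ k :=
  { carrier := A.carrier
    res := A.res
    res_surjective := A.res_surjective
    isAdicComplete := (exists_pow_eq_bot A).elim fun _ h => isAdicComplete_of_pow_eq_bot _ h }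

/-- the projection dropping the last coordinate. -/
def sqInit (n : ℕ) : sq Λ k (Fin (n + 1)) ⟶ sq Λ k (Fin n) :=
  ⟨tszeMap (LinearMap.funLeft k k Fin.castSucc), AlgHom.ext fun _ => rfl⟩

/-- the last coordinate. -/
def sqLast (n : ℕ) : sq Λ k (Fin (n + 1)) ⟶ dual Λ k := toDual (LinearMap.proj (Fin.last n))

theorem sq_isFibreProd (n : ℕ) : IsFibreProd (sqInit (Λ := Λ) (k := k) n) (sqLast n)
    (toBase (sq Λ k (Fin n))) (toBase (dual Λ k)) :=
  ⟨by rw [comp_toBase, comp_toBase], fun a b e e' => by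
    have e₁ : (sqLast n a : DualNumber k).fst = (sqLast n b : DualNumber k).fst := by rw [e']
    have e₂ : (sqLast n a : DualNumber k).snd = (sqLast n b : DualNumber k).snd := by rw [e']
    have e₃ : (sqInit n a : TrivSqZeroExt k (Fin n → k)).snd = (sqInit n b : TrivSqZeroExt k (Fin n → k)).snd := by
      rw [e]
    refine TrivSqZeroExt.ext e₁ (funext fun i => ?_)
    induction i using Fin.lastCases with
    | last => exact e₂
    | cast j => exact congrFun e₃ j,
  fun a b e => ⟨((a.fst, Fin.snoc a.snd b.snd) : TrivSqZeroExt k (Fin (n + 1) → k)),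
    TrivSqZeroExt.ext rfl (funext fun j => Fin.snoc_castSucc (α := fun _ => k) _ _ _),
    TrivSqZeroExt.ext e (Fin.snoc_last (α := fun _ => k) _ _)⟩⟩

theorem sq_zero_bijective : Function.Bijective (toBase (sq Λ k (Fin 0))) :=
  ⟨fun a b e => TrivSqZeroExt.ext e (funext fun i => i.elim0), (sq Λ k (Fin 0)).res_surjective⟩

/-- `H_ε` gives the same for every `k ⊕ k^n`. -/
theorem heps_sq {F : Art Λ k ⥤ Type v} (h2 : Heps F) : ∀ (n : ℕ) ⦃B A : Art Λ k⦄ (p' : B ⟶ A)
    (p'' : B ⟶ sq Λ k (Fin n)) (h : IsFibreProd p' p'' (toBase A) (toBase (sq Λ k (Fin n)))),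
    Function.Bijective (cmp F h) := by
  intro n
  induction n with
  | zero =>
    intro B A p' p'' h
    have hb : Function.Bijective p' := by
      refine ⟨fun a b e => h.inj a b e (sq_zero_bijective.1 ?_), fun a => ?_⟩
      · rw [← h.w_apply, ← h.w_apply, e]
      · obtain ⟨c, hc⟩ := sq_zero_bijective.2 (toBase A a)
        obtain ⟨b, hb, -⟩ := h.surj a c hc.symm
        exact ⟨b, hb⟩
    obtain ⟨i, hi, hi'⟩ := exists_inverse p' hb
    obtain ⟨j, hj, -⟩ := exists_inverse _ (sq_zero_bijective (Λ := Λ) (k := k))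
    refine ⟨cmp_injective_of fun z z' e _ => ?_, cmp_surjective_of fun x y e => ⟨F.map i x, ?_, ?_⟩⟩
    · rw [← map_id' F z, ← map_id' F z', ← hi, ← map_map, ← map_map, e]
    · rw [map_map, hi', map_id']
    · have hinj : Function.Injective (F.map (toBase (sq Λ k (Fin 0)))) := fun u w euw => by
        rw [← map_id' F u, ← map_id' F w, ← hj, ← map_map, ← map_map, euw]
      refine hinj ?_
      rw [map_map, map_map, comp_toBase, comp_toBase, e]
  | succ n ih =>
    intro B A p' p'' h
    obtain ⟨B', q₁, q₂, hB'⟩ := exists_fib (toBase A) (toBase (sq Λ k (Fin n))) (toBase_surjective _)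
    obtain ⟨l, hl₁, hl₂⟩ := fp_exists_lift hB' p' (p'' ≫ sqInit n) (by rw [comp_toBase, comp_toBase])
    have hl₁' : ∀ b, q₁ (l b) = p' b := fun b => by rw [← ArtFun.Art.comp_apply, hl₁]
    have hl₂' : ∀ b, q₂ (l b) = sqInit n (p'' b) := fun b => by rw [← ArtFun.Art.comp_apply, hl₂]; rfl
    have hfp : IsFibreProd l (p'' ≫ sqLast n) (toBase B') (toBase (dual Λ k)) := by
      refine ⟨by rw [comp_toBase, comp_toBase], fun a b e e' => h.inj a b ?_ ((sq_isFibreProd n).inj _ _ ?_ e'),
        fun b' d e => ?_⟩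
      · rw [← hl₁', e, hl₁']
      · rw [← hl₂', e, hl₂']
      · have e' : toBase _ (q₂ b') = toBase _ d := by
          change (sq Λ k (Fin n)).res (q₂ b') = (dual Λ k).res d
          rw [res_app]
          exact e
        obtain ⟨c, hc, hc'⟩ := (sq_isFibreProd n).surj (q₂ b') d e'
        obtain ⟨b, hb, hb'⟩ := h.surj (q₁ b') c (by
          change A.res (q₁ b') = (sq Λ k (Fin (n + 1))).res c
          rw [res_app, ← res_app (sqInit n) c, hc, res_app])
        refine ⟨b, hB'.inj _ _ ?_ ?_, ?_⟩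
        · rw [hl₁', hb]
        · rw [hl₂', hb', hc]
        · change sqLast n (p'' b) = d
          rw [hb', hc']
    refine ⟨cmp_injective_of fun z z' e e' => ?_, cmp_surjective_of fun x y e => ?_⟩
    · refine cmp_inj (h2 _ _ hfp).1 (cmp_inj (ih q₁ q₂ hB').1 ?_ ?_) ?_
      · rw [map_map, map_map, hl₁, e]
      · rw [map_map, map_map, hl₂, ← map_map, ← map_map, e']
      · rw [← map_map, ← map_map, e']
    · obtain ⟨w, hw, hw'⟩ := cmp_surj (ih q₁ q₂ hB').2 (x := x) (y := F.map (sqInit n) y)
        (by rw [e, map_map, comp_toBase])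
      obtain ⟨z, hz, hz'⟩ := cmp_surj (h2 _ _ hfp).2 (x := w) (y := F.map (sqLast n) y)
        (by rw [← comp_toBase q₂, ← map_map, hw', map_map, map_map, comp_toBase, comp_toBase])
      refine ⟨z, by rw [← hl₁, ← map_map, hz, hw], cmp_inj (h2 _ _ (sq_isFibreProd n)).1 ?_ ?_⟩
      · rw [map_map, ← hl₂, ← map_map, hz, hw']
      · rw [map_map, hz']

/-- a split square-zero object is some `k ⊕ k^n`. -/
theorem exists_sq_iso {E : Art Λ k} (σ : base Λ k ⟶ E) (hE : IsLocalRing.maximalIdeal E ^ 2 = ⊥) :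
    ∃ (n : ℕ) (e : sq Λ k (Fin n) ⟶ E), Function.Bijective e := by
  let σ' : k →+* E := σ.toAlgHom.toRingHom
  have hσ : ∀ c : k, E.res (σ' c) = c := fun c => res_app σ c
  letI : Algebra k E := σ'.toAlgebra
  have hart : IsArtinian k E := isArtinian_restrict E fun t => ⟨t, hσ t⟩
  let M : Submodule k E := (IsLocalRing.maximalIdeal E).restrictScalars k
  haveI : IsNoetherian k E := IsSemiprimaryRing.isNoetherian_iff_isArtinian.2 hart
  haveI : Module.Finite k M := inferInstance
  let b := Module.finBasis k M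
  let n := Module.finrank k M
  let ψ : (Fin n → k) →ₗ[k] E := M.subtype.comp b.equivFun.symm.toLinearMap
  have hψ : ∀ v, ψ v ∈ IsLocalRing.maximalIdeal E := fun v => (b.equivFun.symm v).2
  have hψ0 : ∀ v w, ψ v * ψ w = 0 := fun v w => by
    rw [← Submodule.mem_bot (R := E.carrier), ← hE, pow_two]
    exact Ideal.mul_mem_mul (hψ v) (hψ w)
  have hψs : ∀ (c : k) v, ψ (c • v) = σ' c * ψ v := fun c v => by
    rw [map_smul, Algebra.smul_def]
    rfl
  let φ : TrivSqZeroExt k (Fin n → k) →ₐ[Λ] E :=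
    { toFun := fun x => σ' x.fst + ψ x.snd
      map_one' := by rw [TrivSqZeroExt.fst_one, TrivSqZeroExt.snd_one, map_one, map_zero, add_zero]
      map_mul' := fun x y => by
        rw [TrivSqZeroExt.fst_mul, TrivSqZeroExt.snd_mul, map_mul, op_smul_eq_smul, map_add, hψs, hψs]
        linear_combination (-1 : E.carrier) * hψ0 x.snd y.snd
      map_zero' := by rw [TrivSqZeroExt.fst_zero, TrivSqZeroExt.snd_zero, map_zero, map_zero, add_zero]
      map_add' := fun x y => by
        rw [TrivSqZeroExt.fst_add, TrivSqZeroExt.snd_add, map_add, map_add]; ring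
      commutes' := fun l => by
        rw [TrivSqZeroExt.algebraMap_eq_inl', TrivSqZeroExt.fst_inl, TrivSqZeroExt.snd_inl, map_zero, add_zero]
        exact σ.toAlgHom.commutes l }
  refine ⟨n, Art.homMk (A := sq Λ k (Fin n)) φ (AlgHom.ext fun x => ?_), fun x y e => ?_, fun a => ?_⟩
  · change E.res (σ' x.fst + ψ x.snd) = x.fst
    rw [map_add, hσ, (E.mem_maximalIdeal_iff _).1 (hψ _), add_zero]
  · have e' : σ' x.fst + ψ x.snd = σ' y.fst + ψ y.snd := e
    have h1 : x.fst = y.fst := by
      have := congrArg E.res e'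
      rwa [map_add, map_add, hσ, hσ, (E.mem_maximalIdeal_iff _).1 (hψ _), (E.mem_maximalIdeal_iff _).1 (hψ _),
        add_zero, add_zero] at this
    rw [h1] at e'
    refine TrivSqZeroExt.ext h1 (b.equivFun.symm.injective (Subtype.ext (add_left_cancel e')))
  · have hm : a - σ' (E.res a) ∈ M := by
      change a - σ' (E.res a) ∈ IsLocalRing.maximalIdeal E
      rw [E.mem_maximalIdeal_iff, map_sub, hσ, sub_self]
    refine ⟨(((E.res a, b.equivFun ⟨_, hm⟩)) : TrivSqZeroExt k (Fin n → k)), ?_⟩
    change σ' (E.res a) + ψ (b.equivFun ⟨_, hm⟩) = a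
    simp only [ψ, LinearMap.comp_apply, LinearEquiv.coe_coe, LinearEquiv.symm_apply_apply, Submodule.subtype_apply]
    exact add_sub_cancel _ _

/-- transport of bijectivity of the comparison map along an isomorphism of the second factor. -/
theorem cmp_bijective_of_iso {F : Art Λ k ⥤ Type v} {B A A' E : Art Λ k} {p' : B ⟶ A'} {p'' : B ⟶ E} {f' : A' ⟶ A}
    {f'' : E ⟶ A} (h : IsFibreProd p' p'' f' f'') {E' : Art Λ k} (e : E' ⟶ E) (he : Function.Bijective e)
    (H : ∀ (q'' : B ⟶ E') (h' : IsFibreProd p' q'' f' (e ≫ f'')), Function.Bijective (cmp F h')) :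
    Function.Bijective (cmp F h) := by
  obtain ⟨g, hg, hg'⟩ := exists_inverse e he
  have hge : ∀ x, e (g x) = x := fun x => by rw [← ArtFun.Art.comp_apply, hg']; rfl
  have h' : IsFibreProd p' (p'' ≫ g) f' (e ≫ f'') :=
    ⟨by rw [Category.assoc, ← Category.assoc g, hg', Category.id_comp, h.w],
      fun a b ea eb => h.inj a b ea (by rw [← hge (p'' a), ← hge (p'' b)]; exact congrArg e eb),
      fun a c eac => by
        obtain ⟨b, hb, hb'⟩ := h.surj a (e c) eac
        refine ⟨b, hb, he.1 ?_⟩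
        change e (g (p'' b)) = e c
        rw [hge, hb']⟩
  obtain ⟨hi, hs⟩ := H _ h'
  refine ⟨cmp_injective_of fun z z' ez ez' => cmp_inj hi ez (by rw [← map_map, ← map_map, ez']),
    cmp_surjective_of fun x y exy => ?_⟩
  obtain ⟨z, hz, hz'⟩ := cmp_surj hs (x := x) (y := F.map g y) (by
    rw [map_map, ← Category.assoc, hg', Category.id_comp, exy])
  refine ⟨z, hz, ?_⟩
  have := congrArg (F.map e) hz'
  rwa [map_map, map_map, Category.assoc, hg', Category.comp_id, map_id'] at this

end Groth.Agent.Misc9.SF
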