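import Groth.Agent.Misc9.SF.Hull
import Groth.Agent.Misc9.SF.Square

/-! Limits of surjective systems with bounded embedding dimension. -/

universe u v

set_option synthInstance.maxHeartbeats 20000
set_option maxHeartbeats 400000

open CategoryTheory

namespace Groth.Agent.Misc9.SF

open ArtFun ArtFun.Art

variable {Λ k : Type u} [CommRing Λ] [Field k] [Algebra Λ k]

/-- the embedding dimension. -/
noncomputable abbrev embDim (A : Art Λ k) : ℕ :=
  Module.finrank (IsLocalRing.ResidueField A) (IsLocalRing.CotangentSpace A)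

theorem exists_lift_gens {A B : Art Λ k} (f : B ⟶ A) (hf : Function.Surjective f) :
    embDim A ≤ embDim B ∧ ∃ y : Fin (embDim A) → A, (∀ i, y i ∈ IsLocalRing.maximalIdeal A) ∧
      (embDim A = embDim B → ∀ Y : Fin (embDim A) → B, (∀ i, f (Y i) = y i) →
        IsLocalRing.maximalIdeal B ≤ Ideal.span (Set.range Y)) := by
  classical
  let b := Module.finBasis (IsLocalRing.ResidueField A) (IsLocalRing.CotangentSpace A)
  choose y hy using fun i => Ideal.toCotangent_surjective (IsLocalRing.maximalIdeal A) (b i)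
  have hmem : ∀ (Y : Fin (embDim A) → B), (∀ i, f (Y i) = y i) → ∀ i, Y i ∈ IsLocalRing.maximalIdeal B := fun Y hY i => by
    rw [B.mem_maximalIdeal_iff, ← res_app f, hY]
    exact (A.mem_maximalIdeal_iff _).1 (y i).2
  have hli : ∀ (Y : Fin (embDim A) → B) (hY : ∀ i, f (Y i) = y i),
      LinearIndependent (IsLocalRing.ResidueField B)
        (fun i => (IsLocalRing.maximalIdeal B).toCotangent ⟨Y i, hmem Y hY i⟩) := by
    intro Y hY
    rw [Fintype.linearIndependent_iff]
    intro c hc i
    choose C hC using fun j => IsLocalRing.residue_surjective (c j)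
    have h1 : (IsLocalRing.maximalIdeal B).toCotangent (∑ j, C j • ⟨Y j, hmem Y hY j⟩) = 0 := by
      rw [map_sum, ← hc]
      refine Finset.sum_congr rfl fun j _ => ?_
      rw [map_smul, ← hC j]
      exact (algebraMap_smul (IsLocalRing.ResidueField B) (C j) _).symm
    rw [Ideal.toCotangent_eq_zero] at h1
    rw [AddSubmonoidClass.coe_finset_sum] at h1
    have hfm : (IsLocalRing.maximalIdeal B).map f.toAlgHom ≤ IsLocalRing.maximalIdeal A :=
      Ideal.map_le_iff_le_comap.2 fun x hx => map_mem_maximalIdeal f hx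
    have h2 := Ideal.mem_map_of_mem f.toAlgHom h1
    rw [Ideal.map_pow] at h2
    have h3 := Ideal.pow_right_mono hfm 2 h2
    rw [map_sum] at h3
    have h4 : (IsLocalRing.maximalIdeal A).toCotangent (∑ j, f (C j) • y j) = 0 := by
      rw [Ideal.toCotangent_eq_zero, AddSubmonoidClass.coe_finset_sum]
      convert! h3 using 1
      refine Finset.sum_congr rfl fun j _ => ?_
      change f (C j) * (y j : A) = f.toAlgHom (C j * Y j)
      rw [map_mul]
      exact congrArg _ (hY j).symm
    have h5 : ∑ j, IsLocalRing.residue A (f (C j)) • b j = 0 := by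
      rw [← h4, map_sum]
      refine Finset.sum_congr rfl fun j _ => ?_
      rw [map_smul, hy]
      exact algebraMap_smul (IsLocalRing.ResidueField A) (f (C j)) _
    have h6 := (Fintype.linearIndependent_iff.1 b.linearIndependent) _ h5 i
    rw [IsLocalRing.residue_eq_zero_iff, A.mem_maximalIdeal_iff, res_app, ← B.mem_maximalIdeal_iff] at h6
    rw [← hC i, IsLocalRing.residue_eq_zero_iff]
    exact h6
  choose Y₀ hY₀ using fun i => hf (y i : A)
  refine ⟨?_, fun i => y i, fun i => (y i).2, fun heq Y hY => ?_⟩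
  · have h := (hli Y₀ hY₀).fintype_card_le_finrank
    rwa [Fintype.card_fin] at h
  · let Y' : Fin (embDim A) → IsLocalRing.maximalIdeal B := fun i => ⟨Y i, hmem Y hY i⟩
    have htop : Submodule.span (IsLocalRing.ResidueField B)
        (Set.range fun i => (IsLocalRing.maximalIdeal B).toCotangent (Y' i)) = ⊤ := by
      by_cases h0 : embDim A = 0
      · haveI : Subsingleton (IsLocalRing.CotangentSpace B) :=
          Module.finrank_zero_iff.1 (heq.symm.trans h0)
        exact Subsingleton.elim _ _
      · haveI : Nonempty (Fin (embDim A)) := ⟨⟨0, Nat.pos_of_ne_zero h0⟩⟩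
        exact (hli Y hY).span_eq_top_of_card_eq_finrank (by rw [Fintype.card_fin]; exact heq)
    have himg : (IsLocalRing.maximalIdeal B).toCotangent '' Set.range Y' =
        Set.range fun i => (IsLocalRing.maximalIdeal B).toCotangent (Y' i) := by
      rw [← Set.range_comp]; rfl
    rw [← himg, IsLocalRing.CotangentSpace.span_image_eq_top_iff] at htop
    intro x hx
    have : (⟨x, hx⟩ : IsLocalRing.maximalIdeal B) ∈ Submodule.span B.carrier (Set.range Y') := htop ▸ Submodule.mem_top
    have h' := Submodule.mem_map_of_mem (f := (IsLocalRing.maximalIdeal B).subtype) this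
    rw [Submodule.map_span, ← Set.range_comp] at h'
    exact h'

/-- compatible surjections from a coefficient ring onto a surjective system. -/
theorem exists_system [IsNoetherianRing Λ] [Module.Finite Λ k] :
    ∀ (n₀ : ℕ) (A : ℕ → Art Λ k) (f : ∀ n, A (n + 1) ⟶ A n), (∀ n, Function.Surjective (f n)) →
      (∀ n, n₀ ≤ n → embDim (A (n + 1)) = embDim (A n)) →
      ∃ (P : CRing Λ k) (π : ∀ n, HomSet P.carrier P.res (A n)),
        (∀ n, HomSet.map (f n) (π (n + 1)) = π n) ∧ ∀ n, Function.Surjective (π n).1 := by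
  intro n₀
  induction n₀ with
  | succ n₀ ih =>
    intro A f hf hstab
    obtain ⟨P, π, hπ, hπs⟩ := ih (fun n => A (n + 1)) (fun n => f (n + 1)) (fun n => hf (n + 1))
      (fun n hn => hstab (n + 1) (Nat.succ_le_succ hn))
    refine ⟨P, fun n => match n with | 0 => HomSet.map (f 0) (π 0) | n + 1 => π n, fun n => ?_, fun n => ?_⟩
    · cases n with
      | zero => rfl
      | succ n => exact hπ n
    · cases n with
      | zero => exact (hf 0).comp (hπs 0)
      | succ n => exact hπs n
  | zero =>
    intro A f hf hstab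
    classical
    obtain ⟨g, hg⟩ := (IsNoetherian.noetherian (IsLocalRing.maximalIdeal (A 0)) : (IsLocalRing.maximalIdeal (A 0)).FG)
    obtain ⟨e, he⟩ := (Module.Finite.fg_top : (⊤ : Submodule Λ k).FG)
    choose sec hsec using (A 0).res_surjective
    let t : Finset (A 0) := g ∪ e.image sec
    let v : Fin t.card → A 0 := fun i => (t.equivFin.symm i : A 0)
    let Q := MvPolynomial (ULift.{u} (Fin t.card)) Λ
    let ρ : Q →ₐ[Λ] k := (A 0).res.comp (MvPolynomial.aeval fun i => v i.down)
    have hρ : Function.Surjective ρ := fun c => by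
      have hc : c ∈ Submodule.span Λ (e : Set k) := he ▸ Submodule.mem_top
      induction hc using Submodule.span_induction with
      | mem x hx =>
        refine ⟨MvPolynomial.X ⟨t.equivFin ⟨sec x, Finset.mem_union_right _ (Finset.mem_image_of_mem sec hx)⟩⟩, ?_⟩
        change (A 0).res (MvPolynomial.aeval _ _) = x
        rw [MvPolynomial.aeval_X]
        simp only [v, Equiv.symm_apply_apply]
        exact hsec x
      | zero => exact ⟨0, map_zero _⟩
      | add x y _ _ hx hy => obtain ⟨a, rfl⟩ := hx; obtain ⟨b, rfl⟩ := hy; exact ⟨a + b, map_add _ _ _⟩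
      | smul l x _ hx => obtain ⟨a, rfl⟩ := hx; exact ⟨l • a, map_smul _ _ _⟩
    obtain ⟨P, ι, hι, huniv⟩ := exists_completion Q ρ hρ
    obtain ⟨π₀, hπ₀⟩ := (huniv (A 0)).2 ⟨MvPolynomial.aeval fun i => v i.down, rfl⟩
    have hπ₀s : Function.Surjective π₀.1 := by
      refine surjective_of_cotangent (S := cringOf (A 0)) π₀.1 π₀.2 fun x hx => Ideal.mem_sup_left ?_
      change x ∈ IsLocalRing.maximalIdeal (A 0) at hx
      rw [← hg] at hx
      refine (Ideal.span_le (I := (IsLocalRing.maximalIdeal P.carrier).map π₀.1)).2 ?_ hx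
      intro a ha
      have hv : π₀.1 (ι (MvPolynomial.X ⟨t.equivFin ⟨a, Finset.mem_union_left _ ha⟩⟩)) = a := by
        refine (AlgHom.congr_fun (congrArg Subtype.val hπ₀) _).trans ((MvPolynomial.aeval_X _ _).trans ?_)
        simp [v]
      rw [SetLike.mem_coe, ← hv]
      refine Ideal.mem_map_of_mem π₀.1 ?_
      rw [CRing.mem_maximalIdeal_iff, ← AlgHom.congr_fun π₀.2 _, AlgHom.comp_apply, hv]
      exact ((A 0).mem_maximalIdeal_iff a).1 (hg ▸ Ideal.subset_span ha)
    have step : ∀ n (φ : {φ : HomSet P.carrier P.res (A n) // Function.Surjective φ.1}),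
        ∃ ψ : {φ : HomSet P.carrier P.res (A (n + 1)) // Function.Surjective φ.1}, HomSet.map (f n) ψ.1 = φ.1 := by
      intro n φ
      choose c hc using fun i : ULift.{u} (Fin t.card) => hf n (φ.1.1 (ι (MvPolynomial.X i)))
      obtain ⟨ψ, hψ⟩ := (huniv (A (n + 1))).2 ⟨MvPolynomial.aeval c, MvPolynomial.algHom_ext fun i => by
        change (A (n + 1)).res (MvPolynomial.aeval c (MvPolynomial.X i)) = ρ (MvPolynomial.X i)
        rw [MvPolynomial.aeval_X, ← res_app (f n), hc, ← hι]
        exact AlgHom.congr_fun φ.1.2 _⟩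
      have hψφ : HomSet.map (f n) ψ = φ.1 := (huniv (A n)).1 (Subtype.ext (MvPolynomial.algHom_ext fun i => by
        change f n (ψ.1 (ι (MvPolynomial.X i))) = φ.1.1 (ι (MvPolynomial.X i))
        rw [← hc i]
        exact congrArg _ ((AlgHom.congr_fun (congrArg Subtype.val hψ) (MvPolynomial.X i)).trans
          (MvPolynomial.aeval_X c i))))
      obtain ⟨-, y, hym, hgen⟩ := exists_lift_gens (f n) (hf n)
      choose p hp using fun i => φ.2 (y i)
      have hY := hgen (hstab n (Nat.zero_le n)).symm (fun i => ψ.1 (p i))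
        fun i => (AlgHom.congr_fun (congrArg Subtype.val hψφ) (p i)).trans (hp i)
      refine ⟨⟨ψ, surjective_of_cotangent (S := cringOf (A (n + 1))) ψ.1 ψ.2 fun x hx =>
        Ideal.mem_sup_left ((Ideal.span_le (I := (IsLocalRing.maximalIdeal P.carrier).map ψ.1)).2 ?_ (hY hx))⟩, hψφ⟩
      rintro _ ⟨i, rfl⟩
      refine Ideal.mem_map_of_mem ψ.1 ?_
      rw [CRing.mem_maximalIdeal_iff, ← AlgHom.congr_fun φ.1.2 _, AlgHom.comp_apply, hp]
      exact ((A n).mem_maximalIdeal_iff _).1 (hym i)
    choose next hnext using step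
    let seq : (n : ℕ) → {φ : HomSet P.carrier P.res (A n) // Function.Surjective φ.1} := fun n =>
      Nat.rec ⟨π₀, hπ₀s⟩ (fun n φ => next n φ) n
    exact ⟨P, fun n => (seq n).1, fun n => hnext n (seq n), fun n => (seq n).2⟩

end Groth.Agent.Misc9.SF
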