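import Groth.Agent.Misc9.SF.Cond

/-! Fibre products and products of functors, objectwise. -/

universe u v

set_option synthInstance.maxHeartbeats 20000

open CategoryTheory CategoryTheory.Limits

namespace Groth.Agent.Misc9.SF

open ArtFun ArtFun.Art

variable {Λ k : Type u} [CommRing Λ] [Field k] [Algebra Λ k] {F G H : Art Λ k ⥤ Type v} (η : F ⟶ G) (θ : H ⟶ G)

theorem isPullback_app (A : Art Λ k) :
    IsPullback ((pullback.fst η θ).app A) ((pullback.snd η θ).app A) (η.app A) (θ.app A) :=
  (IsPullback.of_hasPullback η θ).map ((evaluation _ _).obj A)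

theorem pullback_exists (A : Art Λ k) (a : F.obj A) (b : H.obj A) (e : η.app A a = θ.app A b) :
    ∃ z, (pullback.fst η θ).app A z = a ∧ (pullback.snd η θ).app A z = b :=
  Types.exists_of_isPullback (isPullback_app η θ A) a b e

theorem pullback_ext' (A : Art Λ k) {z z' : (pullback η θ).obj A}
    (e : (pullback.fst η θ).app A z = (pullback.fst η θ).app A z')
    (e' : (pullback.snd η θ).app A z = (pullback.snd η θ).app A z') : z = z' :=
  Types.ext_of_isPullback (isPullback_app η θ A) e e'

theorem pullback_condition_app (A : Art Λ k) (z : (pullback η θ).obj A) :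
    η.app A ((pullback.fst η θ).app A z) = θ.app A ((pullback.snd η θ).app A z) := by
  have h := congrArg (fun τ => τ.app A z) (pullback.condition (f := η) (g := θ))
  exact h

theorem isSmooth_pullback_snd (hη : IsSmooth η) : IsSmooth (pullback.snd η θ) := by
  rw [isSmooth_iff] at hη ⊢
  intro B A μ hμ x y hy
  change H.map μ y = (pullback.snd η θ).app A x at hy
  obtain ⟨a, ha, ha'⟩ := hη μ hμ ((pullback.fst η θ).app A x) (θ.app B y) (by
    change G.map μ (θ.app B y) = η.app A _
    rw [pullback_condition_app, ← hy, NatTrans.naturality_apply])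
  obtain ⟨z, hz, hz'⟩ := pullback_exists η θ B a y ha'
  refine ⟨z, pullback_ext' η θ A ?_ ?_, hz'⟩
  · rw [NatTrans.naturality_apply, hz, ha]
  · rw [NatTrans.naturality_apply, hz', hy]

end Groth.Agent.Misc9.SF
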