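import Groth.Agent.Misc9.SF.PS
import Groth.Agent.Misc9.SF.Hull
import Groth.Agent.Misc9.SF.Essential
import Groth.Prelude.Def_W4sfdMinVersal

/-! Every versal family is a power series extension of a minimal one. -/

universe u v

set_option synthInstance.maxHeartbeats 40000
set_option maxHeartbeats 400000

open CategoryTheory

namespace Groth.Agent.Misc9.SF

open ArtFun ArtFun.Art IsLocalRing

variable {Λ k : Type u} [CommRing Λ] [Field k] [Algebra Λ k]

theorem isArtinian_art [IsNoetherianRing Λ] [Module.Finite Λ k] (A : Art Λ k) : IsArtinian Λ A := by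
  haveI hk : IsArtinian Λ k := by
    let K₀ := (algebraMap Λ k).range
    letI : Algebra Λ K₀ := (algebraMap Λ k).rangeRestrict.toAlgebra
    haveI : IsScalarTower Λ K₀ k := IsScalarTower.of_algebraMap_eq fun _ => rfl
    haveI : Module.Finite K₀ k := Module.Finite.of_restrictScalars_finite Λ K₀ k
    letI : Field K₀ := (isField_of_isIntegral_of_isField (R := K₀) (S := k) Subtype.val_injective (Field.toIsField k)).toField
    haveI : IsArtinian K₀ k := inferInstance
    let φ : Submodule Λ k ↪o Submodule K₀ k :=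
      OrderEmbedding.ofMapLEIff (fun P =>
        { P.toAddSubmonoid with
          smul_mem' := fun a q hq => by
            obtain ⟨s, hs⟩ := (algebraMap Λ k).rangeRestrict_surjective a
            have : a • q = s • q := by rw [← hs]; exact algebraMap_smul K₀ s q
            change a • q ∈ P
            rw [this]
            exact P.smul_mem s hq }) (fun P Q => Iff.rfl)
    exact ⟨(φ.ltEmbedding).isWellFounded.wf⟩
  suffices ∀ (M : Type u) [AddCommGroup M] [Module A M], IsFiniteLength A M →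
      ∀ [Module Λ M] [IsScalarTower Λ A M], IsArtinian Λ M from
    this A (isFiniteLength_iff_isNoetherian_isArtinian.2 ⟨inferInstance, inferInstance⟩)
  intro M _ _ hM
  induction hM with
  | of_subsingleton => exact inferInstance
  | @of_simple_quotient M _ _ N hs hN ih =>
    intro _ _
    haveI : IsArtinian Λ N := ih
    obtain ⟨I, hI, ⟨e⟩⟩ := isSimpleModule_iff_quot_maximal.1 hs
    haveI : IsArtinian Λ (A ⧸ I) := by
      have hIk : RingHom.ker A.res = I := (IsLocalRing.eq_maximalIdeal (RingHom.ker_isMaximal_of_surjective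
        (A.res : A →+* k) A.res_surjective)).trans (IsLocalRing.eq_maximalIdeal hI).symm
      subst hIk
      exact LinearEquiv.isArtinian_iff (Ideal.quotientKerAlgEquivOfSurjective A.res_surjective).toLinearEquiv |>.2 hk
    haveI : IsArtinian Λ (M ⧸ N) := (LinearEquiv.isArtinian_iff (e.restrictScalars Λ)).2 inferInstance
    exact isArtinian_of_range_eq_ker (N.subtype.restrictScalars Λ) (N.mkQ.restrictScalars Λ) (by ext x; simp)

/-- powers of an endomorphism. -/
def pw {X : Art Λ k} (a : X ⟶ X) : ℕ → (X ⟶ X)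
  | 0 => 𝟙 X
  | N + 1 => pw a N ≫ a

theorem pw_apply {X : Art Λ k} (a : X ⟶ X) (N : ℕ) (x : X) :
    pw a N x = (a.toAlgHom.toLinearMap ^ N) x := by
  induction N with
  | zero => rfl
  | succ N ih =>
    rw [pow_succ', Module.End.mul_apply, ← ih]
    rfl

theorem map_pw {F : Art Λ k ⥤ Type v} {X : Art Λ k} (a : X ⟶ X) (x : F.obj X) (h : F.map a x = x) (N : ℕ) :
    F.map (pw a N) x = x := by
  induction N with
  | zero => exact map_id' F x
  | succ N ih => rw [pw, ← map_map, ih, h]

theorem pw_add {X : Art Λ k} (a : X ⟶ X) (M N : ℕ) (x : X) : pw a (M + N) x = pw a M (pw a N x) := by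
  rw [pw_apply, pw_apply, pw_apply, pow_add, Module.End.mul_apply]

/-- eventually the kernel and the image of a power are complementary. -/
theorem exists_fitting [IsNoetherianRing Λ] [Module.Finite Λ k] {X : Art Λ k} (a : X ⟶ X) :
    ∃ e : X ⟶ X, (∀ x, e (e x) = e x) ∧ (∃ N, e ≫ pw a N = pw a N ∧ pw a N ≫ e = pw a N) ∧
      ∀ N, ∀ x, ∃ z, e x = pw a N z := by
  haveI := finite_art X
  haveI := isArtinian_art X
  obtain ⟨N, hN⟩ := Filter.eventually_atTop.1 (LinearMap.eventually_isCompl_ker_pow_range_pow a.toAlgHom.toLinearMap)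
  let N₁ := N + 1
  have hc := hN N₁ (Nat.le_succ N)
  have hinj : ∀ y y', (∃ z, pw a N₁ z = y) → (∃ z, pw a N₁ z = y') → pw a N₁ y = pw a N₁ y' → y = y' := by
    rintro y y' ⟨z, rfl⟩ ⟨z', rfl⟩ e
    rw [← sub_eq_zero, ← Submodule.mem_bot (R := Λ), ← hc.inf_eq_bot]
    refine ⟨?_, ?_⟩
    · rw [SetLike.mem_coe, LinearMap.mem_ker, ← pw_apply, map_sub, e, sub_self]
    · exact ⟨z - z', by rw [← pw_apply, map_sub]⟩
  have hex : ∀ x, ∃ y, (∃ z, pw a N₁ z = y) ∧ pw a N₁ y = pw a N₁ x := fun x => by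
    have hx : x ∈ LinearMap.ker (a.toAlgHom.toLinearMap ^ N₁) ⊔ LinearMap.range (a.toAlgHom.toLinearMap ^ N₁) := by
      rw [hc.sup_eq_top]; trivial
    obtain ⟨w, hw, y, ⟨z, hz⟩, rfl⟩ := Submodule.mem_sup.1 hx
    refine ⟨y, ⟨z, (pw_apply a N₁ z).trans hz⟩, ?_⟩
    rw [map_add, show pw a N₁ w = 0 from (pw_apply a N₁ w).trans hw, zero_add]
  choose e he he' using hex
  have uniq : ∀ x y, (∃ z, pw a N₁ z = y) → pw a N₁ y = pw a N₁ x → e x = y := fun x y hy hy' =>
    hinj _ _ (he x) hy ((he' x).trans hy'.symm)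
  let eA : X →ₐ[Λ] X :=
    { toFun := e
      map_one' := uniq _ _ ⟨1, map_one (pw a N₁).toAlgHom⟩ rfl
      map_mul' := fun x y => uniq _ _ (by
        obtain ⟨z, hz⟩ := he x
        obtain ⟨z', hz'⟩ := he y
        exact ⟨z * z', (map_mul (pw a N₁).toAlgHom z z').trans (congrArg₂ (· * ·) hz hz')⟩)
        (by rw [map_mul, he', he', map_mul])
      map_zero' := uniq _ _ ⟨0, map_zero (pw a N₁).toAlgHom⟩ rfl
      map_add' := fun x y => uniq _ _ (by
        obtain ⟨z, hz⟩ := he x
        obtain ⟨z', hz'⟩ := he y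
        exact ⟨z + z', (map_add (pw a N₁).toAlgHom z z').trans (congrArg₂ (· + ·) hz hz')⟩)
        (by rw [map_add, he', he', map_add])
      commutes' := fun l => uniq _ _ ⟨_, (pw a N₁).toAlgHom.commutes l⟩ rfl }
  let eH : X ⟶ X := ⟨eA, AlgHom.ext fun x => by
    have h := congrArg X.res (he' x)
    rwa [res_app, res_app] at h⟩
  refine ⟨eH, fun x => uniq _ _ (he x) rfl, ⟨N₁, ?_, ?_⟩, fun M x => ?_⟩
  · exact hom_ext' fun x => he' x
  · exact hom_ext' fun x => uniq _ _ ⟨x, rfl⟩ rfl
  · let x' := max M N₁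
    have hc' := hN x' ((Nat.le_succ N).trans (le_max_right _ _))
    obtain ⟨z, hz⟩ := he x
    have hz' : z ∈ LinearMap.ker (a.toAlgHom.toLinearMap ^ x') ⊔ LinearMap.range (a.toAlgHom.toLinearMap ^ x') := by
      rw [hc'.sup_eq_top]; trivial
    obtain ⟨w, hw, u, ⟨q, hq⟩, rfl⟩ := Submodule.mem_sup.1 hz'
    refine ⟨pw a (N₁ + (x' - M)) q, ?_⟩
    change e x = _
    rw [← pw_add, show M + (N₁ + (x' - M)) = N₁ + x' by have := le_max_left M N₁; omega, pw_add,
      show pw a x' q = u from (pw_apply a x' q).trans hq, ← hz, map_add]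
    have hd : pw a x' (pw a N₁ w) = 0 := by
      rw [← pw_add, add_comm, pw_add, show pw a x' w = 0 from (pw_apply a x' w).trans hw, map_zero]
    have hw0 : pw a N₁ w = 0 := by
      rw [← Submodule.mem_bot (R := Λ), ← hc.inf_eq_bot]
      refine ⟨?_, w, (pw_apply a N₁ w).symm⟩
      have hker : ∀ m, N₁ ≤ m → ∀ v, pw a m v = 0 → pw a N₁ v = 0 := fun m hm v hv => by
        induction m, hm using Nat.le_induction generalizing v with
        | base => exact hv
        | succ m hm ih =>
          have h1 : pw a N₁ (pw a (m + 1 - N₁) v) = 0 := by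
            rw [← pw_add, Nat.add_sub_cancel' (hm.trans (Nat.le_succ m))]; exact hv
          have h2 : pw a N₁ (pw a 1 v) = 0 := ih (pw a 1 v) (by rw [← pw_add]; exact hv)
          have h3 : pw a 1 (pw a N₁ v) = 0 := by rwa [← pw_add, add_comm, pw_add]
          rw [← Submodule.mem_bot (R := Λ), ← hc.inf_eq_bot]
          refine ⟨?_, v, (pw_apply a N₁ v).symm⟩
          rw [SetLike.mem_coe, LinearMap.mem_ker, ← pw_apply,
            show N₁ = N + 1 from rfl, pw_add a N 1, h3, map_zero]
      rw [SetLike.mem_coe, LinearMap.mem_ker, ← pw_apply]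
      exact hker x' (le_max_right _ _) (pw a N₁ w) hd
    rw [hw0, zero_add]

section Versal

variable [IsNoetherianRing Λ] [Module.Finite Λ k] {F : Art Λ k ⥤ Type v}

theorem truncMapOfHom_surj_apply {R S : CRing Λ k} (f : R.carrier →ₐ[Λ] S.carrier) (hf : S.res.comp f = R.res) (n : ℕ)
    (a : R.carrier) : CRing.truncMapOfHom f hf n ((R.truncHom n).1 a) = (S.truncHom n).1 (f a) := rfl

theorem truncMap_apply (R : CRing Λ k) (n : ℕ) (a : R.carrier) :
    R.truncMap n ((R.truncHom (n + 1)).1 a) = (R.truncHom n).1 a := rfl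

/-- the idempotent of an endomorphism fixing a formal element. -/
theorem exists_idem (R : CRing Λ k) (u : FormalElt F R) (α : R.carrier →ₐ[Λ] R.carrier) (hα : R.res.comp α = R.res)
    (hu : u.push α hα = u) :
    ∃ (e : R.carrier →ₐ[Λ] R.carrier) (he : R.res.comp e = R.res), u.push e he = u ∧ (∀ x, e (e x) = e x) ∧
      (∀ x, α x = 0 → e x = 0) ∧ ∀ x n, ∃ z, (R.truncHom n).1 (e x) = (R.truncHom n).1 (α z) := by
  choose e he he' he'' using fun n => exists_fitting (CRing.truncMapOfHom α hα n)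
  have hc : ∀ n, HomSet.map (R.truncMap n) (HomSet.map (e (n + 1)) (R.truncHom (n + 1))) = HomSet.map (e n) (R.truncHom n) := by
    intro n
    refine homSet_ext fun x => ?_
    obtain ⟨M, hM1, hM2⟩ := he' n
    obtain ⟨M', hM1', -⟩ := he' (n + 1)
    change R.truncMap n (e (n + 1) ((R.truncHom (n + 1)).1 x)) = e n ((R.truncHom n).1 x)
    have hcomm : ∀ L, pw (CRing.truncMapOfHom α hα (n + 1)) L ≫ R.truncMap n = R.truncMap n ≫ pw (CRing.truncMapOfHom α hα n) L := by
      intro L
      induction L with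
      | zero => simp [pw]
      | succ L ih => rw [pw, pw, Category.assoc, CRing.truncMapOfHom_truncMap, ← Category.assoc, ih, Category.assoc]
    obtain ⟨z, hz⟩ := he'' (n + 1) M ((R.truncHom (n + 1)).1 x)
    have hfix : e n (R.truncMap n (e (n + 1) ((R.truncHom (n + 1)).1 x))) = R.truncMap n (e (n + 1) ((R.truncHom (n + 1)).1 x)) := by
      rw [hz, show R.truncMap n (pw (CRing.truncMapOfHom α hα (n + 1)) M z) = pw (CRing.truncMapOfHom α hα n) M (R.truncMap n z) from
        congrArg (fun g => Hom.toAlgHom g z) (hcomm M)]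
      exact congrArg (fun g => Hom.toAlgHom g (R.truncMap n z)) hM2
    rw [← hfix]
    have hkey : ∀ y y', pw (CRing.truncMapOfHom α hα n) (M + M') y = pw (CRing.truncMapOfHom α hα n) (M + M') y' → e n y = e n y' := by
      intro y y' h
      rw [← sub_eq_zero, ← map_sub]
      have h0 : pw (CRing.truncMapOfHom α hα n) (M + M') (y - y') = 0 := by rw [map_sub, h, sub_self]
      obtain ⟨q, hq⟩ := he'' n (M + M') (y - y')
      have h1 : pw (CRing.truncMapOfHom α hα n) (M' + M) (y - y') = pw (CRing.truncMapOfHom α hα n) (M' + M) (e n (y - y')) := by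
        rw [pw_add _ M' M, pw_add _ M' M]
        exact congrArg _ (congrArg (fun g => Hom.toAlgHom g (y - y')) hM1).symm
      rw [add_comm M' M, h0] at h1
      have hcommute : ∀ L t, e n (pw (CRing.truncMapOfHom α hα n) M (pw (CRing.truncMapOfHom α hα n) L t)) = pw (CRing.truncMapOfHom α hα n) M (pw (CRing.truncMapOfHom α hα n) L t) :=
        fun L t => congrArg (fun g => Hom.toAlgHom g _) hM2
      obtain ⟨N₀, hN₀⟩ := Filter.eventually_atTop.1 (by
        haveI := finite_art (R.trunc n); haveI := isArtinian_art (R.trunc n)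
        exact LinearMap.eventually_isCompl_ker_pow_range_pow (CRing.truncMapOfHom α hα n).toAlgHom.toLinearMap)
      obtain ⟨q', hq'⟩ := he'' n (N₀ + (M + M')) (y - y')
      have hbig : pw (CRing.truncMapOfHom α hα n) (N₀ + (M + M')) (e n (y - y')) = 0 := by
        rw [pw_add, ← h1, map_zero]
      rw [← Submodule.mem_bot (R := Λ), ← (hN₀ (N₀ + (M + M')) (Nat.le_add_right _ _)).inf_eq_bot]
      exact ⟨(pw_apply _ _ _).symm.trans hbig, q', ((pw_apply _ _ _).symm.trans hq'.symm)⟩
    refine hkey _ _ ?_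
    rw [show pw (CRing.truncMapOfHom α hα n) (M + M') (R.truncMap n (e (n + 1) ((R.truncHom (n + 1)).1 x))) =
      R.truncMap n (pw (CRing.truncMapOfHom α hα (n + 1)) (M + M') (e (n + 1) ((R.truncHom (n + 1)).1 x))) from
        (congrArg (fun g => Hom.toAlgHom g (e (n + 1) ((R.truncHom (n + 1)).1 x))) (hcomm (M + M'))).symm,
      pw_add, show pw (CRing.truncMapOfHom α hα (n + 1)) M' (e (n + 1) ((R.truncHom (n + 1)).1 x)) =
        pw (CRing.truncMapOfHom α hα (n + 1)) M' ((R.truncHom (n + 1)).1 x) from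
        congrArg (fun g => Hom.toAlgHom g ((R.truncHom (n + 1)).1 x)) hM1', ← pw_add, ← truncMap_apply R n x]
    exact congrArg (fun g => Hom.toAlgHom g ((R.truncHom (n + 1)).1 x)) (hcomm (M + M'))
  obtain ⟨g, hg, hgn⟩ := exists_hom_of_system (fun n => HomSet.map (e n) (R.truncHom n)) hc
  have hgn' : ∀ n x, (R.truncHom n).1 (g x) = e n ((R.truncHom n).1 x) := fun n x =>
    AlgHom.congr_fun (congrArg Subtype.val (hgn n)) x
  have hpwfix : ∀ n, F.map (e n) (u.elt n) = u.elt n := fun n => by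
    obtain ⟨M, -, hM⟩ := he' n
    have h1 := map_pw (CRing.truncMapOfHom α hα n) (u.elt n) (congrArg (fun w : FormalElt F R => w.elt n) hu) M
    conv_lhs => rw [← h1]
    rw [map_map, hM, h1]
  refine ⟨g, hg, FormalElt.ext' fun n => ?_, fun x => ?_, fun x hx => ?_, fun x n => ?_⟩
  · change F.map (CRing.truncMapOfHom g hg n) (u.elt n) = u.elt n
    rw [show CRing.truncMapOfHom g hg n = e n from trunc_hom_ext R (homSet_ext fun x => hgn' n x)]
    exact hpwfix n
  · refine IsHausdorff.eq_iff_smodEq (I := maximalIdeal R.carrier) |>.2 fun n => ?_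
    rw [SModEq.sub_mem, smul_eq_mul, Ideal.mul_top]
    exact Ideal.pow_le_pow_right (Nat.le_succ n) (Ideal.Quotient.eq.1 (show (R.truncHom n).1 (g (g x)) = (R.truncHom n).1 (g x) by
      rw [hgn', hgn', he]))
  · refine IsHausdorff.haus (I := maximalIdeal R.carrier) inferInstance _ fun n => ?_
    rw [SModEq.zero, smul_eq_mul, Ideal.mul_top]
    refine Ideal.pow_le_pow_right (Nat.le_succ n) (Ideal.Quotient.eq_zero_iff_mem.1 ?_)
    change (R.truncHom n).1 (g x) = 0
    rw [hgn']
    obtain ⟨M, hM1, hM2⟩ := he' n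
    have ha : CRing.truncMapOfHom α hα n ((R.truncHom n).1 x) = 0 := by
      rw [truncMapOfHom_surj_apply, hx, map_zero]
    obtain ⟨z, hz⟩ := he'' n (M + 1) ((R.truncHom n).1 x)
    haveI := finite_art (R.trunc n)
    haveI := isArtinian_art (R.trunc n)
    obtain ⟨N₀, hN₀⟩ := Filter.eventually_atTop.1
      (LinearMap.eventually_isCompl_ker_pow_range_pow (CRing.truncMapOfHom α hα n).toAlgHom.toLinearMap)
    have hb : pw (CRing.truncMapOfHom α hα n) (M + 1) ((R.truncHom n).1 x) = 0 := by
      rw [pw_add, show pw (CRing.truncMapOfHom α hα n) 1 ((R.truncHom n).1 x) = 0 from ha, map_zero]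
    have hb' : pw (CRing.truncMapOfHom α hα n) (M + 1) (e n ((R.truncHom n).1 x)) = 0 := by
      rw [add_comm M 1, pw_add, show pw (CRing.truncMapOfHom α hα n) M (e n ((R.truncHom n).1 x)) =
        pw (CRing.truncMapOfHom α hα n) M ((R.truncHom n).1 x) from congrArg (fun t => Hom.toAlgHom t ((R.truncHom n).1 x)) hM1,
        ← pw_add, add_comm 1 M, hb]
    obtain ⟨q, hq⟩ := he'' n (N₀ + (M + 1)) ((R.truncHom n).1 x)
    rw [← Submodule.mem_bot (R := Λ), ← (hN₀ (N₀ + (M + 1)) (Nat.le_add_right _ _)).inf_eq_bot]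
    exact ⟨(pw_apply _ _ _).symm.trans (by rw [pw_add, hb', map_zero]), q, ((pw_apply _ _ _).symm.trans hq.symm)⟩
  · obtain ⟨z, hz⟩ := he'' n 1 ((R.truncHom n).1 x)
    obtain ⟨z', rfl⟩ := truncHom_surjective R n z
    exact ⟨z', (hgn' n x).trans hz⟩

theorem push_push {R S T : CRing Λ k} (u : FormalElt F R) (f : R.carrier →ₐ[Λ] S.carrier) (hf : S.res.comp f = R.res)
    (g : S.carrier →ₐ[Λ] T.carrier) (hg : T.res.comp g = S.res) (h : T.res.comp (g.comp f) = R.res) :
    u.push (g.comp f) h = (u.push f hf).push g hg :=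
  FormalElt.ext' fun n => by
    change F.map _ _ = F.map _ (F.map _ _)
    rw [map_map]
    exact congrArg (fun t => F.map t _) (trunc_hom_ext R (homSet_ext fun _ => rfl))

theorem push_id {R : CRing Λ k} (u : FormalElt F R) (h : R.res.comp (AlgHom.id Λ R.carrier) = R.res) :
    u.push (AlgHom.id Λ R.carrier) h = u :=
  FormalElt.ext' fun n => by
    change F.map (CRing.truncMapOfHom _ h n) _ = _
    rw [show CRing.truncMapOfHom (AlgHom.id Λ R.carrier) h n = 𝟙 _ from trunc_hom_ext R (homSet_ext fun _ => rfl), map_id']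

theorem exists_minimalVersal (h0 : H0 F) (V : VersalPair F) :
    ∃ (S : CRing Λ k) (ξS : Family S.carrier S.res F) (i : S.carrier →ₐ[Λ] V.ring.carrier) (hi : V.ring.res.comp i = S.res)
      (p : V.ring.carrier →ₐ[Λ] S.carrier), ξS.IsMinimalVersal ∧ p.comp i = AlgHom.id Λ S.carrier ∧
      ξS.toFormalElt.push i hi = V.family.toFormalElt := by
  let R := V.ring
  let u := V.family.toFormalElt
  let ok : Set (Ideal R.carrier) := {K | ∃ (e : R.carrier →ₐ[Λ] R.carrier) (he : R.res.comp e = R.res),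
    u.push e he = u ∧ (∀ x, e (e x) = e x) ∧ RingHom.ker e = K}
  obtain ⟨K, ⟨e, he, heu, hidem, hK⟩, hmax⟩ := set_has_maximal_iff_noetherian.2 (inferInstance : IsNoetherianRing R.carrier) ok
    ⟨_, AlgHom.id Λ R.carrier, AlgHom.comp_id _, push_id u _, fun _ => rfl, rfl⟩
  subst hK
  have hKm : RingHom.ker e ≤ maximalIdeal R.carrier := fun a ha => by
    rw [CRing.mem_maximalIdeal_iff, ← he, AlgHom.comp_apply, RingHom.mem_ker.1 ha, map_zero]
  let S := quotRing R (RingHom.ker e) hKm
  let p : R.carrier →ₐ[Λ] S.carrier := quotRingHom R (RingHom.ker e) hKm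
  have hp : S.res.comp p = R.res := quotRingHom_res R _ hKm
  let i : S.carrier →ₐ[Λ] R.carrier := Ideal.Quotient.liftₐ (RingHom.ker e) e fun a ha => RingHom.mem_ker.1 ha
  have hi : R.res.comp i = S.res := AlgHom.ext fun x => by
    obtain ⟨a, rfl⟩ := Ideal.Quotient.mk_surjective x
    exact (AlgHom.congr_fun he a).trans (AlgHom.congr_fun hp a).symm
  have hip : i.comp p = e := AlgHom.ext fun _ => rfl
  have hpi : p.comp i = AlgHom.id Λ S.carrier := AlgHom.ext fun x => by
    obtain ⟨a, rfl⟩ := Ideal.Quotient.mk_surjective x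
    refine Ideal.Quotient.eq.2 ?_
    rw [RingHom.mem_ker, map_sub, sub_eq_zero]
    exact hidem a
  let ξS := V.family.along p hp
  have hξi : ξS.toFormalElt.push i hi = u := by
    rw [← toFormalElt_push V.family p hp, ← push_push u p hp i hi (by rw [hip]; exact he)]
    simp only [hip]
    exact heu
  have hver : IsVersal ξS := by
    intro B A μ hμ φ y hy
    obtain ⟨ψ, hψ, hψy⟩ := V.versal μ hμ (alongHom p hp φ) y hy
    refine ⟨alongHom i hi ψ, ?_, ?_⟩
    · rw [map_alongHom, hψ]
      exact homSet_ext fun x => congrArg φ.1 (AlgHom.congr_fun hpi x)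
    · have h1 : ξS.along i hi = V.family := family_ext_formal (by rw [← toFormalElt_push]; exact hξi)
      rw [← hψy, ← h1]
      rfl
  refine ⟨S, ξS, i, hi, p, ⟨hver, fun T w f hf hwf => ?_⟩, hpi, hξi⟩
  obtain ⟨h, hh, hhw⟩ := exists_along_eq ξS hver w (exists_start h0 ξS w)
  rw [← toFormalElt_push] at hhw
  let β := f.comp h
  have hβ : S.res.comp β = S.res := by rw [← AlgHom.comp_assoc, hf, hh]
  have hβu : ξS.toFormalElt.push β hβ = ξS.toFormalElt := by
    rw [push_push _ h hh f hf, hhw, hwf]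
  let α := i.comp (β.comp p)
  have hα : R.res.comp α = R.res := by
    rw [← AlgHom.comp_assoc, hi, ← AlgHom.comp_assoc, hβ, hp]
  have hαu : u.push α hα = u := by
    rw [push_push u (β.comp p) (by rw [← AlgHom.comp_assoc, hβ, hp]) i hi, push_push u p hp β hβ,
      toFormalElt_push V.family p hp, hβu]
    exact hξi
  obtain ⟨e', he', he'u, hidem', hker', himg⟩ := exists_idem R u α hα hαu
  have hle : RingHom.ker e ≤ RingHom.ker e' := fun x hx => by
    refine RingHom.mem_ker.2 (hker' x ?_)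
    change i (β (p x)) = 0
    rw [show p x = 0 from Ideal.Quotient.eq_zero_iff_mem.2 hx, map_zero, map_zero]
  have heq : RingHom.ker e = RingHom.ker e' :=
    le_antisymm hle (not_lt_iff_le_imp_ge.1 (hmax (RingHom.ker e') ⟨e', he', he'u, hidem', rfl⟩) hle)
  have hβs : Function.Surjective β := by
    refine surjective_of_cotangent β hβ fun s hs => ?_
    obtain ⟨x, rfl⟩ := Ideal.Quotient.mk_surjective s
    have hx : p (x - e' x) = 0 := Ideal.Quotient.eq_zero_iff_mem.2 (by
      rw [heq, RingHom.mem_ker, map_sub, hidem', sub_self])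
    obtain ⟨z, hz⟩ := himg x 1
    have hd : e' x - α z ∈ CRing.mpow R 1 := Ideal.Quotient.eq.1 hz
    have hpm : ∀ a ∈ maximalIdeal R.carrier, p a ∈ maximalIdeal S.carrier := fun a ha => by
      rw [CRing.mem_maximalIdeal_iff, ← AlgHom.comp_apply, hp, ← CRing.mem_maximalIdeal_iff]; exact ha
    have hd' : p (e' x - α z) ∈ maximalIdeal S.carrier ^ 2 :=
      (Ideal.le_comap_pow p 2) (Ideal.pow_right_mono (fun a ha => hpm a ha : maximalIdeal R.carrier ≤ (maximalIdeal S.carrier).comap p) 2 hd)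
    have hsum : (Ideal.Quotient.mk (RingHom.ker e) x : S.carrier) = β (p z) + p (e' x - α z) := by
      have e1 : p (α z) = β (p z) := AlgHom.congr_fun hpi (β (p z))
      rw [map_sub, e1, add_sub_cancel]
      rw [map_sub, sub_eq_zero] at hx
      exact hx
    refine hsum ▸ add_mem (Ideal.mem_sup_left (Ideal.mem_map_of_mem β ?_)) (Ideal.mem_sup_right hd')
    rw [CRing.mem_maximalIdeal_iff, ← CRing.res_comp_apply β hβ]
    have hs' := (CRing.mem_maximalIdeal_iff S _).1 hs
    rw [hsum, map_add, (CRing.mem_maximalIdeal_iff S _).1 (Ideal.pow_le_self two_ne_zero hd'), add_zero] at hs'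
    exact hs'
  exact Function.Surjective.of_comp (show Function.Surjective (f ∘ h) from hβs)

theorem exists_powerSeries (R S : CRing Λ k) (ξ : Family R.carrier R.res F) (hξ : IsVersal ξ) (ξS : Family S.carrier S.res F)
    (i : S.carrier →ₐ[Λ] R.carrier) (hi : R.res.comp i = S.res) (p : R.carrier →ₐ[Λ] S.carrier)
    (hpi : p.comp i = AlgHom.id Λ S.carrier) (hu : ξS.toFormalElt.push i hi = ξ.toFormalElt) :
    ∃ (n : ℕ) (e : R.carrier ≃ₐ[Λ] MvPowerSeries (Fin n) S.carrier),
      ∀ a : S.carrier, e (i a) = algebraMap S.carrier (MvPowerSeries (Fin n) S.carrier) a := by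
  classical
  have hp : S.res.comp p = R.res := by
    refine AlgHom.ext fun x => ?_
    have h1 : R.res (x - i (p x)) = R.res x - S.res (p x) := by
      rw [map_sub, CRing.res_comp_apply i hi]
    have h2 : p (x - i (p x)) = 0 := by rw [map_sub, ← AlgHom.comp_apply p i, hpi, AlgHom.id_apply, sub_self]
    have h3 : x - i (p x) ∈ maximalIdeal R.carrier := by
      rw [IsLocalRing.mem_maximalIdeal]
      intro hunit
      exact not_isUnit_zero (h2 ▸ hunit.map p)
    rw [CRing.mem_maximalIdeal_iff, h1, sub_eq_zero] at h3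
    exact h3.symm
  let ok : ℕ → Prop := fun n => ∃ x : Fin n → R.carrier, (∀ j, p (x j) = 0) ∧
    RingHom.ker p ≤ Ideal.span (Set.range x) ⊔ maximalIdeal R.carrier ^ 2
  have hex : ∃ n, ok n := by
    obtain ⟨t, ht⟩ := (IsNoetherian.noetherian (RingHom.ker p) : (RingHom.ker p).FG)
    exact ⟨t.card, fun j => (t.equivFin.symm j : R.carrier), fun j => RingHom.mem_ker.1 (ht.le (Ideal.subset_span (t.equivFin.symm j).2)),
      ht.ge.trans (le_sup_of_le_left (Ideal.span_mono fun x hx => ⟨t.equivFin ⟨x, hx⟩, by simp⟩))⟩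
  obtain ⟨x, hx, hxs⟩ := Nat.find_spec hex
  let n := Nat.find hex
  let P := psRing S n
  have hxm : ∀ j, x j ∈ maximalIdeal R.carrier := fun j => by
    rw [CRing.mem_maximalIdeal_iff, ← CRing.res_comp_apply p hp, hx, map_zero]
  choose ψ hψ hψX using fun m => exists_ps_hom (C := S) (n := n) (alongHom i hi (R.truncHom m))
    (fun j => (R.truncHom m).1 (x j)) fun j => by
      rw [(R.trunc m).mem_maximalIdeal_iff, ← AlgHom.comp_apply, (R.truncHom m).2, ← CRing.mem_maximalIdeal_iff]
      exact hxm j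
  obtain ⟨g, hg, hgn⟩ := exists_hom_of_system ψ fun m => ps_hom_ext (by
      rw [← map_alongHom, hψ, hψ, map_alongHom, CRing.truncMap_truncHom]) fun j => by
      change (R.truncMap m) ((ψ (m + 1)).1 _) = _
      rw [hψX, hψX]
      exact truncMap_apply R m (x j)
  have hgC : g.comp (psC S n) = i := hom_ext_trunc fun m => AlgHom.ext fun a => by
    refine Eq.trans ?_ (AlgHom.congr_fun (congrArg Subtype.val (hψ m)) a)
    exact AlgHom.congr_fun (congrArg Subtype.val (hgn m)) (psC S n a)
  have hgX : ∀ j, g (psX S n j) = x j := fun j => by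
    refine IsHausdorff.eq_iff_smodEq (I := maximalIdeal R.carrier) |>.2 fun m => ?_
    rw [SModEq.sub_mem, smul_eq_mul, Ideal.mul_top]
    refine Ideal.pow_le_pow_right (Nat.le_succ m) (Ideal.Quotient.eq.1 ?_)
    exact (AlgHom.congr_fun (congrArg Subtype.val (hgn m)) _).trans (hψX m j)
  have hgs : Function.Surjective g := by
    refine surjective_of_cotangent g hg fun r hr => ?_
    have hsp : Ideal.span (Set.range x) ≤ (maximalIdeal P.carrier).map g := Ideal.span_le.2 (by
      rintro _ ⟨j, rfl⟩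
      rw [SetLike.mem_coe, ← hgX j]
      exact Ideal.mem_map_of_mem _ ((CRing.mem_maximalIdeal_iff _ _).2 (psX_res _ _ _)))
    rw [← sub_add_cancel r (i (p r))]
    refine add_mem (sup_le_sup_right hsp _ (hxs ?_)) (Ideal.mem_sup_left ?_)
    · rw [RingHom.mem_ker, map_sub, ← AlgHom.comp_apply p i, hpi, AlgHom.id_apply, sub_self]
    · rw [← hgC, AlgHom.comp_apply]
      refine Ideal.mem_map_of_mem _ ?_
      rw [CRing.mem_maximalIdeal_iff, ← AlgHom.comp_apply, psC_res, CRing.res_comp_apply p hp, ← CRing.mem_maximalIdeal_iff]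
      exact hr
  have hgk : ∀ f : P.carrier, g f ∈ maximalIdeal R.carrier ^ 2 → f ∈ maximalIdeal P.carrier ^ 2 := by
    intro f hf
    let c : S.carrier := MvPowerSeries.constantCoeff f
    have hdec : f - psC S n c ∈ Ideal.span (Set.range fun j => psX S n j) := by
      have h := Adic.PowerSeries.sub_C_mem (σ := Fin n) (R := S.carrier) f
      exact h
    obtain ⟨a, ha⟩ := Ideal.mem_span_range_iff_exists_fun.1 hdec
    have hf' : f = psC S n c + ∑ j, a j * psX S n j := by rw [ha, add_sub_cancel]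
    have hgf : g f = i c + ∑ j, g (a j) * x j := by
      rw [hf', map_add, map_sum, ← AlgHom.comp_apply g, hgC]
      exact congrArg _ (Finset.sum_congr rfl fun j _ => by rw [map_mul, hgX])
    have hple : maximalIdeal R.carrier ≤ (maximalIdeal S.carrier).comap p := fun z hz => by
      rw [Ideal.mem_comap, CRing.mem_maximalIdeal_iff, CRing.res_comp_apply p hp, ← CRing.mem_maximalIdeal_iff]; exact hz
    have hc : c ∈ maximalIdeal S.carrier ^ 2 := by
      have h1 : p (g f) = c := by
        rw [hgf, map_add, map_sum, ← AlgHom.comp_apply p i, hpi, AlgHom.id_apply]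
        simp [map_mul, hx]
      rw [← h1]
      exact (Ideal.le_comap_pow p 2) (Ideal.pow_right_mono hple 2 hf)
    have hC2 : psC S n c ∈ maximalIdeal P.carrier ^ 2 := by
      have hle : maximalIdeal S.carrier ≤ (maximalIdeal P.carrier).comap (psC S n) := fun z hz => by
        rw [Ideal.mem_comap, CRing.mem_maximalIdeal_iff, ← AlgHom.comp_apply, psC_res, ← CRing.mem_maximalIdeal_iff]; exact hz
      exact (Ideal.le_comap_pow (psC S n) 2) (Ideal.pow_right_mono hle 2 hc)
    by_cases hall : ∀ j, a j ∈ maximalIdeal P.carrier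
    · rw [hf']
      refine add_mem hC2 ?_
      rw [pow_two]
      exact Ideal.sum_mem _ fun j _ => Ideal.mul_mem_mul (hall j) ((CRing.mem_maximalIdeal_iff _ _).2 (psX_res _ _ _))
    exfalso
    push Not at hall
    obtain ⟨j, hj⟩ := hall
    obtain ⟨M, hM⟩ : ∃ M, n = M + 1 := ⟨n - 1, by have := j.isLt; omega⟩
    refine Nat.find_min hex (show M < Nat.find hex by have : n = Nat.find hex := rfl; omega) ?_
    let x' : Fin (M + 1) → R.carrier := fun l => x (Fin.cast hM.symm l)
    let j' : Fin (M + 1) := Fin.cast hM j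
    have hrel : (∑ l, g (a l) * x l) ∈ maximalIdeal R.carrier ^ 2 := by
      have hic : i c ∈ maximalIdeal R.carrier ^ 2 := by
        rw [← hgC, AlgHom.comp_apply]
        have hle : maximalIdeal P.carrier ≤ (maximalIdeal R.carrier).comap g := CRing.maximalIdeal_le_comap g hg
        exact (Ideal.le_comap_pow g 2) (Ideal.pow_right_mono hle 2 hC2)
      rw [show (∑ l, g (a l) * x l) = g f - i c by rw [hgf, add_sub_cancel_left]]
      exact sub_mem hf hic
    refine ⟨fun l => x' (j'.succAbove l), fun l => hx _, hxs.trans (sup_le ?_ le_sup_right)⟩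
    refine Ideal.span_le.2 ?_
    rintro _ ⟨l, rfl⟩
    have hother : ∀ l, l ≠ j → x l ∈ Ideal.span (Set.range fun l => x' (j'.succAbove l)) ⊔ maximalIdeal R.carrier ^ 2 := fun l hl => by
      obtain ⟨m, hm⟩ := Fin.exists_succAbove_eq (show Fin.cast hM l ≠ j' from fun e => hl ((Fin.cast_injective hM) e))
      exact Ideal.mem_sup_left (Ideal.subset_span ⟨m, by simp [x', hm]⟩)
    by_cases hlj : l = j
    · subst hlj
      have hunit : IsUnit (g (a l)) := (IsLocalRing.notMem_maximalIdeal.1 hj).map g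
      rw [SetLike.mem_coe, ← Ideal.unit_mul_mem_iff_mem _ hunit]
      rw [← Finset.add_sum_erase _ _ (Finset.mem_univ l)] at hrel
      rw [← add_sub_cancel_right (g (a l) * x l) (∑ y ∈ Finset.univ.erase l, g (a y) * x y)]
      exact sub_mem (Ideal.mem_sup_right hrel) (Ideal.sum_mem _ fun y hy => Ideal.mul_mem_left _ _ (hother y (Finset.ne_of_mem_erase hy)))
    · exact hother l hlj
  have hb : Function.Bijective (CRing.truncMapOfHom g hg 1) := by
    refine ⟨fun a b eab => ?_, fun y => ?_⟩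
    · obtain ⟨a, rfl⟩ := truncHom_surjective P 1 a
      obtain ⟨b, rfl⟩ := truncHom_surjective P 1 b
      refine Ideal.Quotient.eq.2 (hgk _ ?_)
      rw [map_sub]
      exact Ideal.Quotient.eq.1 eab
    · obtain ⟨y, rfl⟩ := truncHom_surjective R 1 y
      obtain ⟨a, rfl⟩ := hgs y
      exact ⟨(P.truncHom 1).1 a, rfl⟩
  obtain ⟨v, hv⟩ : ∃ v : FormalElt F P, v = ξS.toFormalElt.push (psC S n) (psC_res S n) := ⟨_, rfl⟩
  have hvg : v.push g hg = ξ.toFormalElt := by
    rw [hv, ← push_push _ _ _ _ _ (by rw [hgC]; exact hi), ← hu]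
    simp only [hgC]
  obtain ⟨inv, hinv', hinv⟩ := exists_inverse _ hb
  let φ₁ : HomSet R.carrier R.res (P.trunc 1) := HomSet.map inv (R.truncHom 1)
  have hφ₁ : ξ.app _ φ₁ = v.elt 1 := by
    rw [ξ.natural, show ξ.app _ (R.truncHom 1) = F.map (CRing.truncMapOfHom g hg 1) (v.elt 1) from
      (congrArg (fun w : FormalElt F R => w.elt 1) hvg).symm, map_map, hinv', map_id']
  have step : ∀ m (φ : {φ : HomSet R.carrier R.res (P.trunc (m + 1)) // ξ.app _ φ = v.elt (m + 1)}),
      ∃ ψ : {φ : HomSet R.carrier R.res (P.trunc (m + 2)) // ξ.app _ φ = v.elt (m + 2)},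
        HomSet.map (P.truncMap (m + 1)) ψ.1 = φ.1 := fun m φ => by
    obtain ⟨ψ, hψ, hψ'⟩ := hξ (P.truncMap (m + 1)) (truncMap_surjective P (m + 1)) φ.1 (v.elt (m + 2))
      ((v.compat (m + 1)).trans φ.2.symm)
    exact ⟨⟨ψ, hψ'⟩, hψ⟩
  choose next hnext using step
  let seq : (m : ℕ) → {φ : HomSet R.carrier R.res (P.trunc (m + 1)) // ξ.app _ φ = v.elt (m + 1)} :=
    fun m => Nat.rec ⟨φ₁, hφ₁⟩ (fun m φ => next m φ) m
  obtain ⟨h, hh, hhn⟩ := exists_hom_of_system (fun m => HomSet.map (P.truncMap m) (seq m).1) fun m =>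
    congrArg (HomSet.map (P.truncMap m)) (hnext m (seq m))
  have h1 : ∀ r, (P.truncHom 1).1 (h r) = inv ((R.truncHom 1).1 r) := fun r =>
    (AlgHom.congr_fun (congrArg Subtype.val ((hhn 1).trans (hnext 0 (seq 0)))) r)
  have hgh : Function.Surjective (g.comp h) := by
    refine surjective_of_cotangent _ (by rw [← AlgHom.comp_assoc, hg, hh]) fun r hr => ?_
    rw [← sub_add_cancel r (g (h r))]
    refine add_mem (Ideal.mem_sup_right (Ideal.Quotient.eq.1 ?_)) (Ideal.mem_sup_left (Ideal.mem_map_of_mem (g.comp h) hr))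
    change (R.truncHom 1).1 r = CRing.truncMapOfHom g hg 1 ((P.truncHom 1).1 (h r))
    rw [h1, ← Art.comp_apply, hinv]
    rfl
  have hhg : Function.Surjective (h.comp g) := by
    refine surjective_of_cotangent _ (by rw [← AlgHom.comp_assoc, hh, hg]) fun r hr => ?_
    rw [← sub_add_cancel r (h (g r))]
    refine add_mem (Ideal.mem_sup_right (Ideal.Quotient.eq.1 ?_)) (Ideal.mem_sup_left (Ideal.mem_map_of_mem (h.comp g) hr))
    change (P.truncHom 1).1 r = (P.truncHom 1).1 (h (g r))
    rw [h1, ← truncMapOfHom_surj_apply g hg 1, ← Art.comp_apply, hinv']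
    rfl
  have hgi : Function.Injective g :=
    Function.Injective.of_comp (f := h) (injective_of_surjective_endo (h.comp g).toRingHom hhg)
  refine ⟨n, (AlgEquiv.ofBijective g ⟨hgi, hgs⟩).symm, fun a => ?_⟩
  refine (AlgEquiv.symm_apply_eq (AlgEquiv.ofBijective g ⟨hgi, hgs⟩)).2 ?_
  refine (AlgHom.congr_fun hgC a).symm.trans ?_
  exact congrArg g (MvPowerSeries.algebraMap_apply (R := S.carrier) (A := S.carrier) (σ := Fin n)).symm

end Versal

end Groth.Agent.Misc9.SF
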