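import Groth.Agent.Misc9.SF.Hull

/-! Necessity of Schlessinger's conditions. -/

universe u v

set_option synthInstance.maxHeartbeats 20000
set_option maxHeartbeats 400000

open CategoryTheory

namespace Groth.Agent.Misc9.SF

open ArtFun ArtFun.Art

variable {Λ k : Type u} [CommRing Λ] [Field k] [Algebra Λ k] {F : Art Λ k ⥤ Type v}

theorem app_surjective_of_versal {R : Type u} [CommRing R] [Algebra Λ R] {resR : R →ₐ[Λ] k}
    (h0 : Subsingleton (F.obj (base Λ k))) {ξ : Family R resR F} (hξ : IsVersal ξ) (A : Art Λ k) :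
    Function.Surjective (ξ.app A) := fun y => by
  obtain ⟨φ, -, hφ⟩ := hξ (toBase A) (toBase_surjective A) (homSetBase R resR) y (h0.elim _ _)
  exact ⟨φ, hφ⟩

theorem s1_of_versal {R : Type u} [CommRing R] [Algebra Λ R] {resR : R →ₐ[Λ] k}
    (h0 : Subsingleton (F.obj (base Λ k))) {ξ : Family R resR F} (hξ : IsVersal ξ) : S1 F := by
  intro B A A' A'' p' p'' f' f'' h hf
  refine cmp_surjective_of fun x y e => ?_
  obtain ⟨φ, rfl⟩ := app_surjective_of_versal h0 hξ A' x
  obtain ⟨ψ, hψ, rfl⟩ := hξ f'' hf (HomSet.map f' φ) y (e.symm.trans (ξ.natural f' φ).symm)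
  obtain ⟨l, hl, hl'⟩ := homSet_lift h φ ψ hψ.symm
  exact ⟨ξ.app B l, by rw [← ξ.natural, hl], by rw [← ξ.natural, hl']⟩

theorem heps_of_miniversal {R : Type u} [CommRing R] [Algebra Λ R] {resR : R →ₐ[Λ] k}
    (h0 : Subsingleton (F.obj (base Λ k))) {ξ : Family R resR F} (hξ : IsMiniversal ξ) : Heps F := by
  intro B A' p' p'' h
  refine ⟨cmp_injective_of fun z z' e e' => ?_, s1_of_versal h0 hξ.1 p' p'' _ _ h (toBase_surjective _)⟩
  obtain ⟨φ, rfl⟩ := app_surjective_of_versal h0 hξ.1 B z
  have hs : Function.Surjective p' := fun a => by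
    obtain ⟨d, hd⟩ := toBase_surjective (dual Λ k) (toBase A' a)
    obtain ⟨b, hb, -⟩ := h.surj a d hd.symm
    exact ⟨b, hb⟩
  obtain ⟨ψ, hψ, rfl⟩ := hξ.1 p' hs (HomSet.map p' φ) z' (e.symm.trans (ξ.natural p' φ).symm)
  have h2 : HomSet.map p'' φ = HomSet.map p'' ψ := hξ.2.1 (by rw [ξ.natural, ξ.natural, e'])
  rw [homSet_inj h hψ.symm h2]

theorem exists_finset_dual [IsNoetherianRing Λ] [Module.Finite Λ k] (R : CRing Λ k) :
    ∃ s : Finset R.carrier, ∀ a b : HomSet R.carrier R.res (dual Λ k),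
      (∀ r ∈ s, (a.1 r : DualNumber k).snd = (b.1 r : DualNumber k).snd) → a = b := by
  classical
  obtain ⟨g, hg⟩ := (IsNoetherian.noetherian (IsLocalRing.maximalIdeal R.carrier) :
    (IsLocalRing.maximalIdeal R.carrier).FG)
  obtain ⟨e, he⟩ := (Module.Finite.fg_top : (⊤ : Submodule Λ k).FG)
  choose sec hsec using R.res_surjective
  refine ⟨g ∪ e.image sec, fun a b h => ?_⟩
  have hfst : ∀ (a : HomSet R.carrier R.res (dual Λ k)) r, (a.1 r : DualNumber k).fst = R.res r :=
    fun a r => AlgHom.congr_fun a.2 r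
  have heq : ∀ r, (a.1 r : DualNumber k).snd = (b.1 r : DualNumber k).snd → a.1 r = b.1 r := fun r hr =>
    TrivSqZeroExt.ext ((hfst a r).trans (hfst b r).symm) hr
  have hm : ∀ x ∈ IsLocalRing.maximalIdeal R.carrier, a.1 x = b.1 x := by
    intro x hx
    rw [← hg] at hx
    induction hx using Submodule.span_induction with
    | mem y hy => exact heq y (h y (Finset.mem_union_left _ hy))
    | zero => rw [map_zero, map_zero]
    | add u w _ _ hu hw => rw [map_add, map_add, hu, hw]
    | smul c u hu' hu =>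
      rw [hg] at hu'
      rw [smul_eq_mul, map_mul, map_mul, hu]
      have h0 : (b.1 u : DualNumber k).fst = 0 := (hfst b u).trans ((CRing.mem_maximalIdeal_iff R u).1 hu')
      refine TrivSqZeroExt.ext ?_ ?_
      · change (a.1 c : DualNumber k).fst * _ = (b.1 c : DualNumber k).fst * _
        rw [hfst, hfst]
      · change (a.1 c : DualNumber k).fst • (b.1 u : DualNumber k).snd + MulOpposite.op (b.1 u : DualNumber k).fst • (a.1 c : DualNumber k).snd =
          (b.1 c : DualNumber k).fst • (b.1 u : DualNumber k).snd + MulOpposite.op (b.1 u : DualNumber k).fst • (b.1 c : DualNumber k).snd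
        rw [hfst, hfst b c, h0]
        simp
  refine homSet_ext fun r => ?_
  have hE : ∀ c : k, ∃ r', R.res r' = c ∧ a.1 r' = b.1 r' := by
    intro c
    have hc : c ∈ Submodule.span Λ (e : Set k) := he ▸ Submodule.mem_top
    induction hc using Submodule.span_induction with
    | mem y hy => exact ⟨sec y, hsec y, heq _ (h _ (Finset.mem_union_right _ (Finset.mem_image_of_mem sec hy)))⟩
    | zero => exact ⟨0, map_zero _, by rw [map_zero, map_zero]⟩
    | add u w _ _ hu hw =>
      obtain ⟨u', rfl, hu'⟩ := hu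
      obtain ⟨w', rfl, hw'⟩ := hw
      exact ⟨u' + w', map_add _ _ _, by rw [map_add, map_add, hu', hw']⟩
    | smul l u _ hu =>
      obtain ⟨u', rfl, hu'⟩ := hu
      exact ⟨l • u', map_smul _ _ _, by rw [map_smul, map_smul, hu']⟩
  obtain ⟨r', hr', hr''⟩ := hE (R.res r)
  have := hm (r - r') (by rw [CRing.mem_maximalIdeal_iff, map_sub, hr', sub_self])
  rwa [map_sub, map_sub, hr'', sub_left_inj] at this

theorem hfin_of_miniversal [IsNoetherianRing Λ] [Module.Finite Λ k] [TangentStr F] (R : CRing Λ k)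
    {ξ : Family R.carrier R.res F} (hξ : IsMiniversal ξ) : Hfin F := by
  obtain ⟨s, hs⟩ := exists_finset_dual R
  choose a ha using fun x : TangentSpace F => hξ.2.2 (TangentSpace.val x)
  let Φ : TangentSpace F →ₗ[k] (s → k) :=
    { toFun := fun x r => ((a x).1 r : DualNumber k).snd
      map_add' := fun x y => by
        obtain ⟨l, hl, hl'⟩ := homSet_lift isFibreProd_dual2 (a x) (a y)
          (Subtype.ext ((homSet_base _).trans (homSet_base _).symm))
        have h : TangentSpace.mk (ξ.app _ (HomSet.map plus l)) = x + y := by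
          rw [tangent_add_eq, hl, hl', ha, ha]; rfl
        have h' : HomSet.map plus l = a (x + y) := hξ.2.1 (h.trans (ha (x + y)).symm)
        funext r
        rw [← h']
        have e₁ : ((HomSet.map pr₁ l).1 r : DualNumber k).snd = ((a x).1 r : DualNumber k).snd := by rw [hl]
        have e₂ : ((HomSet.map pr₂ l).1 r : DualNumber k).snd = ((a y).1 r : DualNumber k).snd := by rw [hl']
        rw [Pi.add_apply, ← e₁, ← e₂]
        rfl
      map_smul' := fun c x => by
        have h : TangentSpace.mk (ξ.app _ (HomSet.map (scale c) (a x))) = c • x := by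
          rw [ξ.natural, ha]
          exact (TangentStr.smul_eq c _).symm
        have h' : HomSet.map (scale c) (a x) = a (c • x) := hξ.2.1 (h.trans (ha (c • x)).symm)
        funext r
        rw [← h']
        rfl }
  refine Module.Finite.of_injective Φ fun x y hxy => ?_
  have h := hs (a x) (a y) fun r hr => congrFun hxy ⟨r, hr⟩
  have h' := congrArg (ξ.app _) h
  rw [ha, ha] at h'
  exact h'

theorem isMiniversal_of_isUniversal {R : Type u} [CommRing R] [Algebra Λ R] {resR : R →ₐ[Λ] k}
    {ξ : Family R resR F} (hξ : IsUniversal ξ) : IsMiniversal ξ :=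
  ⟨fun B A μ _ ψ y hy => by
    obtain ⟨χ, hχ⟩ := (hξ B).2 y
    exact ⟨χ, (hξ A).1 (by rw [ξ.natural, hχ, hy]), hχ⟩, hξ _⟩

theorem h0_of_isUniversal {R : Type u} [CommRing R] [Algebra Λ R] {resR : R →ₐ[Λ] k}
    {ξ : Family R resR F} (hξ : IsUniversal ξ) : H0 F := by
  refine ⟨⟨ξ.app _ (homSetBase R resR)⟩, ⟨fun x y => ?_⟩⟩
  obtain ⟨a, rfl⟩ := (hξ _).2 x
  obtain ⟨b, rfl⟩ := (hξ _).2 y
  rw [show a = b from Subtype.ext ((homSet_base a).trans (homSet_base b).symm)]

theorem isLeftExact_of_isUniversal {R : Type u} [CommRing R] [Algebra Λ R] {resR : R →ₐ[Λ] k}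
    {ξ : Family R resR F} (hξ : IsUniversal ξ) : IsLeftExact F := by
  intro B A A' A'' p' p'' f' f'' h
  refine ⟨cmp_injective_of fun z z' e e' => ?_, cmp_surjective_of fun x y e => ?_⟩
  · obtain ⟨a, rfl⟩ := (hξ B).2 z
    obtain ⟨b, rfl⟩ := (hξ B).2 z'
    rw [← ξ.natural, ← ξ.natural] at e e'
    rw [homSet_inj h ((hξ _).1 e) ((hξ _).1 e')]
  · obtain ⟨a, rfl⟩ := (hξ A').2 x
    obtain ⟨b, rfl⟩ := (hξ A'').2 y
    rw [← ξ.natural, ← ξ.natural] at e
    obtain ⟨l, hl, hl'⟩ := homSet_lift h a b ((hξ A).1 e)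
    exact ⟨ξ.app B l, by rw [← ξ.natural, hl], by rw [← ξ.natural, hl']⟩

theorem derivationMap_injective_of_isUniversal {R : CRing Λ k} {ξ : Family R.carrier R.res F} (hξ : IsUniversal ξ)
    (x₀ : F.obj (base Λ k)) : Function.Injective (fun σ : base Λ k ⟶ dual Λ k => F.map σ x₀) := by
  intro σ τ e
  have h0 := (h0_of_isUniversal hξ).2
  have e' : ξ.app _ (HomSet.map σ (homSetBase R.carrier R.res)) = ξ.app _ (HomSet.map τ (homSetBase R.carrier R.res)) := by
    rw [ξ.natural, ξ.natural, h0.elim (ξ.app _ (homSetBase R.carrier R.res)) x₀]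
    exact e
  refine hom_ext' fun c => ?_
  obtain ⟨r, hr⟩ := R.res_surjective c
  have := AlgHom.congr_fun (congrArg Subtype.val ((hξ _).1 e')) r
  rw [← hr]
  exact this

theorem base_dual_subsingleton_of_derivation (hk : Subsingleton (Derivation Λ k k)) :
    Subsingleton (base Λ k ⟶ dual Λ k) := by
  let der : (base Λ k ⟶ dual Λ k) → Derivation Λ k k := fun σ =>
    Derivation.mk' ((TrivSqZeroExt.sndHom k k).restrictScalars Λ |>.comp σ.toAlgHom.toLinearMap) fun s t => by
      have hf : ∀ c : k, (σ c : DualNumber k).fst = c := fun c => res_app σ c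
      change (σ.toAlgHom (s * t) : DualNumber k).snd = s • (σ t : DualNumber k).snd + t • (σ s : DualNumber k).snd
      refine ((congrArg TrivSqZeroExt.snd (map_mul σ.toAlgHom s t)).trans ?_)
      change (σ s : DualNumber k).fst • (σ t : DualNumber k).snd + MulOpposite.op (σ t : DualNumber k).fst • (σ s : DualNumber k).snd = _
      rw [hf, hf, op_smul_eq_smul]
  refine ⟨fun σ τ => hom_ext' fun c => TrivSqZeroExt.ext ((res_app σ c).trans (res_app τ c).symm) ?_⟩
  exact congrArg (fun D : Derivation Λ k k => D c) (hk.elim (der σ) (der τ))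

theorem base_dual_subsingleton_of_surjective (h : Function.Surjective (algebraMap Λ k)) :
    Subsingleton (base Λ k ⟶ dual Λ k) :=
  ⟨fun σ τ => hom_ext' fun c => by
    obtain ⟨l, rfl⟩ := h c
    exact (σ.toAlgHom.commutes l).trans (τ.toAlgHom.commutes l).symm⟩

end Groth.Agent.Misc9.SF
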