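import Groth.Agent.Misc9.SF.PS
import Groth.Agent.Misc9.SF.Prorep

/-! A smooth coefficient ring over a complete base is a power series ring. -/

universe u v

set_option synthInstance.maxHeartbeats 20000
set_option maxHeartbeats 400000

open CategoryTheory

namespace Groth.Agent.Misc9.SF

open ArtFun ArtFun.Art

variable {Λ k : Type u} [CommRing Λ] [Field k] [Algebra Λ k]

theorem exists_params [IsNoetherianRing Λ] [Module.Finite Λ k] (hk : Function.Surjective (algebraMap Λ k))
    (R : CRing Λ k) :
    ∃ (n : ℕ) (x : Fin n → R.carrier), (∀ i, x i ∈ IsLocalRing.maximalIdeal R.carrier) ∧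
      Function.Bijective (fun (a : HomSet R.carrier R.res (dual Λ k)) i => (a.1 (x i) : DualNumber k).snd) := by
  classical
  obtain ⟨s₀, hs₀⟩ := exists_finset_dual R
  choose sec hsec using hk
  let nrm : R.carrier → R.carrier := fun r => r - algebraMap Λ R.carrier (sec (R.res r))
  have hnrm : ∀ r, nrm r ∈ IsLocalRing.maximalIdeal R.carrier := fun r => by
    rw [CRing.mem_maximalIdeal_iff, map_sub, AlgHom.commutes, hsec, sub_self]
  have hsnd : ∀ (a : HomSet R.carrier R.res (dual Λ k)) r, (a.1 (nrm r) : DualNumber k).snd = (a.1 r : DualNumber k).snd := by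
    intro a r
    rw [map_sub, AlgHom.commutes]
    let u : DualNumber k := a.1 r
    change TrivSqZeroExt.snd (u - algebraMap Λ (DualNumber k) (sec (R.res r))) = TrivSqZeroExt.snd u
    rw [TrivSqZeroExt.snd_sub, TrivSqZeroExt.algebraMap_eq_inl', TrivSqZeroExt.snd_inl, sub_zero]
  let ev : HomSet R.carrier R.res (dual Λ k) → (s₀ → k) := fun a r => (a.1 (nrm r) : DualNumber k).snd
  have hev : Function.Injective ev := fun a b h => hs₀ a b fun r hr => by
    rw [← hsnd a r, ← hsnd b r]
    exact congrFun h ⟨r, hr⟩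
  let V : Submodule k (s₀ → k) :=
    { carrier := Set.range ev
      add_mem' := by
        rintro _ _ ⟨a, rfl⟩ ⟨b, rfl⟩
        obtain ⟨l, hl, hl'⟩ := homSet_lift isFibreProd_dual2 a b
          (Subtype.ext ((homSet_base _).trans (homSet_base _).symm))
        refine ⟨HomSet.map plus l, funext fun r => ?_⟩
        have e₁ : ((HomSet.map pr₁ l).1 (nrm r) : DualNumber k).snd = (a.1 (nrm r) : DualNumber k).snd := by rw [hl]
        have e₂ : ((HomSet.map pr₂ l).1 (nrm r) : DualNumber k).snd = (b.1 (nrm r) : DualNumber k).snd := by rw [hl']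
        change _ = ev a r + ev b r
        simp only [ev]
        rw [← e₁, ← e₂]
        rfl
      zero_mem' := ⟨HomSet.map (scale 0) (HomSet.map baseToDual (homSetBase R.carrier R.res)), funext fun r => by
        change (0 : k) • (_ : k) = 0
        exact zero_smul k _⟩
      smul_mem' := by
        rintro c _ ⟨a, rfl⟩
        exact ⟨HomSet.map (scale c) a, rfl⟩ }
  let p : s₀ → Module.Dual k V := fun r => (LinearMap.proj r).comp V.subtype
  obtain ⟨t, ht, htspan, htli⟩ := exists_linearIndependent k (Set.range p)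
  haveI : Finite t := htli.finite
  haveI : Fintype t := Fintype.ofFinite t
  choose idx hidx using fun i : t => ht i.2
  let e := (Fintype.equivFin t).symm
  refine ⟨Fintype.card t, fun i => nrm (idx (e i)), fun i => hnrm _, ?_⟩
  let Φ : V →ₗ[k] (t → k) := LinearMap.pi fun i => p (idx i)
  have hinj : Function.Injective Φ := by
    rw [← LinearMap.ker_eq_bot, LinearMap.ker_eq_bot']
    intro v hv
    refine Subtype.ext (funext fun r => ?_)
    have hmem : p r ∈ Submodule.span k t := htspan.symm ▸ Submodule.subset_span ⟨r, rfl⟩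
    exact (Submodule.span_le (p := LinearMap.ker (Module.Dual.eval k V v))).2 (fun w hw => by
      have := congrFun hv ⟨w, hw⟩
      change p (idx ⟨w, hw⟩) v = 0 at this
      rw [hidx] at this
      exact this) hmem
  have hsurjΦ : Function.Surjective Φ := by
    refine (LinearMap.injective_iff_surjective_of_finrank_eq_finrank ?_).1 hinj
    refine le_antisymm (LinearMap.finrank_le_finrank_of_injective hinj) ?_
    have h1 := htli.fintype_card_le_finrank
    rw [Subspace.dual_finrank_eq] at h1
    rw [Module.finrank_fintype_fun_eq_card]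
    exact h1
  refine ⟨fun a b h => hev ?_, fun c => ?_⟩
  · have := @hinj ⟨ev a, a, rfl⟩ ⟨ev b, b, rfl⟩ (funext fun i => by
      have hh := congrFun h (e.symm i)
      simp only [Equiv.apply_symm_apply] at hh
      exact hh)
    exact congrArg Subtype.val this
  · obtain ⟨⟨_, a, rfl⟩, hv⟩ := hsurjΦ fun i => c (e.symm i)
    refine ⟨a, funext fun i => ?_⟩
    have := congrFun hv (e i)
    simp only [Equiv.symm_apply_apply] at this
    exact this

variable [IsLocalRing Λ] [IsNoetherianRing Λ] [IsAdicComplete (IsLocalRing.maximalIdeal Λ) Λ] [Module.Finite Λ k]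

theorem exists_psEquiv_of_smooth (hk : Function.Surjective (algebraMap Λ k)) (R : CRing Λ k)
    (hR' : IsSmoothFunctor (hR R.carrier R.res)) :
    ∃ n : ℕ, Nonempty (R.carrier ≃ₐ[Λ] MvPowerSeries (Fin n) Λ) := by
  obtain ⟨n, x, hx, hbij⟩ := exists_params hk R
  let C : CRing Λ k := cringSelf hk
  choose φ hφ hφX using fun N => exists_ps_hom (C := C) (A := R.trunc N) (selfPt hk (R.trunc N))
    (fun i => (R.truncHom N).1 (x i)) fun i => by
      rw [Art.mem_maximalIdeal_iff, ← AlgHom.comp_apply, (R.truncHom N).2, ← CRing.mem_maximalIdeal_iff]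
      exact hx i
  have hC : ∀ {A : Art Λ k} (u w : HomSet C.carrier C.res A), u = w := fun u w =>
    self_hom_ext hk u w
  obtain ⟨α, hα, hαn⟩ := exists_hom_of_system φ fun N => ps_hom_ext (hC _ _) fun i => by
    change (R.truncMap N) ((φ (N + 1)).1 _) = _
    rw [hφX, hφX]
    rfl
  have hαx : ∀ i, α (psX C n i) = x i := fun i => by
    refine IsHausdorff.eq_iff_smodEq (I := IsLocalRing.maximalIdeal R.carrier) |>.2 fun N => ?_
    rw [SModEq.sub_mem, smul_eq_mul, Ideal.mul_top]
    refine Ideal.pow_le_pow_right (Nat.le_succ N) (Ideal.Quotient.eq.1 ?_)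
    exact (AlgHom.congr_fun (congrArg Subtype.val (hαn N)) (psX C n i)).trans (hφX N i)
  refine ⟨n, ⟨(AlgEquiv.ofBijective α (bijective_of_smooth α hα hR' ⟨fun a b h => hbij.1 (funext fun i => ?_),
    fun b => ?_⟩)).symm⟩⟩
  · change (a.1 (x i) : DualNumber k).snd = (b.1 (x i) : DualNumber k).snd
    rw [← hαx i]
    exact congrArg (fun u : DualNumber k => u.snd) (AlgHom.congr_fun (congrArg Subtype.val h) (psX C n i))
  · obtain ⟨a, ha⟩ := hbij.2 fun i => (b.1 (psX C n i) : DualNumber k).snd
    refine ⟨a, ps_hom_ext (hC _ _) fun i => TrivSqZeroExt.ext ?_ ?_⟩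
    · exact (AlgHom.congr_fun (alongHom α hα a).2 _).trans (AlgHom.congr_fun b.2 _).symm
    · refine Eq.trans ?_ (congrFun ha i)
      change ((a.1 (α (psX C n i))) : DualNumber k).snd = _
      rw [hαx]

end Groth.Agent.Misc9.SF
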