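import Groth.Agent.Misc9.SF.Estimates
import Groth.Agent.Misc9.SF.Square
import Mathlib.RingTheory.RegularLocalRing.Polynomial

/-! Regular covers: power series over a field, and local rings essentially of finite type. -/

universe u v

set_option synthInstance.maxHeartbeats 20000
set_option maxHeartbeats 400000

open CategoryTheory

namespace Groth.Agent.Misc9.SF

open ArtFun ArtFun.Art IsLocalRing

variable {k : Type u} [Field k]

/-- kill the variables of index `< j`. -/
noncomputable def killPrime (d j : ℕ) : Ideal (MvPowerSeries (Fin d) k) :=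
  RingHom.ker (MvPowerSeries.killCompl (Function.Embedding.subtype fun i : Fin d => j ≤ (i : ℕ)) (R := k))

theorem X_mem_killPrime {d j : ℕ} (i : Fin d) : MvPowerSeries.X i ∈ killPrime (k := k) d j ↔ (i : ℕ) < j := by
  classical
  rw [killPrime, RingHom.mem_ker]
  constructor
  · intro h
    by_contra hlt
    push Not at hlt
    have h' := congrArg (MvPowerSeries.coeff (Finsupp.single (⟨i, hlt⟩ : {i : Fin d // j ≤ (i : ℕ)}) 1)) h
    rw [MvPowerSeries.coeff_killCompl, Finsupp.embDomain_single] at h'
    simp at h'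
  · intro hlt
    ext x
    rw [MvPowerSeries.coeff_killCompl, MvPowerSeries.coeff_X, map_zero, if_neg]
    intro e
    have := congrArg (fun y => y i) e
    simp only [Finsupp.single_eq_same] at this
    rw [Finsupp.embDomain_notin_range _ _ _ (by rintro ⟨⟨a, ha⟩, rfl⟩; exact absurd ha (by simpa using hlt))] at this
    exact zero_ne_one this

theorem killPrime_lt {d j : ℕ} (hj : j < d) : killPrime (k := k) d j < killPrime (k := k) d (j + 1) := by
  refine lt_of_le_of_ne (fun f hf => ?_) fun e => ?_
  · rw [killPrime, RingHom.mem_ker] at hf ⊢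
    ext x
    have h := congrArg (MvPowerSeries.coeff (Finsupp.embDomain
      ⟨fun i : {i : Fin d // j + 1 ≤ (i : ℕ)} => (⟨i.1, by have := i.2; omega⟩ : {i : Fin d // j ≤ (i : ℕ)}),
        fun a b h => Subtype.ext (congrArg Subtype.val h :)⟩ x)) hf
    rw [MvPowerSeries.coeff_killCompl, map_zero, ← Finsupp.embDomain_trans_apply] at h
    rw [MvPowerSeries.coeff_killCompl, map_zero]
    exact h
  · have h1 := (X_mem_killPrime (k := k) (j := j + 1) (⟨j, hj⟩ : Fin d)).2 (Nat.lt_succ_self j)
    rw [← e, X_mem_killPrime] at h1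
    exact lt_irrefl _ h1

theorem ps_isRegularLocalRing (d : ℕ) [IsNoetherianRing (MvPowerSeries (Fin d) k)] :
    IsRegularLocalRing (MvPowerSeries (Fin d) k) := by
  classical
  refine IsRegularLocalRing.of_spanFinrank_maximalIdeal_le _ ?_
  have hprime : ∀ j, (killPrime (k := k) d j).IsPrime := fun j =>
    haveI : IsDomain (MvPowerSeries {i : Fin d // j ≤ (i : ℕ)} k) := NoZeroDivisors.to_isDomain _
    RingHom.ker_isPrime _
  let c : LTSeries (PrimeSpectrum (MvPowerSeries (Fin d) k)) :=
    { length := d
      toFun := fun i => ⟨killPrime d i, hprime i⟩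
      step := fun i => killPrime_lt i.2 }
  have hlow : (d : WithBot ℕ∞) ≤ ringKrullDim (MvPowerSeries (Fin d) k) := by
    have := Order.LTSeries.length_le_krullDim c
    exact this
  refine le_trans ?_ hlow
  have hm : maximalIdeal (MvPowerSeries (Fin d) k) ≤ Ideal.span (Set.range MvPowerSeries.X) := by
    intro f hf
    have h0 : MvPowerSeries.constantCoeff f = 0 := by
      by_contra h
      exact (IsLocalRing.mem_maximalIdeal f).1 hf (MvPowerSeries.isUnit_iff_constantCoeff.2 (isUnit_iff_ne_zero.2 h))
    have := Adic.PowerSeries.sub_C_mem f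
    rwa [h0, map_zero, sub_zero] at this
  have heq : maximalIdeal (MvPowerSeries (Fin d) k) = Ideal.span (Set.range MvPowerSeries.X) :=
    le_antisymm hm (Ideal.span_le.2 fun x ⟨i, hi⟩ => by
      subst hi
      rw [SetLike.mem_coe, IsLocalRing.mem_maximalIdeal, mem_nonunits_iff, MvPowerSeries.isUnit_iff_constantCoeff,
        MvPowerSeries.constantCoeff_X, isUnit_zero_iff]
      exact zero_ne_one)
  rw [heq]
  exact_mod_cast (Submodule.spanFinrank_span_le_ncard_of_finite (Set.finite_range _)).trans
    ((Set.ncard_image_le (f := (MvPowerSeries.X : Fin d → MvPowerSeries (Fin d) k)) (s := Set.univ)).trans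
      (by simp) |>.trans_eq' (by rw [Set.image_univ]))

theorem exists_cover_of_essFiniteType (R : Type u) [CommRing R] [IsLocalRing R] [Algebra k R]
    [Algebra.EssFiniteType k R] :
    ∃ (P : Type u) (_ : CommRing P) (_ : Algebra k P) (_ : IsRegularLocalRing P) (π : P →ₐ[k] R),
      Function.Surjective π := by
  let σ := Algebra.EssFiniteType.finset k R
  let ev : MvPolynomial (σ : Set R) k →ₐ[k] R := MvPolynomial.aeval Subtype.val
  let p : Ideal (MvPolynomial (σ : Set R) k) := (maximalIdeal R).comap ev
  haveI : p.IsPrime := Ideal.comap_isPrime _ _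
  haveI : Finite (σ : Set R) := σ.finite_toSet.to_subtype
  have hu : ∀ t : p.primeCompl, IsUnit (ev t) := fun t => by
    by_contra h
    exact t.2 ((IsLocalRing.mem_maximalIdeal _).2 h)
  refine ⟨Localization.AtPrime p, inferInstance, inferInstance, inferInstance,
    IsLocalization.liftAlgHom (M := p.primeCompl) (f := ev) hu, fun r => ?_⟩
  have hev : ∀ a ∈ Algebra.EssFiniteType.subalgebra k R, ∃ x, ev x = a := fun a ha => by
    rw [Algebra.EssFiniteType.subalgebra, Algebra.adjoin_eq_range] at ha
    exact ha
  obtain ⟨⟨a, t⟩, e⟩ := IsLocalization.surj (Algebra.EssFiniteType.submonoid k R) r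
  obtain ⟨x, hx⟩ := hev a.1 a.2
  obtain ⟨y, hy⟩ := hev t.1.1 t.1.2
  have hyu : y ∈ p.primeCompl := fun h => (IsLocalRing.mem_maximalIdeal _).1 h (by rw [hy]; exact t.2)
  refine ⟨IsLocalization.mk' _ x (⟨y, hyu⟩ : p.primeCompl), ?_⟩
  rw [IsLocalization.liftAlgHom_apply, IsLocalization.lift_mk'_spec]
  change ev x = ev y * r
  rw [hx, hy, mul_comm]
  exact e.symm

theorem field_isAdicComplete : IsAdicComplete (maximalIdeal k) k :=
  isAdicComplete_of_pow_eq_bot (maximalIdeal k) (N := 1) (by rw [pow_one, IsLocalRing.maximalIdeal_eq_bot])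

/-- `k` as a coefficient ring. -/
noncomputable def cringField (k : Type u) [Field k] : CRing k k :=
  haveI := field_isAdicComplete (k := k)
  cringSelf (Λ := k) (k := k) Function.surjective_id

theorem exists_ps_map (R : CRing k k) {N : ℕ} (g : Fin N → R.carrier) (hg : ∀ i, g i ∈ maximalIdeal R.carrier)
    (hspan : maximalIdeal R.carrier ≤ Ideal.span (Set.range g)) :
    ∃ π : (psRing (cringField k) N).carrier →ₐ[k] R.carrier, R.res.comp π = (psRing (cringField k) N).res ∧
      Function.Surjective π ∧ ∀ i, π (psX (cringField k) N i) = g i := by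
  classical
  haveI := field_isAdicComplete (k := k)
  choose ψ hψ hψX using fun n => exists_ps_hom (C := cringField k) (n := N)
    (selfPt (Λ := k) (k := k) Function.surjective_id (R.trunc n)) (fun i => (R.truncHom n).1 (g i)) fun i => by
      rw [(R.trunc n).mem_maximalIdeal_iff, ← AlgHom.comp_apply, (R.truncHom n).2, ← CRing.mem_maximalIdeal_iff]
      exact hg i
  obtain ⟨π, hπ, hπn⟩ := exists_hom_of_system ψ fun n => ps_hom_ext (self_hom_ext Function.surjective_id _ _) fun i => by
    change (R.truncMap n) ((ψ (n + 1)).1 _) = _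
    rw [hψX, hψX]
    exact AlgHom.congr_fun (congrArg Subtype.val (R.truncMap_truncHom n)) (g i)
  have hπX : ∀ i, π (psX (cringField k) N i) = g i := fun i => by
    refine IsHausdorff.eq_iff_smodEq (I := maximalIdeal R.carrier) |>.2 fun n => ?_
    rw [SModEq.sub_mem, smul_eq_mul, Ideal.mul_top]
    refine Ideal.pow_le_pow_right (Nat.le_succ n) (Ideal.Quotient.eq.1 ?_)
    exact (AlgHom.congr_fun (congrArg Subtype.val (hπn n)) _).trans (hψX n i)
  refine ⟨π, hπ, surjective_of_cotangent (R := psRing (cringField k) N) π hπ fun x hx => Ideal.mem_sup_left ?_, hπX⟩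
  refine (Ideal.span_le (I := (maximalIdeal (psRing (cringField k) N).carrier).map π)).2 ?_ (hspan hx)
  rintro _ ⟨i, rfl⟩
  rw [← hπX i]
  exact Ideal.mem_map_of_mem _ ((CRing.mem_maximalIdeal_iff _ _).2 (psX_res _ _ _))

theorem exists_ps_cover (R : CRing k k) :
    ∃ (N : ℕ) (π : (psRing (cringField k) N).carrier →ₐ[k] R.carrier),
      R.res.comp π = (psRing (cringField k) N).res ∧ Function.Surjective π ∧
      RingHom.ker π ≤ maximalIdeal (psRing (cringField k) N).carrier ^ 2 ∧
      N = Module.finrank (ResidueField R.carrier) (CotangentSpace R.carrier) := by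
  classical
  let b := Module.finBasis (ResidueField R.carrier) (CotangentSpace R.carrier)
  choose y hy using fun i => Ideal.toCotangent_surjective (maximalIdeal R.carrier) (b i)
  have htop : Submodule.span (ResidueField R.carrier) ((maximalIdeal R.carrier).toCotangent '' Set.range y) = ⊤ := by
    rw [← Set.range_comp, show (maximalIdeal R.carrier).toCotangent ∘ y = b from funext hy, b.span_eq]
  rw [IsLocalRing.CotangentSpace.span_image_eq_top_iff] at htop
  obtain ⟨π, hres, hπ, hπX⟩ := exists_ps_map R (fun i => (y i : R.carrier)) (fun i => (y i).2) fun x hx => by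
    have h' := Submodule.mem_map_of_mem (f := (maximalIdeal R.carrier).subtype)
      (htop.ge (Submodule.mem_top (x := ⟨x, hx⟩)))
    rw [Submodule.map_span, ← Set.range_comp] at h'
    exact h'
  refine ⟨_, π, hres, hπ, fun f hf => ?_, rfl⟩
  let P := psRing (cringField k) (Module.finrank (ResidueField R.carrier) (CotangentSpace R.carrier))
  have hfm : f ∈ maximalIdeal P.carrier := by
    rw [CRing.mem_maximalIdeal_iff, show P.res f = R.res (π f) from (AlgHom.congr_fun hres f).symm,
      RingHom.mem_ker.1 hf, map_zero]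
  have hmX : maximalIdeal P.carrier ≤ Ideal.span (Set.range fun i => psX (cringField k) _ i) := fun f hf => by
    have h0 : MvPowerSeries.constantCoeff f = 0 := (CRing.mem_maximalIdeal_iff P f).1 hf
    have h := Adic.PowerSeries.sub_C_mem f
    rwa [h0, map_zero, sub_zero] at h
  obtain ⟨a, ha⟩ := Ideal.mem_span_range_iff_exists_fun.1 (hmX hfm)
  have h0 : (maximalIdeal R.carrier).toCotangent (∑ i, π (a i) • y i) = 0 := by
    rw [Ideal.toCotangent_eq_zero]
    have : ((∑ i, π (a i) • y i : maximalIdeal R.carrier) : R.carrier) = π f := by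
      rw [AddSubmonoidClass.coe_finset_sum, ← ha, map_sum]
      refine Finset.sum_congr rfl fun i _ => ?_
      change π (a i) * (y i : R.carrier) = _
      rw [map_mul, hπX]
    rw [this, RingHom.mem_ker.1 hf]
    exact zero_mem _
  have h1 : ∑ i, IsLocalRing.residue R.carrier (π (a i)) • b i = 0 := by
    rw [← h0, map_sum]
    refine Finset.sum_congr rfl fun i _ => ?_
    rw [map_smul, hy]
    exact algebraMap_smul (ResidueField R.carrier) (π (a i)) _
  rw [← ha, pow_two]
  refine Ideal.sum_mem _ fun i _ => Ideal.mul_mem_mul ?_ ((CRing.mem_maximalIdeal_iff _ _).2 (psX_res _ _ _))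
  have h2 := Fintype.linearIndependent_iff.1 b.linearIndependent _ h1 i
  rw [IsLocalRing.residue_eq_zero_iff, CRing.mem_maximalIdeal_iff] at h2
  rw [CRing.mem_maximalIdeal_iff, ← AlgHom.congr_fun hres (a i)]
  exact h2

theorem estimates_cring (R : CRing k k) (W : Type u) [AddCommGroup W] [Module k W] [Module.Finite k W]
    (T : ObsTheory (hR R.carrier R.res) W) :
    ringKrullDim R.carrier ≤ (Module.finrank (ResidueField R.carrier) (CotangentSpace R.carrier) : WithBot ℕ∞) ∧
      (Module.finrank (ResidueField R.carrier) (CotangentSpace R.carrier) : WithBot ℕ∞) ≤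
          ringKrullDim R.carrier + (Module.finrank k W : WithBot ℕ∞) ∧
      (Module.finrank k W = 0 → IsRegularLocalRing R.carrier) ∧
      (ringKrullDim R.carrier + (Module.finrank k W : WithBot ℕ∞) =
          (Module.finrank (ResidueField R.carrier) (CotangentSpace R.carrier) : WithBot ℕ∞) →
        ∃ (P : Type u) (_ : CommRing P) (_ : IsRegularLocalRing P) (π : P →+* R.carrier) (s : Finset P),
          Function.Surjective π ∧ Ideal.span (s : Set P) = RingHom.ker π ∧
            ringKrullDim P = ringKrullDim R.carrier + (s.card : WithBot ℕ∞)) := by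
  obtain ⟨N, π, -, hπs, -, -⟩ := exists_ps_cover R
  haveI : IsRegularLocalRing (psRing (cringField k) N).carrier :=
    haveI : IsNoetherianRing (MvPowerSeries (Fin N) k) := (psRing (cringField k) N).isNoetherianRing
    show IsRegularLocalRing (MvPowerSeries (Fin N) k) from ps_isRegularLocalRing (k := k) N
  exact estimates R.res π hπs W T

/-- The obstruction theory of a versal family's ring. -/
def obsOfVersal {F : Art k k ⥤ Type v} {V : Type u} [AddCommGroup V] [Module k V] (T : ObsTheory F V)
    {R : Type u} [CommRing R] [Algebra k R] {res : R →ₐ[k] k} (ξ : Family R res F) (hξ : IsVersal ξ) :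
    ObsTheory (hR R res) V where
  obs p hp φ := T.obs p hp (ξ.app _ φ)
  obs_eq_zero_iff p hp φ := by
    rw [T.obs_eq_zero_iff]
    refine ⟨fun ⟨y, hy⟩ => ?_, fun ⟨ψ, hψ⟩ => ⟨ξ.app _ ψ, ?_⟩⟩
    · obtain ⟨ψ, hψ, -⟩ := hξ p hp.1 φ y hy
      exact ⟨ψ, hψ⟩
    · rw [← ξ.natural]
      exact congrArg _ hψ
  obs_quot p hp K hK hKJ hq φ := T.obs_quot p hp K hK hKJ hq (ξ.app _ φ)

end Groth.Agent.Misc9.SF
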