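import Groth.Agent.Misc9.SF.PS
import Groth.Agent.Misc9.SF.Hull
import Groth.Agent.Misc9.SF.Square

/-! Versality for small prolongations. -/

universe u v

set_option synthInstance.maxHeartbeats 20000
set_option maxHeartbeats 400000

open CategoryTheory

namespace Groth.Agent.Misc9.SF

open ArtFun ArtFun.Art IsLocalRing

variable {Λ k : Type u} [CommRing Λ] [IsLocalRing Λ] [IsNoetherianRing Λ]
  [IsAdicComplete (maximalIdeal Λ) Λ] [Field k] [Algebra Λ k] (hk : Function.Surjective (algebraMap Λ k))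

/-- `m_Λ A + m_A²` for a local algebra. -/
def relSq (A : Type u) [CommRing A] [Algebra Λ A] [IsLocalRing A] : Ideal A :=
  maximalIdeal A ^ 2 ⊔ (maximalIdeal Λ).map (algebraMap Λ A)

include hk in
theorem exists_minimal_ps (R : Art Λ k) :
    ∃ (N : ℕ) (ρ : HomSet (psRing (cringSelf (k := k) hk) N).carrier (psRing (cringSelf (k := k) hk) N).res R),
      Function.Surjective ρ.1 ∧
        ∀ a, ρ.1 a = 0 → a ∈ relSq (Λ := Λ) (psRing (cringSelf (k := k) hk) N).carrier := by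
  classical
  let L := (maximalIdeal Λ).map (algebraMap Λ R)
  let ok : ℕ → Prop := fun N => ∃ g : Fin N → R, (∀ i, g i ∈ maximalIdeal R) ∧ maximalIdeal R ≤ Ideal.span (Set.range g) ⊔ L
  have hex : ∃ N, ok N := by
    obtain ⟨t, ht⟩ := (IsNoetherian.noetherian (maximalIdeal R) : (maximalIdeal R).FG)
    refine ⟨t.card, fun i => (t.equivFin.symm i : R.carrier), fun i => ht.le (Ideal.subset_span (t.equivFin.symm i).2), ?_⟩
    refine ht.ge.trans (le_sup_of_le_left (Ideal.span_mono fun x hx => ⟨t.equivFin ⟨x, hx⟩, by simp⟩))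
  obtain ⟨g, hg, hgs⟩ := Nat.find_spec hex
  let N := Nat.find hex
  let P := psRing (cringSelf (k := k) hk) N
  obtain ⟨ρ, hρC, hρX⟩ := exists_ps_hom (C := cringSelf (k := k) hk) (n := N) (selfPt hk R) g hg
  have hΛ : maximalIdeal Λ = RingHom.ker (algebraMap Λ k) :=
    (IsLocalRing.eq_maximalIdeal (RingHom.ker_isMaximal_of_surjective _ hk)).symm
  refine ⟨N, ρ, surjective_of_cotangent (R := P) (S := cringOf R) ρ.1 ρ.2 fun x hx => Ideal.mem_sup_left ?_, fun f hf => ?_⟩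
  · refine (sup_le ?_ ?_ : Ideal.span (Set.range g) ⊔ L ≤ (maximalIdeal P.carrier).map ρ.1) (hgs hx)
    · refine Ideal.span_le.2 ?_
      rintro _ ⟨i, rfl⟩
      rw [SetLike.mem_coe, ← hρX i]
      exact Ideal.mem_map_of_mem _ ((CRing.mem_maximalIdeal_iff _ _).2 (psX_res _ _ _))
    · refine Ideal.map_le_iff_le_comap.2 fun l hl => ?_
      rw [Ideal.mem_comap, ← ρ.1.commutes]
      refine Ideal.mem_map_of_mem _ ((CRing.mem_maximalIdeal_iff _ _).2 ?_)
      rw [AlgHom.commutes]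
      rwa [hΛ] at hl
  · let c : Λ := MvPowerSeries.constantCoeff f
    have h1 : f - algebraMap Λ P.carrier c ∈ Ideal.span (Set.range fun i => psX (cringSelf (k := k) hk) N i) := by
      have h := Adic.PowerSeries.sub_C_mem (σ := Fin N) (R := Λ) f
      have e : (algebraMap Λ P.carrier c : MvPowerSeries (Fin N) Λ) = MvPowerSeries.C c :=
        show algebraMap Λ (MvPowerSeries (Fin N) Λ) c = _ from MvPowerSeries.algebraMap_apply
      convert! h using 1
    obtain ⟨a, ha⟩ := Ideal.mem_span_range_iff_exists_fun.1 h1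
    have hf' : f = algebraMap Λ P.carrier c + ∑ i, a i * psX (cringSelf (k := k) hk) N i := by
      rw [ha, add_sub_cancel]
    have hc : c ∈ maximalIdeal Λ := by
      have h0 : P.res f = 0 := (AlgHom.congr_fun ρ.2 f).symm.trans (by
        rw [AlgHom.comp_apply, hf, map_zero])
      rw [hΛ, RingHom.mem_ker]
      exact h0
    by_cases hall : ∀ i, a i ∈ maximalIdeal P.carrier
    · rw [hf']
      refine add_mem (Ideal.mem_sup_right (Ideal.mem_map_of_mem _ hc)) (Ideal.mem_sup_left ?_)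
      rw [pow_two]
      exact Ideal.sum_mem _ fun i _ => Ideal.mul_mem_mul (hall i) ((CRing.mem_maximalIdeal_iff _ _).2 (psX_res _ _ _))
    exfalso
    push Not at hall
    obtain ⟨j, hj⟩ := hall
    obtain ⟨M, hM⟩ : ∃ M, N = M + 1 := ⟨N - 1, by have := j.isLt; omega⟩
    refine Nat.find_min hex (show M < Nat.find hex by have : N = Nat.find hex := rfl; omega) ?_
    let g' : Fin (M + 1) → R := fun i => g (Fin.cast hM.symm i)
    let j' : Fin (M + 1) := Fin.cast hM j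
    have hrel : algebraMap Λ R c + ∑ i, ρ.1 (a i) * g i = 0 := by
      have h := congrArg ρ.1 hf'
      rw [hf, map_add, AlgHom.commutes, map_sum] at h
      rw [h]
      exact congrArg _ (Finset.sum_congr rfl fun i _ => by rw [map_mul, hρX])
    refine ⟨fun i => g' (j'.succAbove i), fun i => hg _, hgs.trans (sup_le ?_ le_sup_right)⟩
    refine Ideal.span_le.2 ?_
    rintro _ ⟨i, rfl⟩
    have hother : ∀ i, i ≠ j → g i ∈ Ideal.span (Set.range fun i => g' (j'.succAbove i)) ⊔ L := fun i hi => by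
      obtain ⟨m, hm⟩ := Fin.exists_succAbove_eq (show Fin.cast hM i ≠ j' from fun e => hi ((Fin.cast_injective hM) e))
      exact Ideal.mem_sup_left (Ideal.subset_span ⟨m, by simp [g', hm]⟩)
    by_cases hij : i = j
    · subst hij
      have hu : IsUnit (ρ.1 (a i)) := (IsLocalRing.notMem_maximalIdeal.1 hj).map ρ.1
      rw [SetLike.mem_coe, ← Ideal.unit_mul_mem_iff_mem _ hu]
      rw [← Finset.add_sum_erase _ _ (Finset.mem_univ i)] at hrel
      rw [show ρ.1 (a i) * g i = -(algebraMap Λ R c + ∑ x ∈ Finset.univ.erase i, ρ.1 (a x) * g x) by linear_combination hrel]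
      refine neg_mem (add_mem (Ideal.mem_sup_right (Ideal.mem_map_of_mem _ hc)) (Ideal.sum_mem _ fun x hx => ?_))
      exact Ideal.mul_mem_left _ _ (hother x (Finset.ne_of_mem_erase hx))
    · exact hother i hij

include hk in
theorem exists_prolongation (F : Art Λ k ⥤ Type v) (h1 : S1 F) (h2 : Heps F) (R : Art Λ k) (a : F.obj R)
    (hvers : ∀ (R₀ : Art Λ k), IsSmallExt (toBase R₀) → ∀ b : F.obj R₀, ∃ φ : R ⟶ R₀, F.map φ a = b) :
    ∃ (R' : Art Λ k) (q : R' ⟶ R) (a' : F.obj R'), F.map q a' = a ∧ IsSemismallExt q ∧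
      (∀ x' : R', x' ∈ maximalIdeal (R' : Type u) → q x' ∈ relSq (Λ := Λ) R → x' ∈ relSq (Λ := Λ) R') ∧
      ∀ (R₁ : Art Λ k) (π₁ : R₁ ⟶ R), IsSmallExt π₁ →
        ∀ a₁ : F.obj R₁, F.map π₁ a₁ = a → ∃ f : R' ⟶ R₁, f ≫ π₁ = q ∧ F.map f a' = a₁ := by
  obtain ⟨N, ρ, hρs, hρk⟩ := exists_minimal_ps hk R
  let P := psRing (cringSelf (k := k) hk) N
  have hsm : IsSmoothFunctor (hR P.carrier P.res) := ps_self_smooth hk N
  have hJm : RingHom.ker ρ.1 ≤ maximalIdeal P.carrier := fun x hx => by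
    rw [CRing.mem_maximalIdeal_iff, ← ρ.2, AlgHom.comp_apply, RingHom.mem_ker.1 hx, map_zero]
  have hJN : ∃ n, CRing.mpow P n ≤ RingHom.ker ρ.1 := by
    obtain ⟨n, hn⟩ := exists_pow_eq_bot R
    refine ⟨n, fun x hx => ?_⟩
    have hm : (maximalIdeal P.carrier).map ρ.1 ≤ maximalIdeal R := Ideal.map_le_iff_le_comap.2 fun z hz => by
      rw [Ideal.mem_comap, R.mem_maximalIdeal_iff, ← AlgHom.comp_apply, ρ.2, ← CRing.mem_maximalIdeal_iff]; exact hz
    have h := Ideal.mem_map_of_mem ρ.1 (Ideal.pow_le_pow_right (Nat.le_succ n) hx)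
    rw [Ideal.map_pow] at h
    have h' := Ideal.pow_right_mono hm n h
    rw [hn, Ideal.mem_bot] at h'
    exact RingHom.mem_ker.2 h'
  let e := cutLift hJm hJN ρ (fun x hx => RingHom.mem_ker.1 hx)
  have he : Function.Bijective e := by
    refine ⟨fun b b' eb => ?_, fun c => ?_⟩
    · obtain ⟨b, rfl⟩ := Ideal.Quotient.mk_surjective b
      obtain ⟨b', rfl⟩ := Ideal.Quotient.mk_surjective b'
      refine Ideal.Quotient.eq.2 ?_
      rw [RingHom.mem_ker, map_sub, sub_eq_zero]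
      exact eb
    · obtain ⟨b, rfl⟩ := hρs c
      exact ⟨Ideal.Quotient.mk _ b, rfl⟩
  obtain ⟨i, hi, hi'⟩ := exists_inverse e he
  obtain ⟨S', hle, hcompat, hM, hmin⟩ := exists_next h1 (⟨RingHom.ker ρ.1, hJm, hJN, F.map i a⟩ : Stage F P)
  let R' := cut P S'.J S'.le S'.pow
  let q : R' ⟶ R := cutTo hle ≫ e
  have hqa : F.map q S'.elt = a := by
    rw [← map_map, hcompat, map_map, hi', map_id']
  have hqs : Function.Surjective q := fun c => by
    obtain ⟨b, rfl⟩ := hρs c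
    exact ⟨Ideal.Quotient.mk _ b, rfl⟩
  have hqk : ∀ z : R', q z = 0 → ∃ b, ρ.1 b = 0 ∧ Ideal.Quotient.mk S'.J b = z := fun z hz => by
    obtain ⟨b, rfl⟩ := Ideal.Quotient.mk_surjective z
    exact ⟨b, hz, rfl⟩
  refine ⟨R', q, S'.elt, hqa, ⟨hqs, ?_⟩, fun x' hx' hqx => ?_, fun R₁ π₁ hπ a₁ ha₁ => ?_⟩
  · rw [eq_bot_iff, Ideal.mul_le]
    intro x hx z hz
    obtain ⟨x, rfl⟩ := Ideal.Quotient.mk_surjective x
    obtain ⟨b, hb, rfl⟩ := hqk z (RingHom.mem_ker.1 hz)
    rw [Ideal.mem_bot]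
    refine (map_mul (Ideal.Quotient.mk S'.J) x b).symm.trans (Ideal.Quotient.eq_zero_iff_mem.2 (hM (Ideal.mul_mem_mul ?_ (RingHom.mem_ker.2 hb))))
    exact (CRing.mem_maximalIdeal_iff P x).2 ((R'.mem_maximalIdeal_iff _).1 hx)
  · obtain ⟨b, rfl⟩ := Ideal.Quotient.mk_surjective x'
    have hmaxR : maximalIdeal R ≤ (maximalIdeal P.carrier).map ρ.1 := fun r hr => by
      obtain ⟨p, rfl⟩ := hρs r
      refine Ideal.mem_map_of_mem _ ((CRing.mem_maximalIdeal_iff P p).2 ?_)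
      rw [← ρ.2, AlgHom.comp_apply, ← R.mem_maximalIdeal_iff]
      exact hr
    have hrel : relSq (Λ := Λ) R ≤ (relSq (Λ := Λ) P.carrier).map ρ.1 := by
      rw [relSq, relSq, Ideal.map_sup, Ideal.map_pow]
      refine sup_le_sup (Ideal.pow_right_mono hmaxR 2) (Ideal.map_le_iff_le_comap.2 fun l hl => ?_)
      rw [Ideal.mem_comap, ← ρ.1.commutes]
      exact Ideal.mem_map_of_mem _ (Ideal.mem_map_of_mem _ hl)
    obtain ⟨p, hp, hpe⟩ := (Ideal.mem_map_iff_of_surjective ρ.1 hρs).1 (hrel hqx)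
    have hb : b ∈ relSq (Λ := Λ) P.carrier := by
      rw [← sub_add_cancel b p]
      refine add_mem (hρk _ ?_) hp
      rw [map_sub, sub_eq_zero]
      exact hpe.symm
    obtain ⟨u, hu, w, hw, rfl⟩ := Submodule.mem_sup.1 hb
    rw [map_add]
    refine add_mem (Ideal.mem_sup_left ?_) (Ideal.mem_sup_right ?_)
    · have h := Ideal.mem_map_of_mem (Ideal.Quotient.mk S'.J) hu
      rw [Ideal.map_pow] at h
      refine Ideal.pow_right_mono (Ideal.map_le_iff_le_comap.2 fun z hz => ?_) 2 h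
      rw [Ideal.mem_comap, R'.mem_maximalIdeal_iff]
      exact (CRing.mem_maximalIdeal_iff P z).1 hz
    · have hle' : (maximalIdeal Λ).map (algebraMap Λ P.carrier) ≤
          ((maximalIdeal Λ).map (algebraMap Λ R')).comap (Ideal.Quotient.mk S'.J) :=
        Ideal.map_le_iff_le_comap.2 fun l hl => Ideal.mem_map_of_mem (algebraMap Λ R') hl
      exact hle' hw
  obtain ⟨C, c₁, c₂, hC⟩ := exists_fib q π₁ hπ.1
  have hc₁ : IsSmallExt c₁ := fp_isSmallExt hC hπ
  obtain ⟨hc₁s, t, ht0, htm, ht⟩ := (isSmallExt_iff c₁).1 hc₁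
  obtain ⟨z, hz, -⟩ := cmp_surj (h1 c₁ c₂ q π₁ hC hπ.1) (x := S'.elt) (y := a₁) (hqa.trans ha₁.symm)
  obtain ⟨χ, hχ⟩ := hsm c₁ hc₁s (cutHom P S'.J S'.le S'.pow)
  have hχ' : ∀ x, c₁ (χ.1 x) = Ideal.Quotient.mk S'.J x := fun x => AlgHom.congr_fun (congrArg Subtype.val hχ) x
  have hχm : ∀ x ∈ maximalIdeal P.carrier, χ.1 x ∈ maximalIdeal C := fun x hx => by
    rw [C.mem_maximalIdeal_iff, ← AlgHom.comp_apply, χ.2, ← CRing.mem_maximalIdeal_iff]; exact hx
  have hns : ¬ Function.Surjective χ.1 := fun hs => by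
    have hKS : RingHom.ker χ.1 ≤ S'.J := fun x hx => Ideal.Quotient.eq_zero_iff_mem.1 (by
      rw [← hχ', RingHom.mem_ker.1 hx]; exact map_zero c₁.toAlgHom)
    have hMK : maximalIdeal P.carrier * RingHom.ker ρ.1 ≤ RingHom.ker χ.1 := by
      rw [Ideal.mul_le]
      intro r hr s hs'
      rw [RingHom.mem_ker]
      refine hC.inj _ _ ?_ ?_
      · rw [hχ', Ideal.Quotient.eq_zero_iff_mem.2 (hM (Ideal.mul_mem_mul hr hs'))]
        exact (map_zero c₁.toAlgHom).symm
      · change c₂.toAlgHom (χ.1 (r * s)) = c₂.toAlgHom 0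
        rw [map_mul, map_mul, map_zero, ← Ideal.mem_bot, ← hπ.2.2.2]
        refine Ideal.mul_mem_mul (map_mem_maximalIdeal c₂ (hχm r hr)) (RingHom.mem_ker.2 ?_)
        refine ((hC.w_apply (χ.1 s)).symm.trans ?_)
        rw [hχ']
        exact RingHom.mem_ker.1 hs'
    have hN : ∃ n, CRing.mpow P n ≤ RingHom.ker χ.1 := by
      obtain ⟨n, hn⟩ := hJN
      refine ⟨n + 1, le_trans ?_ hMK⟩
      rw [CRing.mpow, pow_succ']
      exact Ideal.mul_mono le_rfl hn
    let e' := cutLift (hKS.trans S'.le) hN χ (fun x hx => RingHom.mem_ker.1 hx)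
    have he' : Function.Bijective e' := by
      refine ⟨fun b b' eb => ?_, fun c => ?_⟩
      · obtain ⟨b, rfl⟩ := Ideal.Quotient.mk_surjective b
        obtain ⟨b', rfl⟩ := Ideal.Quotient.mk_surjective b'
        refine Ideal.Quotient.eq.2 ?_
        rw [RingHom.mem_ker, map_sub, sub_eq_zero]
        exact eb
      · obtain ⟨b, rfl⟩ := hs c
        exact ⟨Ideal.Quotient.mk _ b, rfl⟩
    obtain ⟨i', hi₁, hi₂⟩ := exists_inverse e' he'
    have hSK : S'.J ≤ RingHom.ker χ.1 := hmin _ (hKS.trans S'.le) hN (hKS.trans hle) hMK ⟨F.map i' z, by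
      rw [show cutTo (hKS.trans hle) = (e' ≫ c₁) ≫ cutTo hle from cut_hom_ext (homSet_ext fun x => ?_), ← map_map, ← map_map,
        map_map F i' e', hi₂, map_id', hz, hcompat]
      change _ = cutTo hle (c₁ (χ.1 x))
      rw [hχ']
      rfl⟩
    obtain ⟨x, hx⟩ := hs t
    refine ht0 ?_
    rw [← hx, RingHom.mem_ker.1 (hSK ?_)]
    refine Ideal.Quotient.eq_zero_iff_mem.1 ?_
    rw [← hχ', hx]
    exact RingHom.mem_ker.1 (ht.ge (Ideal.mem_span_singleton_self t))
  have hkill : ∀ x ∈ S'.J, χ.1 x = 0 := fun x hx => by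
    by_contra hne
    have hx' : χ.1 x ∈ RingHom.ker c₁.toAlgHom := by
      change c₁ (χ.1 x) = 0
      rw [hχ', Ideal.Quotient.eq_zero_iff_mem.2 hx]
      rfl
    rw [ht] at hx'
    obtain ⟨d, hd⟩ := Ideal.mem_span_singleton'.1 hx'
    have hu : C.res d ≠ 0 := fun h0 => hne (by rw [← hd]; exact htm d ((C.mem_maximalIdeal_iff d).2 h0))
    refine hns fun c => ?_
    obtain ⟨p, hp⟩ := Ideal.Quotient.mk_surjective (c₁ c)
    have hcp : c - χ.1 p ∈ RingHom.ker c₁.toAlgHom := by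
      change c₁ (c - χ.1 p) = 0
      rw [map_sub, sub_eq_zero, hχ']
      exact hp.symm
    rw [ht] at hcp
    obtain ⟨y, hy⟩ := Ideal.mem_span_singleton'.1 hcp
    obtain ⟨s, hs'⟩ := P.res_surjective (C.res y / C.res d)
    refine ⟨p + s * x, ?_⟩
    have h0 : (χ.1 s * d - y) * t = 0 := htm _ ((C.mem_maximalIdeal_iff _).2 (by
      rw [map_sub, map_mul, ← AlgHom.comp_apply, χ.2, hs', div_mul_cancel₀ _ hu, sub_self]))
    rw [map_add, map_mul, ← hd]
    linear_combination h0 + hy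
  let f₀ : R' ⟶ R₁ := cutLift S'.le S'.pow χ hkill ≫ c₂
  have hf₀ : f₀ ≫ π₁ = q := by
    refine cut_hom_ext (homSet_ext fun x => ?_)
    change π₁ (c₂ (χ.1 x)) = q (Ideal.Quotient.mk S'.J x)
    rw [← hC.w_apply, hχ']
  obtain ⟨T⟩ := nonempty_tor π₁ hπ
  have hb : Hbar F := fun _ _ _ _ p' p'' f' f'' h hs => h1 p' p'' f' f'' h hs.1
  obtain ⟨θ, hθ⟩ := T.transitive hb hπ (y := F.map f₀ S'.elt) (y' := a₁) (by rw [map_map, hf₀, hqa, ha₁])
  obtain ⟨φ, hφ⟩ := hvers _ toBase_dual_isSmallExt θ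
  obtain ⟨l, hl, hl'⟩ := fp_exists_lift T.hg f₀ (q ≫ φ) (by rw [Category.assoc, comp_toBase, comp_toBase, comp_toBase])
  refine ⟨l ≫ T.p₂, by rw [Category.assoc, ← T.hP.w, ← Category.assoc, hl, hf₀], ?_⟩
  refine T.rel_unique h2 (y := F.map f₀ S'.elt) (θ := θ) ⟨F.map l S'.elt, ?_, ?_, ?_⟩ hθ
  · rw [map_map, hl]
  · rw [map_map, hl', ← map_map, hqa, hφ]
  · rw [map_map]

end Groth.Agent.Misc9.SF
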