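import Groth.Agent.Misc9.SF.AdicSmooth
import Groth.Agent.Misc9.SF.PSRegular
import Groth.Prelude.Def_W4bk4hartshdef114Obs

/-! Regular local rings with rational residue field: infinitesimal lifting and obstruction bounds. -/

universe u v

set_option synthInstance.maxHeartbeats 40000
set_option maxHeartbeats 400000

open CategoryTheory
open scoped TensorProduct

namespace Groth.Agent.Misc9.SF

open ArtFun ArtFun.Art IsLocalRing

variable {k : Type u} [Field k]

theorem res_any {Q : Type u} [CommRing Q] [IsLocalRing Q] [Algebra k Q] (ρ ρ' : Q →ₐ[k] k) : ρ = ρ' := by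
  refine AlgHom.ext fun a => ?_
  have h : a - algebraMap k Q (ρ a) ∈ maximalIdeal Q := (mem_max_iff ρ _).2 (by
    rw [map_sub, AlgHom.commutes, Algebra.algebraMap_self, RingHom.id_apply, sub_self])
  have h' := (mem_max_iff ρ' _).1 h
  rw [map_sub, AlgHom.commutes, Algebra.algebraMap_self, RingHom.id_apply, sub_eq_zero] at h'
  exact h'.symm

/-- killing one parameter keeps the lifting property. -/
theorem smooth_quotient {Q R : Type u} [CommRing Q] [IsLocalRing Q] [Algebra k Q] [CommRing R] [Algebra k R]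
    (ρ : Q →ₐ[k] k) (res : R →ₐ[k] k) (π : Q →ₐ[k] R) (hπ : Function.Surjective π) (hres : res.comp π = ρ)
    {x : Q} (hker : RingHom.ker π = Ideal.span {x}) (hx : x ∈ maximalIdeal Q) (hx2 : x ∉ maximalIdeal Q ^ 2)
    (h : IsSmoothFunctor (hR Q ρ)) : IsSmoothFunctor (hR R res) := by
  classical
  obtain ⟨a, hax, -, -⟩ := exists_homSet_dual (Λ := k) ρ (maximalIdeal Q ^ 2)
    (fun s hs => (mem_max_iff ρ s).1 (Ideal.pow_le_self two_ne_zero hs))
    (fun s t hs ht => by rw [pow_two]; exact Ideal.mul_mem_mul ((mem_max_iff ρ s).2 hs) ((mem_max_iff ρ t).2 ht))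
    ((Ideal.Quotient.mk (maximalIdeal Q ^ 2)).comp (algebraMap k Q))
    (fun c s hs => by
      have h1 := (mem_max_iff ρ _).1 (Ideal.pow_le_self two_ne_zero (Ideal.Quotient.eq.1 hs))
      rw [map_sub, AlgHom.commutes, sub_eq_zero] at h1
      exact h1)
    (fun l => rfl) ((mem_max_iff ρ x).1 hx) hx2
  let δ : Q → k := fun q => TrivSqZeroExt.snd (a.1 q : DualNumber k)
  have hfst : ∀ q, TrivSqZeroExt.fst (a.1 q : DualNumber k) = ρ q := fun q => AlgHom.congr_fun a.2 q
  have hδmul : ∀ p q, δ (p * q) = ρ p * δ q + ρ q * δ p := fun p q => by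
    let u : DualNumber k := a.1 p
    let v : DualNumber k := a.1 q
    refine (congrArg TrivSqZeroExt.snd (map_mul a.1 p q : _)).trans ?_
    change TrivSqZeroExt.snd (u * v) = _
    rw [TrivSqZeroExt.snd_mul, op_smul_eq_smul, smul_eq_mul, smul_eq_mul,
      show u.fst = ρ p from hfst p, show v.fst = ρ q from hfst q]
  have hδadd : ∀ p q, δ (p + q) = δ p + δ q := fun p q => (congrArg TrivSqZeroExt.snd (map_add a.1 p q : _)).trans rfl
  have hδalg : ∀ c, δ (algebraMap k Q c) = 0 := fun c => (congrArg TrivSqZeroExt.snd (a.1.commutes c : _)).trans rfl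
  refine isSmoothFunctor_of_small fun B A μ hμ φ => ?_
  let φ' : HomSet Q ρ A := ⟨φ.1.comp π, by rw [← AlgHom.comp_assoc, φ.2, hres]⟩
  obtain ⟨ψ, hψ⟩ := h μ hμ.1 φ'
  have hψ' : ∀ q, μ (ψ.1 q) = φ.1 (π q) := fun q => AlgHom.congr_fun (congrArg Subtype.val hψ) q
  obtain ⟨-, t, -, htm, ht⟩ := (isSmallExt_iff μ).1 hμ
  have hxk : ψ.1 x ∈ RingHom.ker μ.toAlgHom := by
    rw [RingHom.mem_ker]
    refine (hψ' x).trans ?_
    rw [show π x = 0 from RingHom.mem_ker.1 (hker.ge (Ideal.mem_span_singleton_self x)), map_zero]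
  rw [ht] at hxk
  obtain ⟨d, hd⟩ := Ideal.mem_span_singleton'.1 hxk
  have hmt : ∀ b : B, b * t = algebraMap k B (B.res b) * t := fun b => by
    rw [← sub_eq_zero, ← sub_mul]
    exact htm _ (by rw [B.mem_maximalIdeal_iff, map_sub, AlgHom.commutes, Algebra.algebraMap_self, RingHom.id_apply, sub_self])
  have ht2 : t * t = 0 := htm t (by
    rw [B.mem_maximalIdeal_iff, ← res_app μ, RingHom.mem_ker.1 (ht.ge (Ideal.mem_span_singleton_self t)), map_zero])
  let c : k := B.res d / δ x
  have hψq : ∀ q, ψ.1 q * t = algebraMap k B (ρ q) * t := fun q => by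
    rw [hmt, ← AlgHom.comp_apply, ψ.2]
  let ψ₁ : Q →ₐ[k] B :=
    { toFun := fun q => ψ.1 q - algebraMap k B (c * δ q) * t
      map_one' := by rw [map_one, ← map_one (algebraMap k Q), hδalg, mul_zero, map_zero, zero_mul, sub_zero]
      map_mul' := fun p q => by
        simp only [map_mul, hδmul, mul_add, map_add]
        linear_combination (algebraMap k B c * algebraMap k B (δ q)) * hψq p +
          (algebraMap k B c * algebraMap k B (δ p)) * hψq q -
          (algebraMap k B c * algebraMap k B (δ p) * (algebraMap k B c * algebraMap k B (δ q))) * ht2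
      map_zero' := by rw [map_zero, ← map_zero (algebraMap k Q), hδalg, mul_zero, map_zero, zero_mul, sub_zero]
      map_add' := fun p q => by rw [map_add, hδadd, mul_add, map_add, add_mul]; abel
      commutes' := fun r => by rw [AlgHom.commutes, hδalg, mul_zero, map_zero, zero_mul, sub_zero] }
  have hkill : ∀ q ∈ RingHom.ker π, ψ₁ q = 0 := by
    have hx0 : ψ₁ x = 0 := by
      change ψ.1 x - algebraMap k B (c * δ x) * t = 0
      rw [← hd, div_mul_cancel₀ _ hax, ← hmt, sub_self]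
    intro q hq
    rw [hker] at hq
    obtain ⟨r, rfl⟩ := Ideal.mem_span_singleton'.1 hq
    rw [map_mul, hx0, mul_zero]
  let ψ₂ : R →ₐ[k] B := (Ideal.Quotient.liftₐ (RingHom.ker π) ψ₁ hkill).comp
    (Ideal.quotientKerAlgEquivOfSurjective hπ).symm.toAlgHom
  have hψ₂ : ∀ q, ψ₂ (π q) = ψ₁ q := fun q => by
    have e : (Ideal.quotientKerAlgEquivOfSurjective hπ).symm (π q) = Ideal.Quotient.mk (RingHom.ker π) q := by
      rw [AlgEquiv.symm_apply_eq]; rfl
    change Ideal.Quotient.liftₐ (RingHom.ker π) ψ₁ hkill ((Ideal.quotientKerAlgEquivOfSurjective hπ).symm (π q)) = _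
    rw [e]
    rfl
  have htμ : μ t = 0 := RingHom.mem_ker.1 (ht.ge (Ideal.mem_span_singleton_self t))
  refine ⟨⟨ψ₂, AlgHom.ext fun r => ?_⟩, homSet_ext fun r => ?_⟩
  · obtain ⟨q, rfl⟩ := hπ r
    change B.res (ψ₂ (π q)) = res (π q)
    rw [hψ₂]
    change B.res (ψ.1 q - algebraMap k B (c * δ q) * t) = _
    rw [map_sub, map_mul, ← res_app μ t, htμ, map_zero, mul_zero, sub_zero]
    exact (AlgHom.congr_fun ψ.2 q).trans (AlgHom.congr_fun hres q).symm
  · obtain ⟨q, rfl⟩ := hπ r
    change μ (ψ₂ (π q)) = φ.1 (π q)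
    rw [hψ₂]
    change μ.toAlgHom (ψ.1 q - algebraMap k B (c * δ q) * t) = _
    rw [map_sub, map_mul, show μ.toAlgHom t = 0 from htμ, mul_zero, sub_zero]
    exact hψ' q

theorem exists_minimal_smooth_cover {R : Type u} [CommRing R] [Algebra k R] [IsLocalRing R] (res : R →ₐ[k] k) :
    ∀ (d : ℕ) (Q : Type u) [CommRing Q] [Algebra k Q] [IsRegularLocalRing Q] (π : Q →ₐ[k] R),
      Function.Surjective π → (maximalIdeal Q).spanFinrank = d → IsSmoothFunctor (hR Q (res.comp π)) →
      ∃ (P : Type u) (_ : CommRing P) (_ : Algebra k P) (_ : IsRegularLocalRing P) (α : P →ₐ[k] R),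
        Function.Surjective α ∧ RingHom.ker α ≤ maximalIdeal P ^ 2 ∧ IsSmoothFunctor (hR P (res.comp α)) := by
  intro d
  induction d with
  | zero =>
    intro Q _ _ _ π hπ hd hsm
    refine ⟨Q, inferInstance, inferInstance, inferInstance, π, hπ, ?_, hsm⟩
    have hle : RingHom.ker π ≤ maximalIdeal Q := IsLocalRing.le_maximalIdeal (RingHom.ker_ne_top _)
    have hbot : maximalIdeal Q = ⊥ :=
      (Submodule.spanFinrank_eq_zero_iff_eq_bot (maximalIdeal Q).fg_of_isNoetherianRing).1 hd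
    exact (hbot ▸ hle : RingHom.ker π ≤ ⊥).trans bot_le
  | succ d ih =>
    intro Q _ _ _ π hπ hd hsm
    by_cases h2 : RingHom.ker π ≤ maximalIdeal Q ^ 2
    · exact ⟨Q, inferInstance, inferInstance, inferInstance, π, hπ, h2, hsm⟩
    obtain ⟨x, hxk, hx2⟩ := SetLike.not_le_iff_exists.1 h2
    have hle : RingHom.ker π ≤ maximalIdeal Q := IsLocalRing.le_maximalIdeal (RingHom.ker_ne_top _)
    obtain ⟨hreg, hdim⟩ := RegularLocal.Basic.quotient_singleton (hle hxk) hx2
    let π' : (Q ⧸ Ideal.span {x}) →ₐ[k] R := Ideal.Quotient.liftₐ _ π fun a ha =>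
      RingHom.mem_ker.1 ((Ideal.span_singleton_le_iff_mem (RingHom.ker π)).2 hxk ha)
    refine ih (Q ⧸ Ideal.span {x}) π' (fun r => (hπ r).elim fun a ha => ⟨Ideal.Quotient.mk _ a, ha⟩) ?_ ?_
    · rw [← IsRegularLocalRing.spanFinrank_maximalIdeal, ← IsRegularLocalRing.spanFinrank_maximalIdeal, hd] at hdim
      have h1 : (maximalIdeal (Q ⧸ Ideal.span {x})).spanFinrank + 1 = d + 1 := by exact_mod_cast hdim
      omega
    · exact smooth_quotient (res.comp π) (res.comp π') (Ideal.Quotient.mkₐ k _) Ideal.Quotient.mk_surjective rfl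
        (Ideal.mk_ker : RingHom.ker (Ideal.Quotient.mk (Ideal.span {x})) = Ideal.span {x}) (hle hxk) hx2 hsm

theorem exists_smooth_cover_of_essFiniteType (R : Type u) [CommRing R] [IsLocalRing R] [Algebra k R]
    [Algebra.EssFiniteType k R] (res : R →ₐ[k] k) :
    ∃ (P : Type u) (_ : CommRing P) (_ : Algebra k P) (_ : IsRegularLocalRing P) (π : P →ₐ[k] R),
      Function.Surjective π ∧ IsSmoothFunctor (hR P (res.comp π)) := by
  classical
  let σ := Algebra.EssFiniteType.finset k R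
  let ev : MvPolynomial (σ : Set R) k →ₐ[k] R := MvPolynomial.aeval Subtype.val
  let p : Ideal (MvPolynomial (σ : Set R) k) := (maximalIdeal R).comap ev
  haveI : p.IsPrime := Ideal.comap_isPrime _ _
  haveI : Finite (σ : Set R) := σ.finite_toSet.to_subtype
  have hu : ∀ t : p.primeCompl, IsUnit (ev t) := fun t => by
    by_contra h
    exact t.2 ((IsLocalRing.mem_maximalIdeal _).2 h)
  let π := IsLocalization.liftAlgHom (M := p.primeCompl) (S := Localization.AtPrime p) (f := ev) hu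
  refine ⟨Localization.AtPrime p, inferInstance, inferInstance, inferInstance, π, fun r => ?_, fun B A μ hμ φ => ?_⟩
  · have hev : ∀ a ∈ Algebra.EssFiniteType.subalgebra k R, ∃ x, ev x = a := fun a ha => by
      rw [Algebra.EssFiniteType.subalgebra, Algebra.adjoin_eq_range] at ha
      exact ha
    obtain ⟨⟨a, t⟩, e⟩ := IsLocalization.surj (Algebra.EssFiniteType.submonoid k R) r
    obtain ⟨x, hx⟩ := hev a.1 a.2
    obtain ⟨y, hy⟩ := hev t.1.1 t.1.2
    have hyu : y ∈ p.primeCompl := fun h => (IsLocalRing.mem_maximalIdeal _).1 h (by rw [hy]; exact t.2)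
    refine ⟨IsLocalization.mk' _ x (⟨y, hyu⟩ : p.primeCompl), ?_⟩
    simp only [π]
    rw [IsLocalization.liftAlgHom_apply, IsLocalization.lift_mk'_spec]
    change ev x = ev y * r
    rw [hx, hy, mul_comm]
    exact e.symm
  · choose b hb using fun i : (σ : Set R) => hμ (φ.1 (algebraMap (MvPolynomial (σ : Set R) k) (Localization.AtPrime p) (MvPolynomial.X i)))
    let f : MvPolynomial (σ : Set R) k →ₐ[k] B := MvPolynomial.aeval b
    have hf : μ.toAlgHom.comp f = φ.1.comp ((Algebra.ofId (MvPolynomial (σ : Set R) k) _).restrictScalars k) :=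
      MvPolynomial.algHom_ext fun i => by
        change μ (f (MvPolynomial.X i)) = φ.1 (algebraMap _ _ (MvPolynomial.X i))
        rw [show f (MvPolynomial.X i) = b i from MvPolynomial.aeval_X b i, hb]
    have hfu : ∀ t : p.primeCompl, IsUnit (f t) := fun t => IsLocalRing.notMem_maximalIdeal.1 fun hm => by
      have h1 := map_mem_maximalIdeal μ hm
      rw [show μ (f t) = φ.1 (algebraMap _ _ (t : MvPolynomial (σ : Set R) k)) from AlgHom.congr_fun hf t] at h1
      exact (IsLocalRing.mem_maximalIdeal _).1 h1 ((IsLocalization.map_units (Localization.AtPrime p) t).map φ.1)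
    let ψ := IsLocalization.liftAlgHom (M := p.primeCompl) (S := Localization.AtPrime p) (f := f) hfu
    have hψ : μ.toAlgHom.comp ψ = φ.1 :=
      IsLocalization.algHom_ext p.primeCompl (AlgHom.ext fun x => by
        refine Eq.trans ?_ (AlgHom.congr_fun hf x)
        exact congrArg μ.toAlgHom (IsLocalization.lift_eq hfu x))
    exact ⟨⟨ψ, res_any _ _⟩, Subtype.ext hψ⟩

theorem isRegularLocalRing_iff_lifts (R : Type u) [CommRing R] [IsLocalRing R] [IsNoetherianRing R] [Algebra k R]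
    [Algebra.EssFiniteType k R] (res : R →ₐ[k] k) :
    IsRegularLocalRing R ↔ IsSmoothFunctor (hR R res) := by
  constructor
  · intro hreg
    obtain ⟨Q, _, _, _, π₀, hπ₀, hsm₀⟩ := exists_smooth_cover_of_essFiniteType R res
    obtain ⟨P, _, _, _, π, hπ, hker, hsm⟩ := exists_minimal_smooth_cover res _ Q π₀ hπ₀ rfl hsm₀
    haveI := RegularLocal.Basic.isDomain (R := P)
    have hd : (maximalIdeal P).spanFinrank = (maximalIdeal R).spanFinrank := by
      rw [spanFinrank_maximalIdeal_eq_finrank_cotangentSpace, spanFinrank_maximalIdeal_eq_finrank_cotangentSpace,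
        Alg.PPoly.finrank_cotangent_of_surjective (π : P →+* R) hπ hker]
    have hbot : RingHom.ker π = ⊥ := by
      by_contra hne
      obtain ⟨x, hxk, hx0⟩ := Submodule.exists_mem_ne_zero_of_ne_bot hne
      have h1 := ringKrullDim_quotient_succ_le_of_nonZeroDivisor (R := P) (mem_nonZeroDivisors_of_ne_zero hx0)
      have h2 : ringKrullDim R ≤ ringKrullDim (P ⧸ Ideal.span {x}) :=
        ringKrullDim_le_of_surjective (Ideal.Quotient.lift (Ideal.span {x}) (π : P →+* R) fun a ha =>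
          RingHom.mem_ker.1 ((Ideal.span_singleton_le_iff_mem (RingHom.ker π)).2 hxk ha))
          fun r => (hπ r).elim fun a ha => ⟨Ideal.Quotient.mk _ a, ha⟩
      have h3 := le_trans (add_le_add h2 le_rfl) h1
      rw [← IsRegularLocalRing.spanFinrank_maximalIdeal (R := R), ← IsRegularLocalRing.spanFinrank_maximalIdeal (R := P), hd] at h3
      have h4 : (maximalIdeal R).spanFinrank + 1 ≤ (maximalIdeal R).spanFinrank := by exact_mod_cast h3
      omega
    let e := AlgEquiv.ofBijective π ⟨(RingHom.injective_iff_ker_eq_bot _).2 hbot, hπ⟩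
    intro B A μ hμ φ
    obtain ⟨ψ, hψ⟩ := hsm μ hμ ⟨φ.1.comp π, by rw [← AlgHom.comp_assoc, φ.2]⟩
    refine ⟨⟨ψ.1.comp (e.symm : R →ₐ[k] P), res_any _ _⟩, homSet_ext fun r => ?_⟩
    refine (AlgHom.congr_fun (congrArg Subtype.val hψ) (e.symm r)).trans ?_
    exact congrArg φ.1 (e.apply_symm_apply r)
  · intro h
    obtain ⟨Q, _, _, _, π₀, hπ₀, -⟩ := exists_smooth_cover_of_essFiniteType R res
    let T : ObsTheory (hR R res) PUnit.{u + 1} :=
      { obs := fun {_ _} _ _ _ => 0
        obs_eq_zero_iff := fun {_ _} p hp u => ⟨fun _ => h p hp.1 u, fun _ => rfl⟩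
        obs_quot := fun {_ _} p hp K hK hKJ hq u => (map_zero _).symm }
    exact (estimates res π₀ hπ₀ PUnit.{u + 1} T).2.2.1 (Module.finrank_zero_of_subsingleton)

/-! ### the other shape of obstruction theory -/

open W4bk4hartshdef114 in
theorem obs_congr {A : Type u} [CommRing A] [Algebra k A] {V : Type u} [AddCommGroup V] [Module k V]
    (T : W4bk4hartshdef114.ObsTheory k A V) {C' : Type u} [CommRing C'] [Algebra k C'] {J₁ J₂ : Ideal C'} (h : J₁ = J₂)
    (u₁ : A →ₐ[k] C' ⧸ J₁) (u₂ : A →ₐ[k] C' ⧸ J₂) (hu : (Ideal.Quotient.factorₐ k h.le).comp u₁ = u₂) :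
    T.obs C' J₂ u₂ = LinearMap.lTensor V ((Submodule.inclusion h.le).restrictScalars k) (T.obs C' J₁ u₁) := by
  subst h
  rw [show Ideal.Quotient.factorₐ k (le_refl J₁) = AlgHom.id k _ from AlgHom.ext fun x => by
    obtain ⟨x, rfl⟩ := Ideal.Quotient.mk_surjective x; rfl, AlgHom.id_comp] at hu
  subst hu
  rw [show (Submodule.inclusion (le_refl J₁)).restrictScalars k = LinearMap.id from rfl, LinearMap.lTensor_id]
  rfl

theorem nonempty_obsTheory {A : Type u} [CommRing A] [IsLocalRing A] [Algebra k A] (res : A →ₐ[k] k) {V : Type u}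
    [AddCommGroup V] [Module k V] (T : W4bk4hartshdef114.ObsTheory k A V) :
    Nonempty (ArtFun.ObsTheory (hR A res) V) := by
  have hse : ∀ {C' C : Art k k} (p : C' ⟶ C), IsSemismallExt p →
      W4bk4hartshdef114.IsSmallExt k C'.carrier (RingHom.ker p.toAlgHom) := fun {C' C} p hp => by
    refine ⟨inferInstance, inferInstance, fun x => ⟨C'.res x, ?_⟩, fun x j hx hj => ?_, RingHom.ker_ne_top _⟩
    · rw [← IsLocalRing.mem_maximalIdeal, C'.mem_maximalIdeal_iff, map_sub, AlgHom.commutes, Algebra.algebraMap_self,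
        RingHom.id_apply, sub_self]
    · rw [← Submodule.mem_bot (R := C'.carrier), ← hp.2]
      exact Ideal.mul_mem_mul ((IsLocalRing.mem_maximalIdeal x).2 hx) hj
  let U : ∀ {C' C : Art k k} (p : C' ⟶ C), Function.Surjective p → HomSet A res C →
      (A →ₐ[k] C'.carrier ⧸ RingHom.ker p.toAlgHom) := fun {C' C} p hp φ =>
    (Ideal.quotientKerAlgEquivOfSurjective (f := p.toAlgHom) hp).symm.toAlgHom.comp φ.1
  have hU : ∀ {C' C : Art k k} (p : C' ⟶ C) (hp : Function.Surjective p) (φ : HomSet A res C) (a : A) (c : C'),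
      p c = φ.1 a → U p hp φ a = Ideal.Quotient.mk (RingHom.ker p.toAlgHom) c := fun {C' C} p hp φ a c h => by
    change (Ideal.quotientKerAlgEquivOfSurjective (f := p.toAlgHom) hp).symm (φ.1 a) = _
    rw [AlgEquiv.symm_apply_eq]
    exact h.symm
  refine ⟨{ obs := fun {C' C} p hp φ => T.obs C'.carrier (RingHom.ker p.toAlgHom) (U p hp.1 φ)
            obs_eq_zero_iff := fun {C' C} p hp φ => ?_
            obs_quot := fun {C' C} p hp K hK hKJ hq φ => ?_ }⟩
  · rw [T.obs_eq_zero_iff _ _ (hse p hp)]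
    refine ⟨fun ⟨g, hg⟩ => ⟨⟨g, res_any _ _⟩, homSet_ext fun a => ?_⟩, fun ⟨g, hg⟩ => ⟨g.1, AlgHom.ext fun a => ?_⟩⟩
    · obtain ⟨c, hc⟩ := hp.1 (φ.1 a)
      have h := AlgHom.congr_fun hg a
      rw [hU p hp.1 φ a c hc] at h
      change p (g a) = φ.1 a
      rw [← hc, ← sub_eq_zero, ← map_sub]
      exact RingHom.mem_ker.1 (Ideal.Quotient.eq.1 h)
    · exact (hU p hp.1 φ a (g.1 a) (AlgHom.congr_fun (congrArg Subtype.val hg) a)).symm
  · have hmap : (RingHom.ker p.toAlgHom).map (Ideal.Quotient.mkₐ k K) = RingHom.ker (quotFactor hK p hKJ).toAlgHom := by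
      refine le_antisymm (Ideal.map_le_iff_le_comap.2 fun x hx => RingHom.mem_ker.2 (RingHom.mem_ker.1 hx :)) fun z hz => ?_
      obtain ⟨x, rfl⟩ := Ideal.Quotient.mk_surjective z
      exact Ideal.mem_map_of_mem (Ideal.Quotient.mkₐ k K) (RingHom.mem_ker.2 (RingHom.mem_ker.1 hz :))
    refine (obs_congr (C' := C'.carrier ⧸ K) T hmap
      (((DoubleQuot.quotQuotEquivQuotOfLEₐ k hKJ).symm : (C'.carrier ⧸ RingHom.ker p.toAlgHom) →ₐ[k] _).comp (U p hp.1 φ))
      (U (quotFactor hK p hKJ) hq.1 φ) (AlgHom.ext fun a => ?_)).trans ?_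
    · obtain ⟨c, hc⟩ := hp.1 (φ.1 a)
      refine Eq.trans ?_ (hU (quotFactor hK p hKJ) hq.1 φ a (Ideal.Quotient.mk K c) hc).symm
      change Ideal.Quotient.factorₐ k hmap.le ((DoubleQuot.quotQuotEquivQuotOfLEₐ k hKJ).symm (U p hp.1 φ a)) = _
      rw [hU p hp.1 φ a c hc]
      rfl
    · rw [T.obs_quot C'.carrier _ K (hse p hp) hKJ (U p hp.1 φ)]
      exact (LinearMap.lTensor_comp_apply _ _ _ _).symm

theorem exists_gens_of_obsTheory {P : Type u} [CommRing P] [IsRegularLocalRing P] [Algebra k P]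
    (hres : Function.Surjective (algebraMap k (ResidueField P))) (I : Ideal P) (hI : I ≤ maximalIdeal P ^ 2)
    (V : Type u) [AddCommGroup V] [Module k V] [Module.Finite k V] (T : W4bk4hartshdef114.ObsTheory k (P ⧸ I) V) :
    ∃ s : Finset P, s.card ≤ Module.finrank k V ∧ Ideal.span (s : Set P) = I := by
  let e : k ≃ₐ[k] ResidueField P := AlgEquiv.ofBijective (Algebra.ofId k _) ⟨RingHom.injective _, hres⟩
  let ρ : P →ₐ[k] k := (e.symm : ResidueField P →ₐ[k] k).comp
    { IsLocalRing.residue P with commutes' := fun _ => rfl }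
  have hIm : I ≤ maximalIdeal P := hI.trans (Ideal.pow_le_self two_ne_zero)
  haveI : IsLocalRing (P ⧸ I) :=
    RegularLocal.Basic.isLocalRing_quotient (RegularLocal.Basic.ne_top_of_le_maximalIdeal hIm)
  let res : (P ⧸ I) →ₐ[k] k := Ideal.Quotient.liftₐ I ρ fun a ha => (mem_max_iff ρ a).1 (hIm ha)
  obtain ⟨T'⟩ := nonempty_obsTheory res T
  exact exists_gens_le ρ I hI res (Ideal.Quotient.mkₐ k I) Ideal.Quotient.mk_surjective
    (Ideal.mk_ker : RingHom.ker (Ideal.Quotient.mk I) = I) (Ideal.Quotient.liftₐ_comp _ _ _) V T'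

end Groth.Agent.Misc9.SF
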