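import Groth.Agent.Misc9.SF.Prorep

/-! Finite tangent spaces of versal families; the coefficient ring of a pair functor. -/

universe u v

set_option synthInstance.maxHeartbeats 20000
set_option maxHeartbeats 400000

open CategoryTheory

namespace Groth.Agent.Misc9.SF

open ArtFun ArtFun.Art

variable {Λ k : Type u} [CommRing Λ] [Field k] [Algebra Λ k]

theorem hfin_of_tangent_surjective [IsNoetherianRing Λ] [Module.Finite Λ k] {F : Art Λ k ⥤ Type v} [TangentStr F]
    (R : CRing Λ k) {ξ : Family R.carrier R.res F} (hξ : Function.Surjective (ξ.app (dual Λ k))) : Hfin F := by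
  obtain ⟨s, hs⟩ := exists_finset_dual R
  let ev : HomSet R.carrier R.res (dual Λ k) → (s → k) := fun a r => (a.1 r : DualNumber k).snd
  let G : Submodule k ((s → k) × TangentSpace F) :=
    { carrier := {x | ∃ a, (ev a, TangentSpace.mk (ξ.app _ a)) = x}
      add_mem' := by
        rintro _ _ ⟨a, rfl⟩ ⟨b, rfl⟩
        obtain ⟨l, hl, hl'⟩ := homSet_lift isFibreProd_dual2 a b
          (Subtype.ext ((homSet_base _).trans (homSet_base _).symm))
        refine ⟨HomSet.map plus l, Prod.ext (funext fun r => ?_) (by rw [tangent_add_eq, hl, hl']; rfl)⟩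
        have e₁ : ((HomSet.map pr₁ l).1 r : DualNumber k).snd = (a.1 r : DualNumber k).snd := by rw [hl]
        have e₂ : ((HomSet.map pr₂ l).1 r : DualNumber k).snd = (b.1 r : DualNumber k).snd := by rw [hl']
        change _ = ev a r + ev b r
        simp only [ev]
        rw [← e₁, ← e₂]
        rfl
      zero_mem' := by
        refine ⟨HomSet.map (scale 0) (HomSet.map baseToDual (homSetBase R.carrier R.res)),
          Prod.ext (funext fun r => ?_) ?_⟩
        · change (0 : k) • (_ : k) = 0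
          exact zero_smul k _
        · rw [ξ.natural]
          exact (TangentStr.smul_eq (0 : k) _).symm.trans (zero_smul k (TangentSpace.mk _))
      smul_mem' := by
        rintro c _ ⟨a, rfl⟩
        refine ⟨HomSet.map (scale c) a, Prod.ext rfl ?_⟩
        rw [ξ.natural]
        exact (TangentStr.smul_eq c _).symm }
  haveI : Module.Finite k G := Module.Finite.of_injective ((LinearMap.fst k _ _).comp G.subtype) (by
    rintro ⟨_, a, rfl⟩ ⟨_, b, rfl⟩ e
    have h := hs a b fun r hr => congrFun e ⟨r, hr⟩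
    subst h
    rfl)
  refine Module.Finite.of_surjective ((LinearMap.snd k _ _).comp G.subtype) fun y => ?_
  obtain ⟨a, ha⟩ := hξ (TangentSpace.val y)
  exact ⟨⟨_, a, rfl⟩, ha⟩

section Pairs

variable (S₁ S₂ : CRing Λ k) (E : Set (S₁.carrier × S₂.carrier))

/-- pairs of maps out of two coefficient rings agreeing on given pairs of elements. -/
def pairFun : Art Λ k ⥤ Type u where
  obj A := {p : HomSet S₁.carrier S₁.res A × HomSet S₂.carrier S₂.res A // ∀ e ∈ E, p.1.1 e.1 = p.2.1 e.2}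
  map {A B} f := ↾fun p => ⟨(HomSet.map f p.1.1, HomSet.map f p.1.2), fun e he => congrArg f.toAlgHom (p.2 e he)⟩
  map_id A := ConcreteCategory.hom_ext _ _ fun p => Subtype.ext (Prod.ext (homSet_ext fun _ => rfl) (homSet_ext fun _ => rfl))
  map_comp f g := ConcreteCategory.hom_ext _ _ fun p => Subtype.ext (Prod.ext (homSet_ext fun _ => rfl) (homSet_ext fun _ => rfl))

theorem exists_pair_ring [IsNoetherianRing Λ] [Module.Finite Λ k] (hE : ∀ e ∈ E, S₁.res e.1 = S₂.res e.2) :
    ∃ (P : CRing Λ k) (i₁ : S₁.carrier →ₐ[Λ] P.carrier) (i₂ : S₂.carrier →ₐ[Λ] P.carrier),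
      P.res.comp i₁ = S₁.res ∧ P.res.comp i₂ = S₂.res ∧ (∀ e ∈ E, i₁ e.1 = i₂ e.2) ∧
      ∀ (T : CRing Λ k) (g₁ : S₁.carrier →ₐ[Λ] T.carrier) (g₂ : S₂.carrier →ₐ[Λ] T.carrier),
        T.res.comp g₁ = S₁.res → T.res.comp g₂ = S₂.res → (∀ e ∈ E, g₁ e.1 = g₂ e.2) →
          ∃! h : P.carrier →ₐ[Λ] T.carrier, T.res.comp h = P.res ∧ h.comp i₁ = g₁ ∧ h.comp i₂ = g₂ := by
  let F := pairFun S₁ S₂ E
  have h0 : H0 F := ⟨⟨⟨(homSetBase _ _, homSetBase _ _), fun e he => hE e he⟩⟩, ⟨fun x y =>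
    Subtype.ext (Prod.ext (Subtype.ext ((homSet_base _).trans (homSet_base _).symm))
      (Subtype.ext ((homSet_base _).trans (homSet_base _).symm)))⟩⟩
  have hle : IsLeftExact F := fun B A A' A'' p' p'' f' f'' h => by
    refine ⟨cmp_injective_of fun z z' e e' => Subtype.ext (Prod.ext ?_ ?_), cmp_surjective_of fun x y e => ?_⟩
    · exact homSet_inj h (congrArg (fun t => t.1.1) e) (congrArg (fun t => t.1.1) e')
    · exact homSet_inj h (congrArg (fun t => t.1.2) e) (congrArg (fun t => t.1.2) e')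
    · obtain ⟨a, ha, ha'⟩ := homSet_lift h x.1.1 y.1.1 (congrArg (fun t => t.1.1) e)
      obtain ⟨b, hb, hb'⟩ := homSet_lift h x.1.2 y.1.2 (congrArg (fun t => t.1.2) e)
      refine ⟨⟨(a, b), fun e' he => h.inj _ _ ?_ ?_⟩, Subtype.ext (Prod.ext ha hb), Subtype.ext (Prod.ext ha' hb')⟩
      · have e₁ : p' (a.1 e'.1) = x.1.1.1 e'.1 := AlgHom.congr_fun (congrArg Subtype.val ha) _
        have e₂ : p' (b.1 e'.2) = x.1.2.1 e'.2 := AlgHom.congr_fun (congrArg Subtype.val hb) _
        rw [e₁, e₂]; exact x.2 e' he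
      · have e₁ : p'' (a.1 e'.1) = y.1.1.1 e'.1 := AlgHom.congr_fun (congrArg Subtype.val ha') _
        have e₂ : p'' (b.1 e'.2) = y.1.2.1 e'.2 := AlgHom.congr_fun (congrArg Subtype.val hb') _
        rw [e₁, e₂]; exact y.2 e' he
  have hrs : RS F := fun B A A' A'' p' p'' f' f'' h _ => hle p' p'' f' f'' h
  obtain ⟨T⟩ := nonempty_tangentStr F h0 hrs.heps
  letI := T
  have h3 : Hfin F := by
    obtain ⟨s₁, hs₁⟩ := exists_finset_dual S₁
    obtain ⟨s₂, hs₂⟩ := exists_finset_dual S₂
    let Φ : TangentSpace F →ₗ[k] (s₁ → k) × (s₂ → k) :=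
      { toFun := fun x => (fun r => ((TangentSpace.val x).1.1.1 r : DualNumber k).snd,
          fun r => ((TangentSpace.val x).1.2.1 r : DualNumber k).snd)
        map_add' := fun x y => by
          obtain ⟨z, hz, hz'⟩ := cmp_surj (hrs.heps pr₁ pr₂ isFibreProd_dual2).2 (x := TangentSpace.val x)
            (y := TangentSpace.val y) (h0.2.elim _ _)
          have h : x + y = TangentSpace.mk (F.map plus z) := by
            rw [show x = TangentSpace.mk (F.map pr₁ z) by rw [hz]; rfl, show y = TangentSpace.mk (F.map pr₂ z) by rw [hz']; rfl]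
            exact TangentStr.add_eq z
          rw [h, ← hz, ← hz']
          rfl
        map_smul' := fun c x => by
          have h : c • x = TangentSpace.mk (F.map (scale c) (TangentSpace.val x)) := TangentStr.smul_eq c _
          rw [h]
          rfl }
    refine Module.Finite.of_injective Φ fun x y e => Subtype.ext (Prod.ext ?_ ?_)
    · exact hs₁ _ _ fun r hr => congrFun (congrArg Prod.fst e) ⟨r, hr⟩
    · exact hs₂ _ _ fun r hr => congrFun (congrArg Prod.snd e) ⟨r, hr⟩
  obtain ⟨P, ξ, hv, hs, hi⟩ := exists_versal F h0 hrs.s1 hrs.heps h3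
  have hinj : ∀ x₀ : F.obj (base Λ k), Function.Injective (fun σ : base Λ k ⟶ dual Λ k => F.map σ x₀) := by
    intro x₀ σ τ e
    refine hom_ext' fun c => ?_
    obtain ⟨r, hr⟩ := S₁.res_surjective c
    have e' := AlgHom.congr_fun (congrArg (fun t => t.1.1.1) e) r
    have hx : x₀.1.1.1 r = c := (AlgHom.congr_fun (homSet_base x₀.1.1) r).trans hr
    change σ (x₀.1.1.1 r) = τ (x₀.1.1.1 r) at e'
    rwa [hx] at e'
  have hu : IsUniversal ξ := isUniversal_of_isMiniversal h0 hrs.hsq ξ ⟨hv, hi hinj, hs⟩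
  let u : ∀ n, F.obj (P.trunc n) := fun n => ξ.app _ (P.truncHom n)
  have huc : ∀ n, F.map (P.truncMap n) (u (n + 1)) = u n := fun n => by rw [← ξ.natural, P.truncMap_truncHom]
  obtain ⟨i₁, hi₁, hi₁'⟩ := exists_hom_of_system (fun n => (u n).1.1) (fun n => congrArg (fun t => t.1.1) (huc n))
  obtain ⟨i₂, hi₂, hi₂'⟩ := exists_hom_of_system (fun n => (u n).1.2) (fun n => congrArg (fun t => t.1.2) (huc n))
  have hξ : ∀ {A : Art Λ k} (φ : HomSet P.carrier P.res A),
      (ξ.app A φ).1.1 = alongHom i₁ hi₁ φ ∧ (ξ.app A φ).1.2 = alongHom i₂ hi₂ φ := fun {A} φ => by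
    obtain ⟨N, hN⟩ := exists_factor P φ
    obtain ⟨g, hg⟩ := hN N le_rfl
    rw [← hg, ξ.natural]
    exact ⟨(congrArg (HomSet.map g) (hi₁' N)).symm, (congrArg (HomSet.map g) (hi₂' N)).symm⟩
  refine ⟨P, i₁, i₂, hi₁, hi₂, fun e he => ?_, fun T g₁ g₂ hg₁ hg₂ hg => ?_⟩
  · have key : ∀ n, (P.truncHom n).1 (i₁ e.1) = (P.truncHom n).1 (i₂ e.2) := fun n => by
      have h := (u n).2 e he
      rw [← hi₁' n, ← hi₂' n] at h
      exact h
    refine IsHausdorff.eq_iff_smodEq (I := IsLocalRing.maximalIdeal P.carrier) |>.2 fun n => ?_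
    rw [SModEq.sub_mem, smul_eq_mul, Ideal.mul_top]
    exact Ideal.pow_le_pow_right (Nat.le_succ n) (Ideal.Quotient.eq.1 (key n))
  · let v : ∀ n, F.obj (T.trunc n) := fun n => ⟨(alongHom g₁ hg₁ (T.truncHom n), alongHom g₂ hg₂ (T.truncHom n)),
      fun e he => congrArg (T.truncHom n).1 (hg e he)⟩
    choose φ hφ using fun n => (hu (T.trunc n)).2 (v n)
    obtain ⟨h, hh, hh'⟩ := exists_hom_of_system φ fun n => (hu _).1 (by
      rw [ξ.natural, hφ, hφ]
      exact Subtype.ext (Prod.ext (homSet_ext fun _ => rfl) (homSet_ext fun _ => rfl)))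
    refine ⟨h, ⟨hh, ?_, ?_⟩, fun h' ⟨hh₁, hh₂, hh₃⟩ => ?_⟩
    · refine hom_ext_trunc fun n => ?_
      exact congrArg Subtype.val ((congrArg (alongHom i₁ hi₁) (hh' n)).trans ((hξ (φ n)).1.symm.trans (congrArg (fun t => t.1.1) (hφ n))))
    · refine hom_ext_trunc fun n => ?_
      exact congrArg Subtype.val ((congrArg (alongHom i₂ hi₂) (hh' n)).trans ((hξ (φ n)).2.symm.trans (congrArg (fun t => t.1.2) (hφ n))))
    · refine hom_ext_trunc fun n => ?_
      have e : alongHom h' hh₁ (T.truncHom n) = φ n := (hu _).1 (by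
        rw [hφ]
        refine Subtype.ext (Prod.ext ((hξ _).1.trans ?_) ((hξ _).2.trans ?_))
        · exact homSet_ext fun r => congrArg (T.truncHom n).1 (AlgHom.congr_fun hh₂ r)
        · exact homSet_ext fun r => congrArg (T.truncHom n).1 (AlgHom.congr_fun hh₃ r))
      exact congrArg Subtype.val (e.trans (hh' n).symm)

end Pairs

end Groth.Agent.Misc9.SF
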