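import Groth.Agent.Misc9.SF.PSRegular
import Groth.Agent.Misc9.SF.Hull
import Mathlib.RingTheory.MvPowerSeries.Derivative
import Mathlib.RingTheory.Filtration

/-! `T¹`-lifting in characteristic zero. -/

universe u v

set_option synthInstance.maxHeartbeats 40000
set_option maxHeartbeats 400000

open CategoryTheory

namespace Groth.Agent.Misc9.SF

open ArtFun ArtFun.Art IsLocalRing TrivSqZeroExt

variable {k : Type u} [Field k]

instance tszArt_isLocalRing (A : Art k k) (N : ℕ) : IsLocalRing (TrivSqZeroExt A (Fin N → A)) :=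
  IsLocalRing.of_isUnit_or_isUnit_one_sub_self fun x => by
    rw [TrivSqZeroExt.isUnit_iff_isUnit_fst, TrivSqZeroExt.isUnit_iff_isUnit_fst, TrivSqZeroExt.fst_sub,
      TrivSqZeroExt.fst_one]
    exact IsLocalRing.isUnit_or_isUnit_one_sub_self _

instance tszArt_isArtinianRing (A : Art k k) (N : ℕ) : IsArtinianRing (TrivSqZeroExt A (Fin N → A)) :=
  haveI : Module.Finite A (TrivSqZeroExt A (Fin N → A)) := inferInstanceAs (Module.Finite A (A × (Fin N → A)))
  IsArtinianRing.of_finite A _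

/-- `A ⊕ A^N`. -/
def tszArt (A : Art k k) (N : ℕ) : Art k k :=
  { carrier := TrivSqZeroExt A (Fin N → A)
    res := A.res.comp (TrivSqZeroExt.fstHom k A (Fin N → A))
    res_surjective := fun c => (A.res_surjective c).elim fun a ha => ⟨TrivSqZeroExt.inl a, ha⟩ }

/-- the retraction. -/
def tszFst (A : Art k k) (N : ℕ) : tszArt A N ⟶ A :=
  ⟨TrivSqZeroExt.fstHom k A (Fin N → A), rfl⟩

/-- the section. -/
def tszInl (A : Art k k) (N : ℕ) : A ⟶ tszArt A N :=
  ⟨TrivSqZeroExt.inlAlgHom k A (Fin N → A), AlgHom.ext fun _ => rfl⟩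

theorem tszInl_tszFst (A : Art k k) (N : ℕ) : tszInl A N ≫ tszFst A N = 𝟙 A := hom_ext' fun _ => rfl

/-- the ideal `0 ⊕ S`. -/
def tszSub0 (A : Art k k) (N : ℕ) (S : Submodule A (Fin N → A)) : Ideal (TrivSqZeroExt A (Fin N → A)) where
  carrier := {x | x.fst = 0 ∧ x.snd ∈ S}
  add_mem' := fun {x y} ⟨h1, h2⟩ ⟨h3, h4⟩ =>
    ⟨by rw [TrivSqZeroExt.fst_add, h1, h3, add_zero], by rw [TrivSqZeroExt.snd_add]; exact S.add_mem h2 h4⟩
  zero_mem' := ⟨rfl, S.zero_mem⟩
  smul_mem' := fun c x ⟨h1, h2⟩ => by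
    refine ⟨?_, ?_⟩
    · rw [smul_eq_mul, TrivSqZeroExt.fst_mul, h1, mul_zero]
    · rw [smul_eq_mul, TrivSqZeroExt.snd_mul, h1, MulOpposite.op_zero, zero_smul, add_zero]
      exact S.smul_mem _ h2

/-- the ideal `0 ⊕ S` in the object. -/
def tszSub (A : Art k k) (N : ℕ) (S : Submodule A (Fin N → A)) : Ideal (tszArt A N) := tszSub0 A N S

theorem tszSub_le_max (A : Art k k) (N : ℕ) (S : Submodule A (Fin N → A)) :
    tszSub A N S ≤ maximalIdeal (tszArt A N) := fun x hx => by
  rw [(tszArt A N).mem_maximalIdeal_iff]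
  exact (congrArg A.res hx.1).trans (map_zero _)

theorem tszSub_le_ker (A : Art k k) (N : ℕ) (S : Submodule A (Fin N → A)) :
    tszSub A N S ≤ RingHom.ker (tszFst A N).toAlgHom := fun _ hx => RingHom.mem_ker.2 hx.1

/-- the lifting property used in the proof. -/
def T1Lifts (R : CRing k k) : Prop :=
  ∀ (A : Art k k) (N : ℕ) (S : Submodule A (Fin N → A))
    (φ : HomSet R.carrier R.res (quot (tszArt A N) (tszSub A N S) (tszSub_le_max A N S))),
      ∃ ψ : HomSet R.carrier R.res (tszArt A N), HomSet.map (quotMk _ _ _) ψ = φ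

theorem ker_eq_bot_of_pderiv [CharZero k] {N : ℕ} (I : Ideal (MvPowerSeries (Fin N) k)) (hI : I ≠ ⊤)
    (h : ∀ i, ∀ f ∈ I, MvPowerSeries.pderiv k i f ∈ I) : I = ⊥ := by
  classical
  have key : ∀ (m : ℕ) (d : Fin N →₀ ℕ), d.degree = m → ∀ f ∈ I, MvPowerSeries.coeff d f = 0 := by
    intro m
    induction m with
    | zero =>
      intro d hd f hf
      rw [Finsupp.degree_eq_zero_iff] at hd
      subst hd
      by_contra hne
      rw [MvPowerSeries.coeff_zero_eq_constantCoeff] at hne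
      exact hI (Ideal.eq_top_of_isUnit_mem _ hf (MvPowerSeries.isUnit_iff_constantCoeff.2 (isUnit_iff_ne_zero.2 hne)))
    | succ m ih =>
      intro d hd f hf
      obtain ⟨i, hi⟩ : ∃ i, d i ≠ 0 := by
        by_contra h0
        push Not at h0
        rw [show d = 0 from Finsupp.ext h0, map_zero] at hd
        omega
      have hle : Finsupp.single i 1 ≤ d := Finsupp.single_le_iff.2 (Nat.one_le_iff_ne_zero.2 hi)
      have hd' : (d - Finsupp.single i 1).degree = m := by
        have h2 : (d - Finsupp.single i 1).degree + 1 = d.degree := by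
          conv_rhs => rw [← tsub_add_cancel_of_le hle]
          rw [map_add, Finsupp.degree_single]
        omega
      have := ih _ hd' _ (h i f hf)
      rw [MvPowerSeries.coeff_pderiv, tsub_add_cancel_of_le hle, mul_eq_zero] at this
      exact this.resolve_right (by exact_mod_cast (Nat.succ_ne_zero ((d - Finsupp.single i (1 : ℕ)) i)))
  exact eq_bot_iff.2 fun f hf => Ideal.mem_bot.2 (MvPowerSeries.ext fun d => by rw [key _ d rfl f hf, map_zero])

theorem ker_eq_bot_of_t1 [CharZero k] {N : ℕ} (R : CRing k k) (π : (psRing (cringField k) N).carrier →ₐ[k] R.carrier)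
    (hres : R.res.comp π = (psRing (cringField k) N).res) (hπ : Function.Surjective π)
    (hker : RingHom.ker π ≤ maximalIdeal (psRing (cringField k) N).carrier ^ 2) (h : T1Lifts R) :
    RingHom.ker π = ⊥ := by
  classical
  haveI := field_isAdicComplete (k := k)
  let P := psRing (cringField k) N
  refine ker_eq_bot_of_pderiv (k := k) (N := N) (RingHom.ker π) (RingHom.ker_ne_top _) fun j f hf => ?_
  suffices ∀ n, ∀ i, (R.truncHom n).1 (π (MvPowerSeries.pderiv k i f)) = 0 by
    rw [RingHom.mem_ker]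
    refine IsHausdorff.haus (I := maximalIdeal R.carrier) inferInstance _ fun n => ?_
    rw [SModEq.zero, smul_eq_mul, Ideal.mul_top]
    exact Ideal.pow_le_pow_right (Nat.le_succ n) (Ideal.Quotient.eq_zero_iff_mem.1 (this n j))
  intro n
  let A := R.trunc n
  let pr : MvPowerSeries (Fin N) k →ₐ[k] A := (R.truncHom n).1.comp π
  have hpr : ∀ f, A.res (pr f) = P.res f := fun f =>
    (AlgHom.congr_fun (R.truncHom n).2 (π f)).trans (AlgHom.congr_fun hres f)
  let Φ₀ : MvPowerSeries (Fin N) k →ₐ[k] TrivSqZeroExt A (Fin N → A) :=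
    { toFun := fun f => (pr f, fun i => pr (MvPowerSeries.pderiv k i f))
      map_one' := TrivSqZeroExt.ext (map_one pr) (funext fun i => (congrArg pr (MvPowerSeries.pderiv_one (R := k) (i := i))).trans (map_zero pr))
      map_mul' := fun f g => TrivSqZeroExt.ext (map_mul pr f g) (funext fun i => by
        refine (congrArg pr ((MvPowerSeries.pderiv k i).leibniz f g)).trans ?_
        change pr (f * MvPowerSeries.pderiv k i g + g * MvPowerSeries.pderiv k i f) =
          pr f * pr (MvPowerSeries.pderiv k i g) + pr (MvPowerSeries.pderiv k i f) * pr g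
        refine (map_add pr _ _).trans (congrArg₂ (· + ·) (map_mul pr _ _) ((map_mul pr _ _).trans (mul_comm _ _))))
      map_zero' := TrivSqZeroExt.ext (map_zero pr) (funext fun i => (congrArg pr (map_zero (MvPowerSeries.pderiv k i))).trans (map_zero pr))
      map_add' := fun f g => TrivSqZeroExt.ext (map_add pr f g) (funext fun i =>
        (congrArg pr (map_add (MvPowerSeries.pderiv k i) f g)).trans (map_add pr _ _))
      commutes' := fun c => TrivSqZeroExt.ext (pr.commutes c) (funext fun i =>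
        (congrArg pr ((MvPowerSeries.pderiv k i).map_algebraMap c)).trans (map_zero pr)) }
  let Φ : HomSet P.carrier P.res (tszArt A N) := ⟨Φ₀, AlgHom.ext fun f => hpr f⟩
  let S : Submodule A (Fin N → A) := Submodule.span A
    ((fun f => (Φ₀ f).snd) '' (RingHom.ker π : Set P.carrier))
  let q := quotMk (tszArt A N) (tszSub A N S) (tszSub_le_max A N S)
  have hkill : ∀ a ∈ RingHom.ker π, q (Φ.1 a) = 0 := fun a ha => by
    refine Ideal.Quotient.eq_zero_iff_mem.2 ⟨?_, Submodule.subset_span ⟨a, ha, rfl⟩⟩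
    change (R.truncHom n).1 (π a) = 0
    rw [RingHom.mem_ker.1 ha, map_zero]
  let φ₀ : R.carrier →ₐ[k] quot (tszArt A N) (tszSub A N S) (tszSub_le_max A N S) :=
    (Ideal.Quotient.liftₐ (RingHom.ker π) (q.toAlgHom.comp Φ.1) hkill).comp
      (Ideal.quotientKerAlgEquivOfSurjective hπ).symm.toAlgHom
  have hφ₀ : ∀ a, φ₀ (π a) = q (Φ.1 a) := fun a => by
    have e : (Ideal.quotientKerAlgEquivOfSurjective hπ).symm (π a) = Ideal.Quotient.mk (RingHom.ker π) a := by
      rw [AlgEquiv.symm_apply_eq]; rfl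
    change Ideal.Quotient.liftₐ (RingHom.ker π) (q.toAlgHom.comp Φ.1) hkill
      ((Ideal.quotientKerAlgEquivOfSurjective hπ).symm (π a)) = _
    rw [e]
    rfl
  obtain ⟨ψ, hψ⟩ := h A N S ⟨φ₀, AlgHom.ext fun r => by
    obtain ⟨a, rfl⟩ := hπ r
    refine (congrArg (quot (tszArt A N) (tszSub A N S) (tszSub_le_max A N S)).res (hφ₀ a)).trans ?_
    exact (hpr a).trans (AlgHom.congr_fun hres a).symm⟩
  have hψ' : ∀ a, (ψ.1 (π a) : TrivSqZeroExt A (Fin N → A)).fst = pr a ∧
      (ψ.1 (π a) : TrivSqZeroExt A (Fin N → A)).snd - (Φ₀ a).snd ∈ S := fun a => by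
    obtain ⟨h1, h2⟩ := (Ideal.Quotient.eq.1 ((AlgHom.congr_fun (congrArg Subtype.val hψ) (π a)).trans (hφ₀ a) :) :
      (ψ.1 (π a) : tszArt A N) - Φ.1 a ∈ tszSub A N S)
    refine ⟨sub_eq_zero.1 h1, h2⟩
  let u : Fin N → (Fin N → A) := fun i => (ψ.1 (π (psX (cringField k) N i)) : TrivSqZeroExt A (Fin N → A)).snd
  let U : (Fin N → A) →ₗ[A] (Fin N → A) := Fintype.linearCombination A u
  have hSle : S ≤ maximalIdeal A • (⊤ : Submodule A (Fin N → A)) := by
    refine Submodule.span_le.2 ?_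
    rintro _ ⟨a, ha, rfl⟩
    change (Φ₀ a).snd ∈ _
    rw [pi_eq_sum_univ (Φ₀ a).snd]
    refine Submodule.sum_mem _ fun i _ => Submodule.smul_mem_smul ?_ Submodule.mem_top
    rw [A.mem_maximalIdeal_iff]
    refine (hpr (MvPowerSeries.pderiv k i a)).trans ((CRing.mem_maximalIdeal_iff P _).1 ?_)
    have ha2 := hker ha
    rw [pow_two] at ha2
    refine Submodule.mul_induction_on ha2 (fun (x : MvPowerSeries (Fin N) k) hx (y : MvPowerSeries (Fin N) k) hy => ?_) fun x y hx hy => ?_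
    · have : MvPowerSeries.pderiv k i (x * y : MvPowerSeries (Fin N) k) =
          x * MvPowerSeries.pderiv k i y + y * MvPowerSeries.pderiv k i x := (MvPowerSeries.pderiv k i).leibniz x y
      exact (congrArg (· ∈ maximalIdeal P.carrier) this).mpr (add_mem (Ideal.mul_mem_right _ _ hx) (Ideal.mul_mem_right _ _ hy))
    · exact (congrArg (· ∈ maximalIdeal P.carrier) (map_add (MvPowerSeries.pderiv k i) x y)).mpr (add_mem hx hy)
  have hUsurj : Function.Surjective U := by
    rw [← LinearMap.range_eq_top]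
    refine eq_top_iff.2 (Submodule.le_of_le_smul_of_le_jacobson_bot (I := maximalIdeal A) Module.Finite.fg_top
      (IsLocalRing.maximalIdeal_le_jacobson _) ?_)
    refine (Pi.basisFun A (Fin N)).span_eq.ge.trans (Submodule.span_le.2 ?_)
    rintro _ ⟨i, rfl⟩
    rw [Pi.basisFun_apply, SetLike.mem_coe]
    have e : (Φ₀ (psX (cringField k) N i)).snd = Pi.single i (1 : A) := funext fun j => by
      change pr (MvPowerSeries.pderiv k j (MvPowerSeries.X i : MvPowerSeries (Fin N) k)) = _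
      rw [MvPowerSeries.pderiv_X, Pi.single_apply, Pi.single_apply]
      by_cases hij : i = j
      · subst hij; simp only [if_pos rfl]; exact map_one pr
      · rw [if_neg hij, if_neg (Ne.symm hij)]; exact map_zero pr
    have h2 := (hψ' (psX (cringField k) N i)).2
    rw [e] at h2
    rw [← sub_sub_cancel (u i) (Pi.single i (1 : A))]
    refine sub_mem (Submodule.mem_sup_left ⟨Pi.single i 1, ?_⟩) (Submodule.mem_sup_right (hSle h2))
    simp [U, Fintype.linearCombination_apply_single]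
  have hUinj : Function.Injective U := OrzechProperty.injective_of_surjective_endomorphism U hUsurj
  let L : tszArt A N ⟶ tszArt A N := ⟨(TrivSqZeroExt.map U).restrictScalars k, AlgHom.ext fun x => by
    change A.res (TrivSqZeroExt.map U (x : TrivSqZeroExt A (Fin N → A))).fst = A.res (x : TrivSqZeroExt A (Fin N → A)).fst
    rw [TrivSqZeroExt.fst_map]⟩
  have hagree : (⟨ψ.1.comp π, by rw [← AlgHom.comp_assoc, ψ.2, hres]⟩ : HomSet P.carrier P.res (tszArt A N)) = HomSet.map L Φ := by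
    refine ps_hom_ext (self_hom_ext Function.surjective_id _ _) fun i => ?_
    change (ψ.1 (π (psX (cringField k) N i)) : TrivSqZeroExt A (Fin N → A)) = TrivSqZeroExt.map U (Φ₀ (psX (cringField k) N i))
    refine TrivSqZeroExt.ext ((hψ' _).1.trans (TrivSqZeroExt.fst_map U (Φ₀ (psX (cringField k) N i))).symm) ?_
    rw [TrivSqZeroExt.snd_map]
    have e : (Φ₀ (psX (cringField k) N i)).snd = Pi.single i (1 : A) := funext fun j => by
      change pr (MvPowerSeries.pderiv k j (MvPowerSeries.X i : MvPowerSeries (Fin N) k)) = _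
      rw [MvPowerSeries.pderiv_X, Pi.single_apply, Pi.single_apply]
      by_cases hij : i = j
      · subst hij; simp only [if_pos rfl]; exact map_one pr
      · rw [if_neg hij, if_neg (Ne.symm hij)]; exact map_zero pr
    rw [e]
    simp [U, u, Fintype.linearCombination_apply_single]
  intro i
  have h1 : TrivSqZeroExt.map U (Φ₀ f) = 0 := by
    have := AlgHom.congr_fun (congrArg Subtype.val hagree) f
    refine this.symm.trans ?_
    exact (congrArg ψ.1 (RingHom.mem_ker.1 hf)).trans (map_zero ψ.1)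
  have h2 := congrArg TrivSqZeroExt.snd h1
  rw [TrivSqZeroExt.snd_map, TrivSqZeroExt.snd_zero] at h2
  exact congrFun (hUinj (h2.trans (map_zero U).symm)) i

theorem exists_equiv_of_t1 [CharZero k] (R : CRing k k) (h : T1Lifts R) :
    ∃ e : (psRing (cringField k) (Module.finrank (ResidueField R.carrier) (CotangentSpace R.carrier))).carrier ≃ₐ[k] R.carrier,
      R.res.comp (e : (psRing (cringField k) (Module.finrank (ResidueField R.carrier) (CotangentSpace R.carrier))).carrier →ₐ[k] R.carrier) =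
        (psRing (cringField k) (Module.finrank (ResidueField R.carrier) (CotangentSpace R.carrier))).res := by
  obtain ⟨N, π, hres, hπ, hker, rfl⟩ := exists_ps_cover R
  have hbot := ker_eq_bot_of_t1 R π hres hπ hker h
  exact ⟨AlgEquiv.ofBijective π ⟨(RingHom.injective_iff_ker_eq_bot _).2 hbot, hπ⟩, hres⟩

theorem isSmoothFunctor_of_t1 [CharZero k] (R : CRing k k) (h : T1Lifts R) :
    IsSmoothFunctor (hR R.carrier R.res) := by
  haveI := field_isAdicComplete (k := k)
  obtain ⟨e, he⟩ := exists_equiv_of_t1 R h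
  exact isSmoothFunctor_of_equiv e he (ps_self_smooth Function.surjective_id _)

/-- the lifting property from split square-zero extensions. -/
theorem t1Lifts_of_versal {F : Art k k ⥤ Type v} {R : CRing k k} (ξ : Family R.carrier R.res F) (hξ : IsVersal ξ)
    (hT1 : ∀ ⦃A A' A'' : Art k k⦄ (π' : A' ⟶ A) (i' : A ⟶ A') (π'' : A'' ⟶ A) (i'' : A ⟶ A'') (q : A'' ⟶ A'),
      i' ≫ π' = 𝟙 A → i'' ≫ π'' = 𝟙 A → RingHom.ker π'.toAlgHom * RingHom.ker π'.toAlgHom = ⊥ →
      RingHom.ker π''.toAlgHom * RingHom.ker π''.toAlgHom = ⊥ →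
      q ≫ π' = π'' → i'' ≫ q = i' → Function.Surjective q → Function.Surjective (F.map q)) : T1Lifts R := by
  intro A N S φ
  have hK := tszSub_le_max A N S
  let q := quotMk (tszArt A N) (tszSub A N S) hK
  let π' := quotFactor hK (tszFst A N) (tszSub_le_ker A N S)
  have hsq : RingHom.ker (tszFst A N).toAlgHom * RingHom.ker (tszFst A N).toAlgHom = ⊥ := by
    rw [eq_bot_iff, Ideal.mul_le]
    intro x hx y hy
    let x' : TrivSqZeroExt A (Fin N → A) := x
    let y' : TrivSqZeroExt A (Fin N → A) := y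
    have hx' : x'.fst = 0 := RingHom.mem_ker.1 hx
    have hy' : y'.fst = 0 := RingHom.mem_ker.1 hy
    rw [Ideal.mem_bot]
    change x' * y' = 0
    refine TrivSqZeroExt.ext ?_ ?_
    · rw [TrivSqZeroExt.fst_mul, hx', zero_mul]; rfl
    · rw [TrivSqZeroExt.snd_mul, hx', hy']; simp
  have hsq' : RingHom.ker π'.toAlgHom * RingHom.ker π'.toAlgHom = ⊥ := by
    rw [eq_bot_iff, Ideal.mul_le]
    intro x hx y hy
    obtain ⟨x, rfl⟩ := Ideal.Quotient.mk_surjective x
    obtain ⟨y, rfl⟩ := Ideal.Quotient.mk_surjective y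
    rw [Ideal.mem_bot]
    have h0 : x * y = 0 := by
      rw [← Submodule.mem_bot (R := (tszArt A N).carrier), ← hsq]
      exact Ideal.mul_mem_mul (RingHom.mem_ker.2 (RingHom.mem_ker.1 hx :)) (RingHom.mem_ker.2 (RingHom.mem_ker.1 hy :))
    exact (map_mul _ x y).symm.trans ((congrArg _ h0).trans (map_zero _))
  have hqs : Function.Surjective q := quotMk_surjective _ _ _
  have hqπ : q ≫ π' = tszFst A N := quotMk_quotFactor _ _ _
  obtain ⟨y, hy⟩ := hT1 π' (tszInl A N ≫ q) (tszFst A N) (tszInl A N) q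
    (by rw [Category.assoc, hqπ, tszInl_tszFst]) (tszInl_tszFst A N) hsq' hsq hqπ rfl hqs (ξ.app _ φ)
  obtain ⟨ψ, hψ, -⟩ := hξ q hqs φ y hy
  exact ⟨ψ, hψ⟩

theorem smoothFunctor_of_t1 [CharZero k] {F : Art k k ⥤ Type v} [TangentStr F] (h0 : H0 F) (hRS : RS F) (hfin : Hfin F)
    (hT1 : ∀ ⦃A A' A'' : Art k k⦄ (π' : A' ⟶ A) (i' : A ⟶ A') (π'' : A'' ⟶ A) (i'' : A ⟶ A'') (q : A'' ⟶ A'),
      i' ≫ π' = 𝟙 A → i'' ≫ π'' = 𝟙 A → RingHom.ker π'.toAlgHom * RingHom.ker π'.toAlgHom = ⊥ →
      RingHom.ker π''.toAlgHom * RingHom.ker π''.toAlgHom = ⊥ →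
      q ≫ π' = π'' → i'' ≫ q = i' → Function.Surjective q → Function.Surjective (F.map q)) :
    IsSmoothFunctor F := by
  obtain ⟨R, ξ, hv, -, -⟩ := exists_versal F h0 hRS.s1 hRS.heps hfin
  have hsm := isSmoothFunctor_of_t1 R (t1Lifts_of_versal ξ hv hT1)
  intro B A μ hμ y
  obtain ⟨φ, -, hφ⟩ := hv (toBase A) (toBase_surjective A) (homSetBase R.carrier R.res) y (h0.2.elim _ _)
  obtain ⟨ψ, hψ⟩ := hsm μ hμ φ
  refine ⟨ξ.app B ψ, ?_⟩
  rw [← ξ.natural, ← hφ]
  exact congrArg _ hψ

theorem res_comp_eq {R : CRing k k} (A : Art k k) (φ : R.carrier →ₐ[k] A) : A.res.comp φ = R.res :=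
  res_unique (A.res.comp φ) (fun c => ⟨algebraMap k _ c, (AlgHom.commutes _ c).trans rfl⟩)
    (Algebra.ofId k R.carrier) (fun c => ⟨c, (R.res.commutes c).trans rfl⟩)
    (AlgHom.ext fun c => ((A.res.comp φ).commutes c).trans (R.res.commutes c).symm)

theorem t1Lifts_of_modules (R : CRing k k)
    (h : ∀ (A : Art k k) (M M' : Type u) [AddCommGroup M] [Module A M] [Module (↥A)ᵐᵒᵖ M]
        [IsCentralScalar A M] [Module k M] [IsScalarTower k A M] [IsScalarTower k (↥A)ᵐᵒᵖ M]
        [AddCommGroup M'] [Module A M'] [Module (↥A)ᵐᵒᵖ M'] [IsCentralScalar A M'] [Module k M']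
        [IsScalarTower k A M'] [IsScalarTower k (↥A)ᵐᵒᵖ M'] (f : M' →ₗ[A] M), Function.Surjective f →
          ∀ φ : R.carrier →ₐ[k] TrivSqZeroExt A M, ∃ ψ : R.carrier →ₐ[k] TrivSqZeroExt A M',
              ∀ r : R.carrier, (ψ r).fst = (φ r).fst ∧ f (ψ r).snd = (φ r).snd) : T1Lifts R := by
  intro A N S φ
  let ν : TrivSqZeroExt A (Fin N → A) →ₐ[A] TrivSqZeroExt A ((Fin N → A) ⧸ S) := TrivSqZeroExt.map S.mkQ
  have hν : ∀ x ∈ tszSub0 A N S, (ν.restrictScalars k) x = 0 := fun x hx => by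
    refine TrivSqZeroExt.ext ((TrivSqZeroExt.fst_map _ _).trans hx.1) ((TrivSqZeroExt.snd_map _ _).trans ?_)
    exact (Submodule.Quotient.mk_eq_zero S).2 hx.2
  let ν' : (quot (tszArt A N) (tszSub A N S) (tszSub_le_max A N S)).carrier →ₐ[k] TrivSqZeroExt A ((Fin N → A) ⧸ S) :=
    Ideal.Quotient.liftₐ (tszSub0 A N S) (ν.restrictScalars k) hν
  obtain ⟨ψ, hψ⟩ := h A ((Fin N → A) ⧸ S) (Fin N → A) S.mkQ S.mkQ_surjective (ν'.comp φ.1)
  refine ⟨⟨(show R.carrier →ₐ[k] (tszArt A N).carrier from ψ), res_comp_eq (tszArt A N) ψ⟩, homSet_ext fun r => ?_⟩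
  obtain ⟨z, hz⟩ : ∃ z : TrivSqZeroExt A (Fin N → A), Ideal.Quotient.mk (tszSub0 A N S) z = φ.1 r :=
    Ideal.Quotient.mk_surjective (φ.1 r)
  refine Eq.trans ?_ hz
  refine Ideal.Quotient.eq.2 (show (ψ r - z) ∈ tszSub0 A N S from ⟨?_, ?_⟩)
  · rw [TrivSqZeroExt.fst_sub, sub_eq_zero, (hψ r).1]
    change (ν' (φ.1 r)).fst = _
    rw [← hz]
    exact TrivSqZeroExt.fst_map _ _
  · rw [TrivSqZeroExt.snd_sub, ← Submodule.Quotient.mk_eq_zero S, Submodule.Quotient.mk_sub, sub_eq_zero]
    refine (hψ r).2.trans ?_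
    change (ν' (φ.1 r)).snd = _
    rw [← hz]
    exact TrivSqZeroExt.snd_map _ _

end Groth.Agent.Misc9.SF
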