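import Groth.Agent.Misc9.SF.Cond

/-! Homogeneity from the Schlessinger conditions; torsors for a given realisation. -/

universe u v

set_option synthInstance.maxHeartbeats 20000

open CategoryTheory

namespace Groth.Agent.Misc9.SF

open ArtFun ArtFun.Art

variable {Λ k : Type u} [CommRing Λ] [Field k] [Algebra Λ k]

theorem res_eq_zero_of_mul {A B : Art Λ k} {p : B ⟶ A} (hp : IsSmallExt p) {t : B}
    (ht : RingHom.ker p.toAlgHom = Ideal.span {t}) {c : B} (h : c * t = 0) : B.res c = 0 := by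
  rw [← B.mem_maximalIdeal_iff]
  by_contra hu
  exact hp.2.1 (by rw [ht, (IsLocalRing.notMem_maximalIdeal.1 hu).mul_right_eq_zero.1 h, Ideal.span_singleton_eq_bot])

theorem rs_of_schlessinger (F : Art Λ k ⥤ Type v) (h0 : H0 F) (h1 : Hbar F) (h2 : Heps F) (h4 : HSq F) : RS F := by
  refine rs_of_small F fun B A A' A'' p' p'' f' f'' h hf =>
    ⟨cmp_injective_of fun z z' e e' => ?_, h1 p' p'' f' f'' h hf⟩
  obtain ⟨_, t'', ht0, htm, ht⟩ := (isSmallExt_iff f'').1 hf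
  have htk : f'' t'' = 0 := (ht.ge (Ideal.mem_span_singleton_self t'') : t'' ∈ RingHom.ker f''.toAlgHom)
  obtain ⟨t, htp, htp'⟩ := h.surj 0 t'' (by rw [map_zero, htk])
  have hp' : IsSmallExt p' := fp_isSmallExt h hf
  have htker : RingHom.ker p'.toAlgHom = Ideal.span {t} := by
    refine le_antisymm (fun x hx => ?_) ((Ideal.span_singleton_le_iff_mem _).2 htp)
    have hx'' : p'' x ∈ RingHom.ker f''.toAlgHom := by
      change f'' (p'' x) = 0
      rw [← h.w_apply, show p' x = 0 from hx, map_zero]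
    rw [ht] at hx''
    obtain ⟨c, hc⟩ := Ideal.mem_span_singleton'.1 hx''
    obtain ⟨c', hc'⟩ := B.res_surjective (A''.res c)
    refine Ideal.mem_span_singleton'.2 ⟨c', h.inj _ _ (by rw [map_mul, htp, mul_zero, show p' x = 0 from hx]) ?_⟩
    rw [map_mul, htp', ← hc, ← sub_eq_zero, ← sub_mul]
    exact htm _ (by rw [A''.mem_maximalIdeal_iff, map_sub, res_app, hc', sub_self])
  obtain ⟨P, p₁, p₂, hP⟩ := exists_fib p' p' hp'.1
  obtain ⟨g, hspec, hg⟩ := exists_diff p' hp' p₁ p₂ hP t htker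
  obtain ⟨Q, q₁, q₂, hQ⟩ := exists_fib f'' f'' hf.1
  obtain ⟨g', hspec', hg'⟩ := exists_diff f'' hf q₁ q₂ hQ t'' ht
  obtain ⟨r, hr₁, hr₂⟩ := fp_exists_lift hQ (p₁ ≫ p'') (p₂ ≫ p'')
    (by rw [Category.assoc, Category.assoc, ← h.w, ← Category.assoc, hP.w, Category.assoc])
  have hr₁' : ∀ x, q₁ (r x) = p'' (p₁ x) := fun x => by
    rw [← ArtFun.Art.comp_apply, hr₁]; rfl
  have hr₂' : ∀ x, q₂ (r x) = p'' (p₂ x) := fun x => by
    rw [← ArtFun.Art.comp_apply, hr₂]; rfl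
  have hrg : r ≫ g' = g := hom_ext' fun x => by
    have hfst : ((r ≫ g') x : DualNumber k).fst = (g x : DualNumber k).fst :=
      (res_app (r ≫ g') x).trans (res_app g x).symm
    refine TrivSqZeroExt.ext hfst ?_
    obtain ⟨c, hc, hct⟩ := hspec x
    obtain ⟨c', hc', hct'⟩ := hspec' (r x)
    change (g' (r x) : DualNumber k).snd = _
    rw [← hc', ← hc, ← res_app p'' c, ← sub_eq_zero, ← map_sub]
    refine res_eq_zero_of_mul hf ht ?_
    rw [sub_mul, sub_eq_zero, hct', hr₁', hr₂', ← htp', ← map_mul, hct, map_sub]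
  let T : Tor p' := ⟨P, p₁, p₂, g, hP, hg, fun x hx => by
    obtain ⟨c, hc, hct⟩ := hspec x
    rw [hx, sub_self] at hct
    rw [← hc]
    exact res_eq_zero_of_mul hp' htker hct⟩
  let T' : Tor f'' := ⟨Q, q₁, q₂, g', hQ, hg', fun x hx => by
    obtain ⟨c, hc, hct⟩ := hspec' x
    rw [hx, sub_self] at hct
    rw [← hc]
    exact res_eq_zero_of_mul hf ht hct⟩
  obtain ⟨θ, hθ⟩ := T.transitive h1 hp' (y := z) (y' := z') e
  obtain ⟨x₀⟩ := h0.1
  have hθ'' : T'.Rel F θ (F.map p'' z) (F.map p'' z') := by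
    obtain ⟨w, hw1, hw2, hw3⟩ := hθ
    refine ⟨F.map r w, ?_, ?_, ?_⟩
    · rw [map_map, hr₁, ← map_map, hw1]
    · rw [map_map, hrg, hw2]
    · rw [map_map, hr₂, ← map_map, hw3]
  rw [← e'] at hθ''
  rw [T'.free h4 hf hθ'' (T'.rel_zero h0.2 x₀ _)] at hθ
  exact T.rel_unique h2 (T.rel_zero h0.2 x₀ z) hθ

section Given

variable {A B P : Art Λ k} {p : B ⟶ A} (hp : IsSmallExt p) {t : B} (ht : RingHom.ker p.toAlgHom = Ideal.span {t})
  {p₁ p₂ : P ⟶ B} (hP : IsFibreProd p₁ p₂ p p) {g : P ⟶ dual Λ k}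
  (hg : ∀ z : P, ∃ c : B, B.res c = (g z).snd ∧ c * t = p₂ z - p₁ z)
  (h' : IsFibreProd p₁ g (toBase B) (toBase (dual Λ k)))

include hp ht hg in
/-- The realisation given by explicit data. -/
theorem exists_tor_of : ∃ T : Tor p, T = ⟨P, p₁, p₂, g, hP, h', fun z hz => by
    obtain ⟨c, hc, hct⟩ := hg z
    rw [hz, sub_self] at hct
    rw [← hc]
    exact res_eq_zero_of_mul hp ht hct⟩ := ⟨_, rfl⟩

end Given

theorem action_rel {F : Art Λ k ⥤ Type v} {A B : Art Λ k} {p : B ⟶ A} (T : Tor p) (h2 : Heps F) (y : F.obj B)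
    (θ : F.obj (dual Λ k)) (e : F.map (toBase B) y = F.map (toBase (dual Λ k)) θ) :
    T.Rel F θ y (F.map T.p₂ ((Equiv.ofBijective (cmp F T.hg) (h2 T.p₁ T.g T.hg)).symm ⟨(y, θ), e⟩)) := by
  have h := (Equiv.ofBijective (cmp F T.hg) (h2 T.p₁ T.g T.hg)).apply_symm_apply ⟨(y, θ), e⟩
  exact ⟨_, congrArg (fun t => t.1.1) h, congrArg (fun t => t.1.2) h, rfl⟩

end Groth.Agent.Misc9.SF
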